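-- Certificate checks for Fi24a.
import Cfsg.Agent.Lib.Compute.TC.Fi24a.Data
import Cfsg.Agent.Lib.Compute.TCSplit
set_option autoImplicit false
set_option Elab.async false
set_option maxRecDepth 1000000

open Cfsg.Agent.Lib.Compute.ToddCoxeterCore Cfsg.Agent.Lib.Compute.ToddCoxeterPresented Cfsg.Agent.Lib.Compute.TCFast

open Cfsg.Agent.Lib.Compute.TCSplit

namespace Cfsg.Agent.Lib.Compute.TC.Fi24a

theorem finAllx0 : allFrom (cfg.chkFin (List.range cfg.L)) (nat_lit 9592) (nat_lit 0) = true := by decide +kernel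
theorem finAllx1 : allFrom (cfg.chkFin (List.range cfg.L)) (nat_lit 9592) (nat_lit 9592) = true := by decide +kernel
theorem finAllx2 : allFrom (cfg.chkFin (List.range cfg.L)) (nat_lit 9592) (nat_lit 19184) = true := by decide +kernel
theorem finAllx3 : allFrom (cfg.chkFin (List.range cfg.L)) (nat_lit 9592) (nat_lit 28776) = true := by decide +kernel
theorem finAllx4 : allFrom (cfg.chkFin (List.range cfg.L)) (nat_lit 9592) (nat_lit 38368) = true := by decide +kernel
theorem finAllx5 : allFrom (cfg.chkFin (List.range cfg.L)) (nat_lit 9592) (nat_lit 47960) = true := by decide +kernel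
theorem finAllx6 : allFrom (cfg.chkFin (List.range cfg.L)) (nat_lit 9592) (nat_lit 57552) = true := by decide +kernel
theorem finAllx7 : allFrom (cfg.chkFin (List.range cfg.L)) (nat_lit 9592) (nat_lit 67144) = true := by decide +kernel
theorem finAllx8 : allFrom (cfg.chkFin (List.range cfg.L)) (nat_lit 9592) (nat_lit 76736) = true := by decide +kernel
theorem finAllx9 : allFrom (cfg.chkFin (List.range cfg.L)) (nat_lit 9592) (nat_lit 86328) = true := by decide +kernel
theorem finAllx10 : allFrom (cfg.chkFin (List.range cfg.L)) (nat_lit 9592) (nat_lit 95920) = true := by decide +kernel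
theorem finAllx11 : allFrom (cfg.chkFin (List.range cfg.L)) (nat_lit 9592) (nat_lit 105512) = true := by decide +kernel
theorem finAllx12 : allFrom (cfg.chkFin (List.range cfg.L)) (nat_lit 9592) (nat_lit 115104) = true := by decide +kernel
theorem finAllx13 : allFrom (cfg.chkFin (List.range cfg.L)) (nat_lit 9592) (nat_lit 124696) = true := by decide +kernel
theorem finAllx14 : allFrom (cfg.chkFin (List.range cfg.L)) (nat_lit 9592) (nat_lit 134288) = true := by decide +kernel
theorem finAllx15 : allFrom (cfg.chkFin (List.range cfg.L)) (nat_lit 9592) (nat_lit 143880) = true := by decide +kernel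
theorem finAllx16 : allFrom (cfg.chkFin (List.range cfg.L)) (nat_lit 9592) (nat_lit 153472) = true := by decide +kernel
theorem finAllx17 : allFrom (cfg.chkFin (List.range cfg.L)) (nat_lit 9592) (nat_lit 163064) = true := by decide +kernel
theorem finAllx18 : allFrom (cfg.chkFin (List.range cfg.L)) (nat_lit 9592) (nat_lit 172656) = true := by decide +kernel
theorem finAllx19 : allFrom (cfg.chkFin (List.range cfg.L)) (nat_lit 9592) (nat_lit 182248) = true := by decide +kernel
theorem finAllx20 : allFrom (cfg.chkFin (List.range cfg.L)) (nat_lit 9592) (nat_lit 191840) = true := by decide +kernel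
theorem finAllx21 : allFrom (cfg.chkFin (List.range cfg.L)) (nat_lit 9592) (nat_lit 201432) = true := by decide +kernel
theorem finAllx22 : allFrom (cfg.chkFin (List.range cfg.L)) (nat_lit 9592) (nat_lit 211024) = true := by decide +kernel
theorem finAllx23 : allFrom (cfg.chkFin (List.range cfg.L)) (nat_lit 9592) (nat_lit 220616) = true := by decide +kernel
theorem finAllx24 : allFrom (cfg.chkFin (List.range cfg.L)) (nat_lit 9591) (nat_lit 230208) = true := by decide +kernel
theorem finAllx25 : allFrom (cfg.chkFin (List.range cfg.L)) (nat_lit 9591) (nat_lit 239799) = true := by decide +kernel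
theorem finAllx26 : allFrom (cfg.chkFin (List.range cfg.L)) (nat_lit 9591) (nat_lit 249390) = true := by decide +kernel
theorem finAllx27 : allFrom (cfg.chkFin (List.range cfg.L)) (nat_lit 9591) (nat_lit 258981) = true := by decide +kernel
theorem finAllx28 : allFrom (cfg.chkFin (List.range cfg.L)) (nat_lit 9591) (nat_lit 268572) = true := by decide +kernel
theorem finAllx29 : allFrom (cfg.chkFin (List.range cfg.L)) (nat_lit 9591) (nat_lit 278163) = true := by decide +kernel
theorem finAllx30 : allFrom (cfg.chkFin (List.range cfg.L)) (nat_lit 9591) (nat_lit 287754) = true := by decide +kernel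
theorem finAllx31 : allFrom (cfg.chkFin (List.range cfg.L)) (nat_lit 9591) (nat_lit 297345) = true := by decide +kernel
theorem finAllc1 : allFrom (cfg.chkFin (List.range cfg.L)) (nat_lit 19184) (nat_lit 0) = true := join finAllx0 finAllx1 rfl rfl
theorem finAllc2 : allFrom (cfg.chkFin (List.range cfg.L)) (nat_lit 28776) (nat_lit 0) = true := join finAllc1 finAllx2 rfl rfl
theorem finAllc3 : allFrom (cfg.chkFin (List.range cfg.L)) (nat_lit 38368) (nat_lit 0) = true := join finAllc2 finAllx3 rfl rfl
theorem finAllc4 : allFrom (cfg.chkFin (List.range cfg.L)) (nat_lit 47960) (nat_lit 0) = true := join finAllc3 finAllx4 rfl rfl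
theorem finAllc5 : allFrom (cfg.chkFin (List.range cfg.L)) (nat_lit 57552) (nat_lit 0) = true := join finAllc4 finAllx5 rfl rfl
theorem finAllc6 : allFrom (cfg.chkFin (List.range cfg.L)) (nat_lit 67144) (nat_lit 0) = true := join finAllc5 finAllx6 rfl rfl
theorem finAllc7 : allFrom (cfg.chkFin (List.range cfg.L)) (nat_lit 76736) (nat_lit 0) = true := join finAllc6 finAllx7 rfl rfl
theorem finAllc8 : allFrom (cfg.chkFin (List.range cfg.L)) (nat_lit 86328) (nat_lit 0) = true := join finAllc7 finAllx8 rfl rfl
theorem finAllc9 : allFrom (cfg.chkFin (List.range cfg.L)) (nat_lit 95920) (nat_lit 0) = true := join finAllc8 finAllx9 rfl rfl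
theorem finAllc10 : allFrom (cfg.chkFin (List.range cfg.L)) (nat_lit 105512) (nat_lit 0) = true := join finAllc9 finAllx10 rfl rfl
theorem finAllc11 : allFrom (cfg.chkFin (List.range cfg.L)) (nat_lit 115104) (nat_lit 0) = true := join finAllc10 finAllx11 rfl rfl
theorem finAllc12 : allFrom (cfg.chkFin (List.range cfg.L)) (nat_lit 124696) (nat_lit 0) = true := join finAllc11 finAllx12 rfl rfl
theorem finAllc13 : allFrom (cfg.chkFin (List.range cfg.L)) (nat_lit 134288) (nat_lit 0) = true := join finAllc12 finAllx13 rfl rfl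
theorem finAllc14 : allFrom (cfg.chkFin (List.range cfg.L)) (nat_lit 143880) (nat_lit 0) = true := join finAllc13 finAllx14 rfl rfl
theorem finAllc15 : allFrom (cfg.chkFin (List.range cfg.L)) (nat_lit 153472) (nat_lit 0) = true := join finAllc14 finAllx15 rfl rfl
theorem finAllc16 : allFrom (cfg.chkFin (List.range cfg.L)) (nat_lit 163064) (nat_lit 0) = true := join finAllc15 finAllx16 rfl rfl
theorem finAllc17 : allFrom (cfg.chkFin (List.range cfg.L)) (nat_lit 172656) (nat_lit 0) = true := join finAllc16 finAllx17 rfl rfl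
theorem finAllc18 : allFrom (cfg.chkFin (List.range cfg.L)) (nat_lit 182248) (nat_lit 0) = true := join finAllc17 finAllx18 rfl rfl
theorem finAllc19 : allFrom (cfg.chkFin (List.range cfg.L)) (nat_lit 191840) (nat_lit 0) = true := join finAllc18 finAllx19 rfl rfl
theorem finAllc20 : allFrom (cfg.chkFin (List.range cfg.L)) (nat_lit 201432) (nat_lit 0) = true := join finAllc19 finAllx20 rfl rfl
theorem finAllc21 : allFrom (cfg.chkFin (List.range cfg.L)) (nat_lit 211024) (nat_lit 0) = true := join finAllc20 finAllx21 rfl rfl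
theorem finAllc22 : allFrom (cfg.chkFin (List.range cfg.L)) (nat_lit 220616) (nat_lit 0) = true := join finAllc21 finAllx22 rfl rfl
theorem finAllc23 : allFrom (cfg.chkFin (List.range cfg.L)) (nat_lit 230208) (nat_lit 0) = true := join finAllc22 finAllx23 rfl rfl
theorem finAllc24 : allFrom (cfg.chkFin (List.range cfg.L)) (nat_lit 239799) (nat_lit 0) = true := join finAllc23 finAllx24 rfl rfl
theorem finAllc25 : allFrom (cfg.chkFin (List.range cfg.L)) (nat_lit 249390) (nat_lit 0) = true := join finAllc24 finAllx25 rfl rfl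
theorem finAllc26 : allFrom (cfg.chkFin (List.range cfg.L)) (nat_lit 258981) (nat_lit 0) = true := join finAllc25 finAllx26 rfl rfl
theorem finAllc27 : allFrom (cfg.chkFin (List.range cfg.L)) (nat_lit 268572) (nat_lit 0) = true := join finAllc26 finAllx27 rfl rfl
theorem finAllc28 : allFrom (cfg.chkFin (List.range cfg.L)) (nat_lit 278163) (nat_lit 0) = true := join finAllc27 finAllx28 rfl rfl
theorem finAllc29 : allFrom (cfg.chkFin (List.range cfg.L)) (nat_lit 287754) (nat_lit 0) = true := join finAllc28 finAllx29 rfl rfl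
theorem finAllc30 : allFrom (cfg.chkFin (List.range cfg.L)) (nat_lit 297345) (nat_lit 0) = true := join finAllc29 finAllx30 rfl rfl
theorem finAll : allFrom (cfg.chkFin (List.range cfg.L)) (nat_lit 306936) (nat_lit 0) = true := join finAllc30 finAllx31 rfl rfl
theorem qAllx0 : allFrom cfg.chkQ (nat_lit 9592) (nat_lit 1) = true := by decide +kernel
theorem qAllx1 : allFrom cfg.chkQ (nat_lit 9592) (nat_lit 9593) = true := by decide +kernel
theorem qAllx2 : allFrom cfg.chkQ (nat_lit 9592) (nat_lit 19185) = true := by decide +kernel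
theorem qAllx3 : allFrom cfg.chkQ (nat_lit 9592) (nat_lit 28777) = true := by decide +kernel
theorem qAllx4 : allFrom cfg.chkQ (nat_lit 9592) (nat_lit 38369) = true := by decide +kernel
theorem qAllx5 : allFrom cfg.chkQ (nat_lit 9592) (nat_lit 47961) = true := by decide +kernel
theorem qAllx6 : allFrom cfg.chkQ (nat_lit 9592) (nat_lit 57553) = true := by decide +kernel
theorem qAllx7 : allFrom cfg.chkQ (nat_lit 9592) (nat_lit 67145) = true := by decide +kernel
theorem qAllx8 : allFrom cfg.chkQ (nat_lit 9592) (nat_lit 76737) = true := by decide +kernel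
theorem qAllx9 : allFrom cfg.chkQ (nat_lit 9592) (nat_lit 86329) = true := by decide +kernel
theorem qAllx10 : allFrom cfg.chkQ (nat_lit 9592) (nat_lit 95921) = true := by decide +kernel
theorem qAllx11 : allFrom cfg.chkQ (nat_lit 9592) (nat_lit 105513) = true := by decide +kernel
theorem qAllx12 : allFrom cfg.chkQ (nat_lit 9592) (nat_lit 115105) = true := by decide +kernel
theorem qAllx13 : allFrom cfg.chkQ (nat_lit 9592) (nat_lit 124697) = true := by decide +kernel
theorem qAllx14 : allFrom cfg.chkQ (nat_lit 9592) (nat_lit 134289) = true := by decide +kernel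
theorem qAllx15 : allFrom cfg.chkQ (nat_lit 9592) (nat_lit 143881) = true := by decide +kernel
theorem qAllx16 : allFrom cfg.chkQ (nat_lit 9592) (nat_lit 153473) = true := by decide +kernel
theorem qAllx17 : allFrom cfg.chkQ (nat_lit 9592) (nat_lit 163065) = true := by decide +kernel
theorem qAllx18 : allFrom cfg.chkQ (nat_lit 9592) (nat_lit 172657) = true := by decide +kernel
theorem qAllx19 : allFrom cfg.chkQ (nat_lit 9592) (nat_lit 182249) = true := by decide +kernel
theorem qAllx20 : allFrom cfg.chkQ (nat_lit 9592) (nat_lit 191841) = true := by decide +kernel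
theorem qAllx21 : allFrom cfg.chkQ (nat_lit 9592) (nat_lit 201433) = true := by decide +kernel
theorem qAllx22 : allFrom cfg.chkQ (nat_lit 9592) (nat_lit 211025) = true := by decide +kernel
theorem qAllx23 : allFrom cfg.chkQ (nat_lit 9591) (nat_lit 220617) = true := by decide +kernel
theorem qAllx24 : allFrom cfg.chkQ (nat_lit 9591) (nat_lit 230208) = true := by decide +kernel
theorem qAllx25 : allFrom cfg.chkQ (nat_lit 9591) (nat_lit 239799) = true := by decide +kernel
theorem qAllx26 : allFrom cfg.chkQ (nat_lit 9591) (nat_lit 249390) = true := by decide +kernel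
theorem qAllx27 : allFrom cfg.chkQ (nat_lit 9591) (nat_lit 258981) = true := by decide +kernel
theorem qAllx28 : allFrom cfg.chkQ (nat_lit 9591) (nat_lit 268572) = true := by decide +kernel
theorem qAllx29 : allFrom cfg.chkQ (nat_lit 9591) (nat_lit 278163) = true := by decide +kernel
theorem qAllx30 : allFrom cfg.chkQ (nat_lit 9591) (nat_lit 287754) = true := by decide +kernel
theorem qAllx31 : allFrom cfg.chkQ (nat_lit 9591) (nat_lit 297345) = true := by decide +kernel
theorem qAllc1 : allFrom cfg.chkQ (nat_lit 19184) (nat_lit 1) = true := join qAllx0 qAllx1 rfl rfl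
theorem qAllc2 : allFrom cfg.chkQ (nat_lit 28776) (nat_lit 1) = true := join qAllc1 qAllx2 rfl rfl
theorem qAllc3 : allFrom cfg.chkQ (nat_lit 38368) (nat_lit 1) = true := join qAllc2 qAllx3 rfl rfl
theorem qAllc4 : allFrom cfg.chkQ (nat_lit 47960) (nat_lit 1) = true := join qAllc3 qAllx4 rfl rfl
theorem qAllc5 : allFrom cfg.chkQ (nat_lit 57552) (nat_lit 1) = true := join qAllc4 qAllx5 rfl rfl
theorem qAllc6 : allFrom cfg.chkQ (nat_lit 67144) (nat_lit 1) = true := join qAllc5 qAllx6 rfl rfl
theorem qAllc7 : allFrom cfg.chkQ (nat_lit 76736) (nat_lit 1) = true := join qAllc6 qAllx7 rfl rfl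
theorem qAllc8 : allFrom cfg.chkQ (nat_lit 86328) (nat_lit 1) = true := join qAllc7 qAllx8 rfl rfl
theorem qAllc9 : allFrom cfg.chkQ (nat_lit 95920) (nat_lit 1) = true := join qAllc8 qAllx9 rfl rfl
theorem qAllc10 : allFrom cfg.chkQ (nat_lit 105512) (nat_lit 1) = true := join qAllc9 qAllx10 rfl rfl
theorem qAllc11 : allFrom cfg.chkQ (nat_lit 115104) (nat_lit 1) = true := join qAllc10 qAllx11 rfl rfl
theorem qAllc12 : allFrom cfg.chkQ (nat_lit 124696) (nat_lit 1) = true := join qAllc11 qAllx12 rfl rfl
theorem qAllc13 : allFrom cfg.chkQ (nat_lit 134288) (nat_lit 1) = true := join qAllc12 qAllx13 rfl rfl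
theorem qAllc14 : allFrom cfg.chkQ (nat_lit 143880) (nat_lit 1) = true := join qAllc13 qAllx14 rfl rfl
theorem qAllc15 : allFrom cfg.chkQ (nat_lit 153472) (nat_lit 1) = true := join qAllc14 qAllx15 rfl rfl
theorem qAllc16 : allFrom cfg.chkQ (nat_lit 163064) (nat_lit 1) = true := join qAllc15 qAllx16 rfl rfl
theorem qAllc17 : allFrom cfg.chkQ (nat_lit 172656) (nat_lit 1) = true := join qAllc16 qAllx17 rfl rfl
theorem qAllc18 : allFrom cfg.chkQ (nat_lit 182248) (nat_lit 1) = true := join qAllc17 qAllx18 rfl rfl
theorem qAllc19 : allFrom cfg.chkQ (nat_lit 191840) (nat_lit 1) = true := join qAllc18 qAllx19 rfl rfl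
theorem qAllc20 : allFrom cfg.chkQ (nat_lit 201432) (nat_lit 1) = true := join qAllc19 qAllx20 rfl rfl
theorem qAllc21 : allFrom cfg.chkQ (nat_lit 211024) (nat_lit 1) = true := join qAllc20 qAllx21 rfl rfl
theorem qAllc22 : allFrom cfg.chkQ (nat_lit 220616) (nat_lit 1) = true := join qAllc21 qAllx22 rfl rfl
theorem qAllc23 : allFrom cfg.chkQ (nat_lit 230207) (nat_lit 1) = true := join qAllc22 qAllx23 rfl rfl
theorem qAllc24 : allFrom cfg.chkQ (nat_lit 239798) (nat_lit 1) = true := join qAllc23 qAllx24 rfl rfl
theorem qAllc25 : allFrom cfg.chkQ (nat_lit 249389) (nat_lit 1) = true := join qAllc24 qAllx25 rfl rfl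
theorem qAllc26 : allFrom cfg.chkQ (nat_lit 258980) (nat_lit 1) = true := join qAllc25 qAllx26 rfl rfl
theorem qAllc27 : allFrom cfg.chkQ (nat_lit 268571) (nat_lit 1) = true := join qAllc26 qAllx27 rfl rfl
theorem qAllc28 : allFrom cfg.chkQ (nat_lit 278162) (nat_lit 1) = true := join qAllc27 qAllx28 rfl rfl
theorem qAllc29 : allFrom cfg.chkQ (nat_lit 287753) (nat_lit 1) = true := join qAllc28 qAllx29 rfl rfl
theorem qAllc30 : allFrom cfg.chkQ (nat_lit 297344) (nat_lit 1) = true := join qAllc29 qAllx30 rfl rfl
theorem qAll : allFrom cfg.chkQ (nat_lit 306935) (nat_lit 1) = true := join qAllc30 qAllx31 rfl rfl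
theorem lblAllx0 : allFrom cfg.chkLbl (nat_lit 10941) (nat_lit 1) = true := by decide +kernel
theorem lblAllx1 : allFrom cfg.chkLbl (nat_lit 10941) (nat_lit 10942) = true := by decide +kernel
theorem lblAllx2 : allFrom cfg.chkLbl (nat_lit 10941) (nat_lit 21883) = true := by decide +kernel
theorem lblAllx3 : allFrom cfg.chkLbl (nat_lit 10940) (nat_lit 32824) = true := by decide +kernel
theorem lblAllx4 : allFrom cfg.chkLbl (nat_lit 10940) (nat_lit 43764) = true := by decide +kernel
theorem lblAllx5 : allFrom cfg.chkLbl (nat_lit 10940) (nat_lit 54704) = true := by decide +kernel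
theorem lblAllx6 : allFrom cfg.chkLbl (nat_lit 10940) (nat_lit 65644) = true := by decide +kernel
theorem lblAllx7 : allFrom cfg.chkLbl (nat_lit 10940) (nat_lit 76584) = true := by decide +kernel
theorem lblAllx8 : allFrom cfg.chkLbl (nat_lit 10940) (nat_lit 87524) = true := by decide +kernel
theorem lblAllx9 : allFrom cfg.chkLbl (nat_lit 10940) (nat_lit 98464) = true := by decide +kernel
theorem lblAllx10 : allFrom cfg.chkLbl (nat_lit 10940) (nat_lit 109404) = true := by decide +kernel
theorem lblAllx11 : allFrom cfg.chkLbl (nat_lit 10940) (nat_lit 120344) = true := by decide +kernel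
theorem lblAllx12 : allFrom cfg.chkLbl (nat_lit 10940) (nat_lit 131284) = true := by decide +kernel
theorem lblAllx13 : allFrom cfg.chkLbl (nat_lit 10940) (nat_lit 142224) = true := by decide +kernel
theorem lblAllx14 : allFrom cfg.chkLbl (nat_lit 10940) (nat_lit 153164) = true := by decide +kernel
theorem lblAllx15 : allFrom cfg.chkLbl (nat_lit 10940) (nat_lit 164104) = true := by decide +kernel
theorem lblAllx16 : allFrom cfg.chkLbl (nat_lit 10940) (nat_lit 175044) = true := by decide +kernel
theorem lblAllx17 : allFrom cfg.chkLbl (nat_lit 10940) (nat_lit 185984) = true := by decide +kernel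
theorem lblAllx18 : allFrom cfg.chkLbl (nat_lit 10940) (nat_lit 196924) = true := by decide +kernel
theorem lblAllx19 : allFrom cfg.chkLbl (nat_lit 10940) (nat_lit 207864) = true := by decide +kernel
theorem lblAllx20 : allFrom cfg.chkLbl (nat_lit 10940) (nat_lit 218804) = true := by decide +kernel
theorem lblAllx21 : allFrom cfg.chkLbl (nat_lit 10940) (nat_lit 229744) = true := by decide +kernel
theorem lblAllx22 : allFrom cfg.chkLbl (nat_lit 10940) (nat_lit 240684) = true := by decide +kernel
theorem lblAllx23 : allFrom cfg.chkLbl (nat_lit 10940) (nat_lit 251624) = true := by decide +kernel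
theorem lblAllx24 : allFrom cfg.chkLbl (nat_lit 10940) (nat_lit 262564) = true := by decide +kernel
theorem lblAllx25 : allFrom cfg.chkLbl (nat_lit 10940) (nat_lit 273504) = true := by decide +kernel
theorem lblAllx26 : allFrom cfg.chkLbl (nat_lit 10940) (nat_lit 284444) = true := by decide +kernel
theorem lblAllx27 : allFrom cfg.chkLbl (nat_lit 10940) (nat_lit 295384) = true := by decide +kernel
theorem lblAllx28 : allFrom cfg.chkLbl (nat_lit 10940) (nat_lit 306324) = true := by decide +kernel
theorem lblAllx29 : allFrom cfg.chkLbl (nat_lit 10940) (nat_lit 317264) = true := by decide +kernel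
theorem lblAllx30 : allFrom cfg.chkLbl (nat_lit 10940) (nat_lit 328204) = true := by decide +kernel
theorem lblAllx31 : allFrom cfg.chkLbl (nat_lit 10940) (nat_lit 339144) = true := by decide +kernel
theorem lblAllc1 : allFrom cfg.chkLbl (nat_lit 21882) (nat_lit 1) = true := join lblAllx0 lblAllx1 rfl rfl
theorem lblAllc2 : allFrom cfg.chkLbl (nat_lit 32823) (nat_lit 1) = true := join lblAllc1 lblAllx2 rfl rfl
theorem lblAllc3 : allFrom cfg.chkLbl (nat_lit 43763) (nat_lit 1) = true := join lblAllc2 lblAllx3 rfl rfl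
theorem lblAllc4 : allFrom cfg.chkLbl (nat_lit 54703) (nat_lit 1) = true := join lblAllc3 lblAllx4 rfl rfl
theorem lblAllc5 : allFrom cfg.chkLbl (nat_lit 65643) (nat_lit 1) = true := join lblAllc4 lblAllx5 rfl rfl
theorem lblAllc6 : allFrom cfg.chkLbl (nat_lit 76583) (nat_lit 1) = true := join lblAllc5 lblAllx6 rfl rfl
theorem lblAllc7 : allFrom cfg.chkLbl (nat_lit 87523) (nat_lit 1) = true := join lblAllc6 lblAllx7 rfl rfl
theorem lblAllc8 : allFrom cfg.chkLbl (nat_lit 98463) (nat_lit 1) = true := join lblAllc7 lblAllx8 rfl rfl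
theorem lblAllc9 : allFrom cfg.chkLbl (nat_lit 109403) (nat_lit 1) = true := join lblAllc8 lblAllx9 rfl rfl
theorem lblAllc10 : allFrom cfg.chkLbl (nat_lit 120343) (nat_lit 1) = true := join lblAllc9 lblAllx10 rfl rfl
theorem lblAllc11 : allFrom cfg.chkLbl (nat_lit 131283) (nat_lit 1) = true := join lblAllc10 lblAllx11 rfl rfl
theorem lblAllc12 : allFrom cfg.chkLbl (nat_lit 142223) (nat_lit 1) = true := join lblAllc11 lblAllx12 rfl rfl
theorem lblAllc13 : allFrom cfg.chkLbl (nat_lit 153163) (nat_lit 1) = true := join lblAllc12 lblAllx13 rfl rfl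
theorem lblAllc14 : allFrom cfg.chkLbl (nat_lit 164103) (nat_lit 1) = true := join lblAllc13 lblAllx14 rfl rfl
theorem lblAllc15 : allFrom cfg.chkLbl (nat_lit 175043) (nat_lit 1) = true := join lblAllc14 lblAllx15 rfl rfl
theorem lblAllc16 : allFrom cfg.chkLbl (nat_lit 185983) (nat_lit 1) = true := join lblAllc15 lblAllx16 rfl rfl
theorem lblAllc17 : allFrom cfg.chkLbl (nat_lit 196923) (nat_lit 1) = true := join lblAllc16 lblAllx17 rfl rfl
theorem lblAllc18 : allFrom cfg.chkLbl (nat_lit 207863) (nat_lit 1) = true := join lblAllc17 lblAllx18 rfl rfl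
theorem lblAllc19 : allFrom cfg.chkLbl (nat_lit 218803) (nat_lit 1) = true := join lblAllc18 lblAllx19 rfl rfl
theorem lblAllc20 : allFrom cfg.chkLbl (nat_lit 229743) (nat_lit 1) = true := join lblAllc19 lblAllx20 rfl rfl
theorem lblAllc21 : allFrom cfg.chkLbl (nat_lit 240683) (nat_lit 1) = true := join lblAllc20 lblAllx21 rfl rfl
theorem lblAllc22 : allFrom cfg.chkLbl (nat_lit 251623) (nat_lit 1) = true := join lblAllc21 lblAllx22 rfl rfl
theorem lblAllc23 : allFrom cfg.chkLbl (nat_lit 262563) (nat_lit 1) = true := join lblAllc22 lblAllx23 rfl rfl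
theorem lblAllc24 : allFrom cfg.chkLbl (nat_lit 273503) (nat_lit 1) = true := join lblAllc23 lblAllx24 rfl rfl
theorem lblAllc25 : allFrom cfg.chkLbl (nat_lit 284443) (nat_lit 1) = true := join lblAllc24 lblAllx25 rfl rfl
theorem lblAllc26 : allFrom cfg.chkLbl (nat_lit 295383) (nat_lit 1) = true := join lblAllc25 lblAllx26 rfl rfl
theorem lblAllc27 : allFrom cfg.chkLbl (nat_lit 306323) (nat_lit 1) = true := join lblAllc26 lblAllx27 rfl rfl
theorem lblAllc28 : allFrom cfg.chkLbl (nat_lit 317263) (nat_lit 1) = true := join lblAllc27 lblAllx28 rfl rfl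
theorem lblAllc29 : allFrom cfg.chkLbl (nat_lit 328203) (nat_lit 1) = true := join lblAllc28 lblAllx29 rfl rfl
theorem lblAllc30 : allFrom cfg.chkLbl (nat_lit 339143) (nat_lit 1) = true := join lblAllc29 lblAllx30 rfl rfl
theorem lblAll : allFrom cfg.chkLbl (nat_lit 350083) (nat_lit 1) = true := join lblAllc30 lblAllx31 rfl rfl

end Cfsg.Agent.Lib.Compute.TC.Fi24a
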