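-- Certificate checks for Fi24a.
import Cfsg.Agent.Lib.Compute.TC.Fi24a.Data
import Cfsg.Agent.Lib.Compute.TCSplit
set_option autoImplicit false
set_option Elab.async false
set_option maxRecDepth 1000000

open Cfsg.Agent.Lib.Compute.ToddCoxeterCore Cfsg.Agent.Lib.Compute.ToddCoxeterPresented Cfsg.Agent.Lib.Compute.TCFast

open Cfsg.Agent.Lib.Compute.TCSplit

namespace Cfsg.Agent.Lib.Compute.TC.Fi24a

theorem keys49x0 : allFrom cfg.chkKey (nat_lit 16250) (nat_lit 3184999) = true := by decide +kernel
theorem keys49x1 : allFrom cfg.chkKey (nat_lit 16250) (nat_lit 3201249) = true := by decide +kernel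
theorem keys49x2 : allFrom cfg.chkKey (nat_lit 16250) (nat_lit 3217499) = true := by decide +kernel
theorem keys49x3 : allFrom cfg.chkKey (nat_lit 16250) (nat_lit 3233749) = true := by decide +kernel
theorem keys49c1 : allFrom cfg.chkKey (nat_lit 32500) (nat_lit 3184999) = true := join keys49x0 keys49x1 rfl rfl
theorem keys49c2 : allFrom cfg.chkKey (nat_lit 48750) (nat_lit 3184999) = true := join keys49c1 keys49x2 rfl rfl
theorem keys49 : allFrom cfg.chkKey (nat_lit 65000) (nat_lit 3184999) = true := join keys49c2 keys49x3 rfl rfl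

end Cfsg.Agent.Lib.Compute.TC.Fi24a
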