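-- Certificate checks for Fi24a.
import Cfsg.Agent.Lib.Compute.TC.Fi24a.Data
import Cfsg.Agent.Lib.Compute.TCSplit
set_option autoImplicit false
set_option Elab.async false
set_option maxRecDepth 1000000

open Cfsg.Agent.Lib.Compute.ToddCoxeterCore Cfsg.Agent.Lib.Compute.ToddCoxeterPresented Cfsg.Agent.Lib.Compute.TCFast

open Cfsg.Agent.Lib.Compute.TCSplit

namespace Cfsg.Agent.Lib.Compute.TC.Fi24a

theorem keys61x0 : allFrom cfg.chkKey (nat_lit 29445) (nat_lit 3964999) = true := by decide +kernel
theorem keys61x1 : allFrom cfg.chkKey (nat_lit 29445) (nat_lit 3994444) = true := by decide +kernel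
theorem keys61x2 : allFrom cfg.chkKey (nat_lit 29445) (nat_lit 4023889) = true := by decide +kernel
theorem keys61x3 : allFrom cfg.chkKey (nat_lit 29444) (nat_lit 4053334) = true := by decide +kernel
theorem keys61c1 : allFrom cfg.chkKey (nat_lit 58890) (nat_lit 3964999) = true := join keys61x0 keys61x1 rfl rfl
theorem keys61c2 : allFrom cfg.chkKey (nat_lit 88335) (nat_lit 3964999) = true := join keys61c1 keys61x2 rfl rfl
theorem keys61 : allFrom cfg.chkKey (nat_lit 117779) (nat_lit 3964999) = true := join keys61c2 keys61x3 rfl rfl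

end Cfsg.Agent.Lib.Compute.TC.Fi24a
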