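-- Certificate checks for Fi24a.
import Cfsg.Agent.Lib.Compute.TC.Fi24a.Data
import Cfsg.Agent.Lib.Compute.TCSplit
set_option autoImplicit false
set_option Elab.async false
set_option maxRecDepth 1000000

open Cfsg.Agent.Lib.Compute.ToddCoxeterCore Cfsg.Agent.Lib.Compute.ToddCoxeterPresented Cfsg.Agent.Lib.Compute.TCFast

open Cfsg.Agent.Lib.Compute.TCSplit

namespace Cfsg.Agent.Lib.Compute.TC.Fi24a

theorem keys62x0 : allFrom cfg.chkKey (nat_lit 35908) (nat_lit 4082778) = true := by decide +kernel
theorem keys62x1 : allFrom cfg.chkKey (nat_lit 35908) (nat_lit 4118686) = true := by decide +kernel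
theorem keys62x2 : allFrom cfg.chkKey (nat_lit 35908) (nat_lit 4154594) = true := by decide +kernel
theorem keys62x3 : allFrom cfg.chkKey (nat_lit 35907) (nat_lit 4190502) = true := by decide +kernel
theorem keys62c1 : allFrom cfg.chkKey (nat_lit 71816) (nat_lit 4082778) = true := join keys62x0 keys62x1 rfl rfl
theorem keys62c2 : allFrom cfg.chkKey (nat_lit 107724) (nat_lit 4082778) = true := join keys62c1 keys62x2 rfl rfl
theorem keys62 : allFrom cfg.chkKey (nat_lit 143631) (nat_lit 4082778) = true := join keys62c2 keys62x3 rfl rfl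

end Cfsg.Agent.Lib.Compute.TC.Fi24a
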