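-- Certificate checks for Fi24a.
import Cfsg.Agent.Lib.Compute.TC.Fi24a.Data
import Cfsg.Agent.Lib.Compute.TCSplit
set_option autoImplicit false
set_option Elab.async false
set_option maxRecDepth 1000000

open Cfsg.Agent.Lib.Compute.ToddCoxeterCore Cfsg.Agent.Lib.Compute.ToddCoxeterPresented Cfsg.Agent.Lib.Compute.TCFast

open Cfsg.Agent.Lib.Compute.TCSplit

namespace Cfsg.Agent.Lib.Compute.TC.Fi24a

theorem keys63x0 : allFrom cfg.chkKey (nat_lit 37029) (nat_lit 4226409) = true := by decide +kernel
theorem keys63x1 : allFrom cfg.chkKey (nat_lit 37029) (nat_lit 4263438) = true := by decide +kernel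
theorem keys63x2 : allFrom cfg.chkKey (nat_lit 37028) (nat_lit 4300467) = true := by decide +kernel
theorem keys63x3 : allFrom cfg.chkKey (nat_lit 37028) (nat_lit 4337495) = true := by decide +kernel
theorem keys63c1 : allFrom cfg.chkKey (nat_lit 74058) (nat_lit 4226409) = true := join keys63x0 keys63x1 rfl rfl
theorem keys63c2 : allFrom cfg.chkKey (nat_lit 111086) (nat_lit 4226409) = true := join keys63c1 keys63x2 rfl rfl
theorem keys63 : allFrom cfg.chkKey (nat_lit 148114) (nat_lit 4226409) = true := join keys63c2 keys63x3 rfl rfl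

end Cfsg.Agent.Lib.Compute.TC.Fi24a
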