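-- Certificate checks for Fi24a.
import Cfsg.Agent.Lib.Compute.TC.Fi24a.Data
import Cfsg.Agent.Lib.Compute.TCSplit
set_option autoImplicit false
set_option Elab.async false
set_option maxRecDepth 1000000

open Cfsg.Agent.Lib.Compute.ToddCoxeterCore Cfsg.Agent.Lib.Compute.ToddCoxeterPresented Cfsg.Agent.Lib.Compute.TCFast

open Cfsg.Agent.Lib.Compute.TCSplit

namespace Cfsg.Agent.Lib.Compute.TC.Fi24a

theorem orbIx0 : allFrom (oc.chkI cfg hwL) (nat_lit 19184) (nat_lit 0) = true := by decide +kernel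
theorem orbIx1 : allFrom (oc.chkI cfg hwL) (nat_lit 19184) (nat_lit 19184) = true := by decide +kernel
theorem orbIx2 : allFrom (oc.chkI cfg hwL) (nat_lit 19184) (nat_lit 38368) = true := by decide +kernel
theorem orbIx3 : allFrom (oc.chkI cfg hwL) (nat_lit 19184) (nat_lit 57552) = true := by decide +kernel
theorem orbIx4 : allFrom (oc.chkI cfg hwL) (nat_lit 19184) (nat_lit 76736) = true := by decide +kernel
theorem orbIx5 : allFrom (oc.chkI cfg hwL) (nat_lit 19184) (nat_lit 95920) = true := by decide +kernel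
theorem orbIx6 : allFrom (oc.chkI cfg hwL) (nat_lit 19184) (nat_lit 115104) = true := by decide +kernel
theorem orbIx7 : allFrom (oc.chkI cfg hwL) (nat_lit 19184) (nat_lit 134288) = true := by decide +kernel
theorem orbIx8 : allFrom (oc.chkI cfg hwL) (nat_lit 19183) (nat_lit 153472) = true := by decide +kernel
theorem orbIx9 : allFrom (oc.chkI cfg hwL) (nat_lit 19183) (nat_lit 172655) = true := by decide +kernel
theorem orbIx10 : allFrom (oc.chkI cfg hwL) (nat_lit 19183) (nat_lit 191838) = true := by decide +kernel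
theorem orbIx11 : allFrom (oc.chkI cfg hwL) (nat_lit 19183) (nat_lit 211021) = true := by decide +kernel
theorem orbIx12 : allFrom (oc.chkI cfg hwL) (nat_lit 19183) (nat_lit 230204) = true := by decide +kernel
theorem orbIx13 : allFrom (oc.chkI cfg hwL) (nat_lit 19183) (nat_lit 249387) = true := by decide +kernel
theorem orbIx14 : allFrom (oc.chkI cfg hwL) (nat_lit 19183) (nat_lit 268570) = true := by decide +kernel
theorem orbIx15 : allFrom (oc.chkI cfg hwL) (nat_lit 19183) (nat_lit 287753) = true := by decide +kernel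
theorem orbIc1 : allFrom (oc.chkI cfg hwL) (nat_lit 38368) (nat_lit 0) = true := join orbIx0 orbIx1 rfl rfl
theorem orbIc2 : allFrom (oc.chkI cfg hwL) (nat_lit 57552) (nat_lit 0) = true := join orbIc1 orbIx2 rfl rfl
theorem orbIc3 : allFrom (oc.chkI cfg hwL) (nat_lit 76736) (nat_lit 0) = true := join orbIc2 orbIx3 rfl rfl
theorem orbIc4 : allFrom (oc.chkI cfg hwL) (nat_lit 95920) (nat_lit 0) = true := join orbIc3 orbIx4 rfl rfl
theorem orbIc5 : allFrom (oc.chkI cfg hwL) (nat_lit 115104) (nat_lit 0) = true := join orbIc4 orbIx5 rfl rfl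
theorem orbIc6 : allFrom (oc.chkI cfg hwL) (nat_lit 134288) (nat_lit 0) = true := join orbIc5 orbIx6 rfl rfl
theorem orbIc7 : allFrom (oc.chkI cfg hwL) (nat_lit 153472) (nat_lit 0) = true := join orbIc6 orbIx7 rfl rfl
theorem orbIc8 : allFrom (oc.chkI cfg hwL) (nat_lit 172655) (nat_lit 0) = true := join orbIc7 orbIx8 rfl rfl
theorem orbIc9 : allFrom (oc.chkI cfg hwL) (nat_lit 191838) (nat_lit 0) = true := join orbIc8 orbIx9 rfl rfl
theorem orbIc10 : allFrom (oc.chkI cfg hwL) (nat_lit 211021) (nat_lit 0) = true := join orbIc9 orbIx10 rfl rfl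
theorem orbIc11 : allFrom (oc.chkI cfg hwL) (nat_lit 230204) (nat_lit 0) = true := join orbIc10 orbIx11 rfl rfl
theorem orbIc12 : allFrom (oc.chkI cfg hwL) (nat_lit 249387) (nat_lit 0) = true := join orbIc11 orbIx12 rfl rfl
theorem orbIc13 : allFrom (oc.chkI cfg hwL) (nat_lit 268570) (nat_lit 0) = true := join orbIc12 orbIx13 rfl rfl
theorem orbIc14 : allFrom (oc.chkI cfg hwL) (nat_lit 287753) (nat_lit 0) = true := join orbIc13 orbIx14 rfl rfl
theorem orbI : allFrom (oc.chkI cfg hwL) (nat_lit 306936) (nat_lit 0) = true := join orbIc14 orbIx15 rfl rfl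
theorem orbTx0 : allFrom (oc.chkT cfg hwL) (nat_lit 19184) (nat_lit 0) = true := by decide +kernel
theorem orbTx1 : allFrom (oc.chkT cfg hwL) (nat_lit 19184) (nat_lit 19184) = true := by decide +kernel
theorem orbTx2 : allFrom (oc.chkT cfg hwL) (nat_lit 19184) (nat_lit 38368) = true := by decide +kernel
theorem orbTx3 : allFrom (oc.chkT cfg hwL) (nat_lit 19184) (nat_lit 57552) = true := by decide +kernel
theorem orbTx4 : allFrom (oc.chkT cfg hwL) (nat_lit 19184) (nat_lit 76736) = true := by decide +kernel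
theorem orbTx5 : allFrom (oc.chkT cfg hwL) (nat_lit 19184) (nat_lit 95920) = true := by decide +kernel
theorem orbTx6 : allFrom (oc.chkT cfg hwL) (nat_lit 19184) (nat_lit 115104) = true := by decide +kernel
theorem orbTx7 : allFrom (oc.chkT cfg hwL) (nat_lit 19184) (nat_lit 134288) = true := by decide +kernel
theorem orbTx8 : allFrom (oc.chkT cfg hwL) (nat_lit 19183) (nat_lit 153472) = true := by decide +kernel
theorem orbTx9 : allFrom (oc.chkT cfg hwL) (nat_lit 19183) (nat_lit 172655) = true := by decide +kernel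
theorem orbTx10 : allFrom (oc.chkT cfg hwL) (nat_lit 19183) (nat_lit 191838) = true := by decide +kernel
theorem orbTx11 : allFrom (oc.chkT cfg hwL) (nat_lit 19183) (nat_lit 211021) = true := by decide +kernel
theorem orbTx12 : allFrom (oc.chkT cfg hwL) (nat_lit 19183) (nat_lit 230204) = true := by decide +kernel
theorem orbTx13 : allFrom (oc.chkT cfg hwL) (nat_lit 19183) (nat_lit 249387) = true := by decide +kernel
theorem orbTx14 : allFrom (oc.chkT cfg hwL) (nat_lit 19183) (nat_lit 268570) = true := by decide +kernel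
theorem orbTx15 : allFrom (oc.chkT cfg hwL) (nat_lit 19183) (nat_lit 287753) = true := by decide +kernel
theorem orbTc1 : allFrom (oc.chkT cfg hwL) (nat_lit 38368) (nat_lit 0) = true := join orbTx0 orbTx1 rfl rfl
theorem orbTc2 : allFrom (oc.chkT cfg hwL) (nat_lit 57552) (nat_lit 0) = true := join orbTc1 orbTx2 rfl rfl
theorem orbTc3 : allFrom (oc.chkT cfg hwL) (nat_lit 76736) (nat_lit 0) = true := join orbTc2 orbTx3 rfl rfl
theorem orbTc4 : allFrom (oc.chkT cfg hwL) (nat_lit 95920) (nat_lit 0) = true := join orbTc3 orbTx4 rfl rfl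
theorem orbTc5 : allFrom (oc.chkT cfg hwL) (nat_lit 115104) (nat_lit 0) = true := join orbTc4 orbTx5 rfl rfl
theorem orbTc6 : allFrom (oc.chkT cfg hwL) (nat_lit 134288) (nat_lit 0) = true := join orbTc5 orbTx6 rfl rfl
theorem orbTc7 : allFrom (oc.chkT cfg hwL) (nat_lit 153472) (nat_lit 0) = true := join orbTc6 orbTx7 rfl rfl
theorem orbTc8 : allFrom (oc.chkT cfg hwL) (nat_lit 172655) (nat_lit 0) = true := join orbTc7 orbTx8 rfl rfl
theorem orbTc9 : allFrom (oc.chkT cfg hwL) (nat_lit 191838) (nat_lit 0) = true := join orbTc8 orbTx9 rfl rfl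
theorem orbTc10 : allFrom (oc.chkT cfg hwL) (nat_lit 211021) (nat_lit 0) = true := join orbTc9 orbTx10 rfl rfl
theorem orbTc11 : allFrom (oc.chkT cfg hwL) (nat_lit 230204) (nat_lit 0) = true := join orbTc10 orbTx11 rfl rfl
theorem orbTc12 : allFrom (oc.chkT cfg hwL) (nat_lit 249387) (nat_lit 0) = true := join orbTc11 orbTx12 rfl rfl
theorem orbTc13 : allFrom (oc.chkT cfg hwL) (nat_lit 268570) (nat_lit 0) = true := join orbTc12 orbTx13 rfl rfl
theorem orbTc14 : allFrom (oc.chkT cfg hwL) (nat_lit 287753) (nat_lit 0) = true := join orbTc13 orbTx14 rfl rfl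
theorem orbT : allFrom (oc.chkT cfg hwL) (nat_lit 306936) (nat_lit 0) = true := join orbTc14 orbTx15 rfl rfl
theorem orbC0 : cntAcc (fun j => Nat.beq (oc.oid j) (nat_lit 0)) (nat_lit 306936) (nat_lit 0) (nat_lit 0) = 1 := by decide +kernel
theorem orbC1 : cntAcc (fun j => Nat.beq (oc.oid j) (nat_lit 1)) (nat_lit 306936) (nat_lit 0) (nat_lit 0) = 275264 := by decide +kernel
theorem orbC2 : cntAcc (fun j => Nat.beq (oc.oid j) (nat_lit 2)) (nat_lit 306936) (nat_lit 0) (nat_lit 0) = 31671 := by decide +kernel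

end Cfsg.Agent.Lib.Compute.TC.Fi24a
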