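-- Certificate checks for Fi24a.
import Cfsg.Agent.Lib.Compute.TC.Fi24a.Data
import Cfsg.Agent.Lib.Compute.TCSplit
set_option autoImplicit false
set_option Elab.async false
set_option maxRecDepth 1000000

open Cfsg.Agent.Lib.Compute.ToddCoxeterCore Cfsg.Agent.Lib.Compute.ToddCoxeterPresented Cfsg.Agent.Lib.Compute.TCFast

open Cfsg.Agent.Lib.Compute.TCSplit

namespace Cfsg.Agent.Lib.Compute.TC.Fi24a

theorem rel0x0 : allFrom (chkRelF cfg relsL) (nat_lit 205) (nat_lit 0) = true := by decide +kernel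
theorem rel0x1 : allFrom (chkRelF cfg relsL) (nat_lit 204) (nat_lit 205) = true := by decide +kernel
theorem rel0x2 : allFrom (chkRelF cfg relsL) (nat_lit 204) (nat_lit 409) = true := by decide +kernel
theorem rel0x3 : allFrom (chkRelF cfg relsL) (nat_lit 204) (nat_lit 613) = true := by decide +kernel
theorem rel0x4 : allFrom (chkRelF cfg relsL) (nat_lit 204) (nat_lit 817) = true := by decide +kernel
theorem rel0x5 : allFrom (chkRelF cfg relsL) (nat_lit 204) (nat_lit 1021) = true := by decide +kernel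
theorem rel0x6 : allFrom (chkRelF cfg relsL) (nat_lit 204) (nat_lit 1225) = true := by decide +kernel
theorem rel0x7 : allFrom (chkRelF cfg relsL) (nat_lit 204) (nat_lit 1429) = true := by decide +kernel
theorem rel0c1 : allFrom (chkRelF cfg relsL) (nat_lit 409) (nat_lit 0) = true := join rel0x0 rel0x1 rfl rfl
theorem rel0c2 : allFrom (chkRelF cfg relsL) (nat_lit 613) (nat_lit 0) = true := join rel0c1 rel0x2 rfl rfl
theorem rel0c3 : allFrom (chkRelF cfg relsL) (nat_lit 817) (nat_lit 0) = true := join rel0c2 rel0x3 rfl rfl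
theorem rel0c4 : allFrom (chkRelF cfg relsL) (nat_lit 1021) (nat_lit 0) = true := join rel0c3 rel0x4 rfl rfl
theorem rel0c5 : allFrom (chkRelF cfg relsL) (nat_lit 1225) (nat_lit 0) = true := join rel0c4 rel0x5 rfl rfl
theorem rel0c6 : allFrom (chkRelF cfg relsL) (nat_lit 1429) (nat_lit 0) = true := join rel0c5 rel0x6 rfl rfl
theorem rel0 : allFrom (chkRelF cfg relsL) (nat_lit 1633) (nat_lit 0) = true := join rel0c6 rel0x7 rfl rfl

end Cfsg.Agent.Lib.Compute.TC.Fi24a
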