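-- Certificate checks for Fi24a.
import Cfsg.Agent.Lib.Compute.TC.Fi24a.Data
import Cfsg.Agent.Lib.Compute.TCSplit
set_option autoImplicit false
set_option Elab.async false
set_option maxRecDepth 1000000

open Cfsg.Agent.Lib.Compute.ToddCoxeterCore Cfsg.Agent.Lib.Compute.ToddCoxeterPresented Cfsg.Agent.Lib.Compute.TCFast

open Cfsg.Agent.Lib.Compute.TCSplit

namespace Cfsg.Agent.Lib.Compute.TC.Fi24a

theorem rel1x0 : allFrom (chkRelF cfg relsL) (nat_lit 205) (nat_lit 1633) = true := by decide +kernel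
theorem rel1x1 : allFrom (chkRelF cfg relsL) (nat_lit 204) (nat_lit 1838) = true := by decide +kernel
theorem rel1x2 : allFrom (chkRelF cfg relsL) (nat_lit 204) (nat_lit 2042) = true := by decide +kernel
theorem rel1x3 : allFrom (chkRelF cfg relsL) (nat_lit 204) (nat_lit 2246) = true := by decide +kernel
theorem rel1x4 : allFrom (chkRelF cfg relsL) (nat_lit 204) (nat_lit 2450) = true := by decide +kernel
theorem rel1x5 : allFrom (chkRelF cfg relsL) (nat_lit 204) (nat_lit 2654) = true := by decide +kernel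
theorem rel1x6 : allFrom (chkRelF cfg relsL) (nat_lit 204) (nat_lit 2858) = true := by decide +kernel
theorem rel1x7 : allFrom (chkRelF cfg relsL) (nat_lit 204) (nat_lit 3062) = true := by decide +kernel
theorem rel1c1 : allFrom (chkRelF cfg relsL) (nat_lit 409) (nat_lit 1633) = true := join rel1x0 rel1x1 rfl rfl
theorem rel1c2 : allFrom (chkRelF cfg relsL) (nat_lit 613) (nat_lit 1633) = true := join rel1c1 rel1x2 rfl rfl
theorem rel1c3 : allFrom (chkRelF cfg relsL) (nat_lit 817) (nat_lit 1633) = true := join rel1c2 rel1x3 rfl rfl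
theorem rel1c4 : allFrom (chkRelF cfg relsL) (nat_lit 1021) (nat_lit 1633) = true := join rel1c3 rel1x4 rfl rfl
theorem rel1c5 : allFrom (chkRelF cfg relsL) (nat_lit 1225) (nat_lit 1633) = true := join rel1c4 rel1x5 rfl rfl
theorem rel1c6 : allFrom (chkRelF cfg relsL) (nat_lit 1429) (nat_lit 1633) = true := join rel1c5 rel1x6 rfl rfl
theorem rel1 : allFrom (chkRelF cfg relsL) (nat_lit 1633) (nat_lit 1633) = true := join rel1c6 rel1x7 rfl rfl

end Cfsg.Agent.Lib.Compute.TC.Fi24a
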