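-- Certificate checks for Fi24a.
import Cfsg.Agent.Lib.Compute.TC.Fi24a.Data
import Cfsg.Agent.Lib.Compute.TCSplit
set_option autoImplicit false
set_option Elab.async false
set_option maxRecDepth 1000000

open Cfsg.Agent.Lib.Compute.ToddCoxeterCore Cfsg.Agent.Lib.Compute.ToddCoxeterPresented Cfsg.Agent.Lib.Compute.TCFast

open Cfsg.Agent.Lib.Compute.TCSplit

namespace Cfsg.Agent.Lib.Compute.TC.Fi24a

theorem rel100x0 : allFrom (chkRelF cfg relsL) (nat_lit 205) (nat_lit 163300) = true := by decide +kernel
theorem rel100x1 : allFrom (chkRelF cfg relsL) (nat_lit 204) (nat_lit 163505) = true := by decide +kernel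
theorem rel100x2 : allFrom (chkRelF cfg relsL) (nat_lit 204) (nat_lit 163709) = true := by decide +kernel
theorem rel100x3 : allFrom (chkRelF cfg relsL) (nat_lit 204) (nat_lit 163913) = true := by decide +kernel
theorem rel100x4 : allFrom (chkRelF cfg relsL) (nat_lit 204) (nat_lit 164117) = true := by decide +kernel
theorem rel100x5 : allFrom (chkRelF cfg relsL) (nat_lit 204) (nat_lit 164321) = true := by decide +kernel
theorem rel100x6 : allFrom (chkRelF cfg relsL) (nat_lit 204) (nat_lit 164525) = true := by decide +kernel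
theorem rel100x7 : allFrom (chkRelF cfg relsL) (nat_lit 204) (nat_lit 164729) = true := by decide +kernel
theorem rel100c1 : allFrom (chkRelF cfg relsL) (nat_lit 409) (nat_lit 163300) = true := join rel100x0 rel100x1 rfl rfl
theorem rel100c2 : allFrom (chkRelF cfg relsL) (nat_lit 613) (nat_lit 163300) = true := join rel100c1 rel100x2 rfl rfl
theorem rel100c3 : allFrom (chkRelF cfg relsL) (nat_lit 817) (nat_lit 163300) = true := join rel100c2 rel100x3 rfl rfl
theorem rel100c4 : allFrom (chkRelF cfg relsL) (nat_lit 1021) (nat_lit 163300) = true := join rel100c3 rel100x4 rfl rfl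
theorem rel100c5 : allFrom (chkRelF cfg relsL) (nat_lit 1225) (nat_lit 163300) = true := join rel100c4 rel100x5 rfl rfl
theorem rel100c6 : allFrom (chkRelF cfg relsL) (nat_lit 1429) (nat_lit 163300) = true := join rel100c5 rel100x6 rfl rfl
theorem rel100 : allFrom (chkRelF cfg relsL) (nat_lit 1633) (nat_lit 163300) = true := join rel100c6 rel100x7 rfl rfl

end Cfsg.Agent.Lib.Compute.TC.Fi24a
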