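-- Certificate checks for Fi24a.
import Cfsg.Agent.Lib.Compute.TC.Fi24a.Data
import Cfsg.Agent.Lib.Compute.TCSplit
set_option autoImplicit false
set_option Elab.async false
set_option maxRecDepth 1000000

open Cfsg.Agent.Lib.Compute.ToddCoxeterCore Cfsg.Agent.Lib.Compute.ToddCoxeterPresented Cfsg.Agent.Lib.Compute.TCFast

open Cfsg.Agent.Lib.Compute.TCSplit

namespace Cfsg.Agent.Lib.Compute.TC.Fi24a

theorem rel101x0 : allFrom (chkRelF cfg relsL) (nat_lit 205) (nat_lit 164933) = true := by decide +kernel
theorem rel101x1 : allFrom (chkRelF cfg relsL) (nat_lit 204) (nat_lit 165138) = true := by decide +kernel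
theorem rel101x2 : allFrom (chkRelF cfg relsL) (nat_lit 204) (nat_lit 165342) = true := by decide +kernel
theorem rel101x3 : allFrom (chkRelF cfg relsL) (nat_lit 204) (nat_lit 165546) = true := by decide +kernel
theorem rel101x4 : allFrom (chkRelF cfg relsL) (nat_lit 204) (nat_lit 165750) = true := by decide +kernel
theorem rel101x5 : allFrom (chkRelF cfg relsL) (nat_lit 204) (nat_lit 165954) = true := by decide +kernel
theorem rel101x6 : allFrom (chkRelF cfg relsL) (nat_lit 204) (nat_lit 166158) = true := by decide +kernel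
theorem rel101x7 : allFrom (chkRelF cfg relsL) (nat_lit 204) (nat_lit 166362) = true := by decide +kernel
theorem rel101c1 : allFrom (chkRelF cfg relsL) (nat_lit 409) (nat_lit 164933) = true := join rel101x0 rel101x1 rfl rfl
theorem rel101c2 : allFrom (chkRelF cfg relsL) (nat_lit 613) (nat_lit 164933) = true := join rel101c1 rel101x2 rfl rfl
theorem rel101c3 : allFrom (chkRelF cfg relsL) (nat_lit 817) (nat_lit 164933) = true := join rel101c2 rel101x3 rfl rfl
theorem rel101c4 : allFrom (chkRelF cfg relsL) (nat_lit 1021) (nat_lit 164933) = true := join rel101c3 rel101x4 rfl rfl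
theorem rel101c5 : allFrom (chkRelF cfg relsL) (nat_lit 1225) (nat_lit 164933) = true := join rel101c4 rel101x5 rfl rfl
theorem rel101c6 : allFrom (chkRelF cfg relsL) (nat_lit 1429) (nat_lit 164933) = true := join rel101c5 rel101x6 rfl rfl
theorem rel101 : allFrom (chkRelF cfg relsL) (nat_lit 1633) (nat_lit 164933) = true := join rel101c6 rel101x7 rfl rfl

end Cfsg.Agent.Lib.Compute.TC.Fi24a
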