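-- Certificate checks for Fi24a.
import Cfsg.Agent.Lib.Compute.TC.Fi24a.Data
import Cfsg.Agent.Lib.Compute.TCSplit
set_option autoImplicit false
set_option Elab.async false
set_option maxRecDepth 1000000

open Cfsg.Agent.Lib.Compute.ToddCoxeterCore Cfsg.Agent.Lib.Compute.ToddCoxeterPresented Cfsg.Agent.Lib.Compute.TCFast

open Cfsg.Agent.Lib.Compute.TCSplit

namespace Cfsg.Agent.Lib.Compute.TC.Fi24a

theorem rel102x0 : allFrom (chkRelF cfg relsL) (nat_lit 205) (nat_lit 166566) = true := by decide +kernel
theorem rel102x1 : allFrom (chkRelF cfg relsL) (nat_lit 204) (nat_lit 166771) = true := by decide +kernel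
theorem rel102x2 : allFrom (chkRelF cfg relsL) (nat_lit 204) (nat_lit 166975) = true := by decide +kernel
theorem rel102x3 : allFrom (chkRelF cfg relsL) (nat_lit 204) (nat_lit 167179) = true := by decide +kernel
theorem rel102x4 : allFrom (chkRelF cfg relsL) (nat_lit 204) (nat_lit 167383) = true := by decide +kernel
theorem rel102x5 : allFrom (chkRelF cfg relsL) (nat_lit 204) (nat_lit 167587) = true := by decide +kernel
theorem rel102x6 : allFrom (chkRelF cfg relsL) (nat_lit 204) (nat_lit 167791) = true := by decide +kernel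
theorem rel102x7 : allFrom (chkRelF cfg relsL) (nat_lit 204) (nat_lit 167995) = true := by decide +kernel
theorem rel102c1 : allFrom (chkRelF cfg relsL) (nat_lit 409) (nat_lit 166566) = true := join rel102x0 rel102x1 rfl rfl
theorem rel102c2 : allFrom (chkRelF cfg relsL) (nat_lit 613) (nat_lit 166566) = true := join rel102c1 rel102x2 rfl rfl
theorem rel102c3 : allFrom (chkRelF cfg relsL) (nat_lit 817) (nat_lit 166566) = true := join rel102c2 rel102x3 rfl rfl
theorem rel102c4 : allFrom (chkRelF cfg relsL) (nat_lit 1021) (nat_lit 166566) = true := join rel102c3 rel102x4 rfl rfl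
theorem rel102c5 : allFrom (chkRelF cfg relsL) (nat_lit 1225) (nat_lit 166566) = true := join rel102c4 rel102x5 rfl rfl
theorem rel102c6 : allFrom (chkRelF cfg relsL) (nat_lit 1429) (nat_lit 166566) = true := join rel102c5 rel102x6 rfl rfl
theorem rel102 : allFrom (chkRelF cfg relsL) (nat_lit 1633) (nat_lit 166566) = true := join rel102c6 rel102x7 rfl rfl

end Cfsg.Agent.Lib.Compute.TC.Fi24a
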