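-- Certificate checks for Fi24a.
import Cfsg.Agent.Lib.Compute.TC.Fi24a.Data
import Cfsg.Agent.Lib.Compute.TCSplit
set_option autoImplicit false
set_option Elab.async false
set_option maxRecDepth 1000000

open Cfsg.Agent.Lib.Compute.ToddCoxeterCore Cfsg.Agent.Lib.Compute.ToddCoxeterPresented Cfsg.Agent.Lib.Compute.TCFast

open Cfsg.Agent.Lib.Compute.TCSplit

namespace Cfsg.Agent.Lib.Compute.TC.Fi24a

theorem rel103x0 : allFrom (chkRelF cfg relsL) (nat_lit 205) (nat_lit 168199) = true := by decide +kernel
theorem rel103x1 : allFrom (chkRelF cfg relsL) (nat_lit 204) (nat_lit 168404) = true := by decide +kernel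
theorem rel103x2 : allFrom (chkRelF cfg relsL) (nat_lit 204) (nat_lit 168608) = true := by decide +kernel
theorem rel103x3 : allFrom (chkRelF cfg relsL) (nat_lit 204) (nat_lit 168812) = true := by decide +kernel
theorem rel103x4 : allFrom (chkRelF cfg relsL) (nat_lit 204) (nat_lit 169016) = true := by decide +kernel
theorem rel103x5 : allFrom (chkRelF cfg relsL) (nat_lit 204) (nat_lit 169220) = true := by decide +kernel
theorem rel103x6 : allFrom (chkRelF cfg relsL) (nat_lit 204) (nat_lit 169424) = true := by decide +kernel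
theorem rel103x7 : allFrom (chkRelF cfg relsL) (nat_lit 204) (nat_lit 169628) = true := by decide +kernel
theorem rel103c1 : allFrom (chkRelF cfg relsL) (nat_lit 409) (nat_lit 168199) = true := join rel103x0 rel103x1 rfl rfl
theorem rel103c2 : allFrom (chkRelF cfg relsL) (nat_lit 613) (nat_lit 168199) = true := join rel103c1 rel103x2 rfl rfl
theorem rel103c3 : allFrom (chkRelF cfg relsL) (nat_lit 817) (nat_lit 168199) = true := join rel103c2 rel103x3 rfl rfl
theorem rel103c4 : allFrom (chkRelF cfg relsL) (nat_lit 1021) (nat_lit 168199) = true := join rel103c3 rel103x4 rfl rfl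
theorem rel103c5 : allFrom (chkRelF cfg relsL) (nat_lit 1225) (nat_lit 168199) = true := join rel103c4 rel103x5 rfl rfl
theorem rel103c6 : allFrom (chkRelF cfg relsL) (nat_lit 1429) (nat_lit 168199) = true := join rel103c5 rel103x6 rfl rfl
theorem rel103 : allFrom (chkRelF cfg relsL) (nat_lit 1633) (nat_lit 168199) = true := join rel103c6 rel103x7 rfl rfl

end Cfsg.Agent.Lib.Compute.TC.Fi24a
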