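-- Certificate checks for Fi24a.
import Cfsg.Agent.Lib.Compute.TC.Fi24a.Data
import Cfsg.Agent.Lib.Compute.TCSplit
set_option autoImplicit false
set_option Elab.async false
set_option maxRecDepth 1000000

open Cfsg.Agent.Lib.Compute.ToddCoxeterCore Cfsg.Agent.Lib.Compute.ToddCoxeterPresented Cfsg.Agent.Lib.Compute.TCFast

open Cfsg.Agent.Lib.Compute.TCSplit

namespace Cfsg.Agent.Lib.Compute.TC.Fi24a

theorem rel104x0 : allFrom (chkRelF cfg relsL) (nat_lit 205) (nat_lit 169832) = true := by decide +kernel
theorem rel104x1 : allFrom (chkRelF cfg relsL) (nat_lit 204) (nat_lit 170037) = true := by decide +kernel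
theorem rel104x2 : allFrom (chkRelF cfg relsL) (nat_lit 204) (nat_lit 170241) = true := by decide +kernel
theorem rel104x3 : allFrom (chkRelF cfg relsL) (nat_lit 204) (nat_lit 170445) = true := by decide +kernel
theorem rel104x4 : allFrom (chkRelF cfg relsL) (nat_lit 204) (nat_lit 170649) = true := by decide +kernel
theorem rel104x5 : allFrom (chkRelF cfg relsL) (nat_lit 204) (nat_lit 170853) = true := by decide +kernel
theorem rel104x6 : allFrom (chkRelF cfg relsL) (nat_lit 204) (nat_lit 171057) = true := by decide +kernel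
theorem rel104x7 : allFrom (chkRelF cfg relsL) (nat_lit 204) (nat_lit 171261) = true := by decide +kernel
theorem rel104c1 : allFrom (chkRelF cfg relsL) (nat_lit 409) (nat_lit 169832) = true := join rel104x0 rel104x1 rfl rfl
theorem rel104c2 : allFrom (chkRelF cfg relsL) (nat_lit 613) (nat_lit 169832) = true := join rel104c1 rel104x2 rfl rfl
theorem rel104c3 : allFrom (chkRelF cfg relsL) (nat_lit 817) (nat_lit 169832) = true := join rel104c2 rel104x3 rfl rfl
theorem rel104c4 : allFrom (chkRelF cfg relsL) (nat_lit 1021) (nat_lit 169832) = true := join rel104c3 rel104x4 rfl rfl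
theorem rel104c5 : allFrom (chkRelF cfg relsL) (nat_lit 1225) (nat_lit 169832) = true := join rel104c4 rel104x5 rfl rfl
theorem rel104c6 : allFrom (chkRelF cfg relsL) (nat_lit 1429) (nat_lit 169832) = true := join rel104c5 rel104x6 rfl rfl
theorem rel104 : allFrom (chkRelF cfg relsL) (nat_lit 1633) (nat_lit 169832) = true := join rel104c6 rel104x7 rfl rfl

end Cfsg.Agent.Lib.Compute.TC.Fi24a
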