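-- Certificate checks for Fi24a.
import Cfsg.Agent.Lib.Compute.TC.Fi24a.Data
import Cfsg.Agent.Lib.Compute.TCSplit
set_option autoImplicit false
set_option Elab.async false
set_option maxRecDepth 1000000

open Cfsg.Agent.Lib.Compute.ToddCoxeterCore Cfsg.Agent.Lib.Compute.ToddCoxeterPresented Cfsg.Agent.Lib.Compute.TCFast

open Cfsg.Agent.Lib.Compute.TCSplit

namespace Cfsg.Agent.Lib.Compute.TC.Fi24a

theorem rel105x0 : allFrom (chkRelF cfg relsL) (nat_lit 205) (nat_lit 171465) = true := by decide +kernel
theorem rel105x1 : allFrom (chkRelF cfg relsL) (nat_lit 204) (nat_lit 171670) = true := by decide +kernel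
theorem rel105x2 : allFrom (chkRelF cfg relsL) (nat_lit 204) (nat_lit 171874) = true := by decide +kernel
theorem rel105x3 : allFrom (chkRelF cfg relsL) (nat_lit 204) (nat_lit 172078) = true := by decide +kernel
theorem rel105x4 : allFrom (chkRelF cfg relsL) (nat_lit 204) (nat_lit 172282) = true := by decide +kernel
theorem rel105x5 : allFrom (chkRelF cfg relsL) (nat_lit 204) (nat_lit 172486) = true := by decide +kernel
theorem rel105x6 : allFrom (chkRelF cfg relsL) (nat_lit 204) (nat_lit 172690) = true := by decide +kernel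
theorem rel105x7 : allFrom (chkRelF cfg relsL) (nat_lit 204) (nat_lit 172894) = true := by decide +kernel
theorem rel105c1 : allFrom (chkRelF cfg relsL) (nat_lit 409) (nat_lit 171465) = true := join rel105x0 rel105x1 rfl rfl
theorem rel105c2 : allFrom (chkRelF cfg relsL) (nat_lit 613) (nat_lit 171465) = true := join rel105c1 rel105x2 rfl rfl
theorem rel105c3 : allFrom (chkRelF cfg relsL) (nat_lit 817) (nat_lit 171465) = true := join rel105c2 rel105x3 rfl rfl
theorem rel105c4 : allFrom (chkRelF cfg relsL) (nat_lit 1021) (nat_lit 171465) = true := join rel105c3 rel105x4 rfl rfl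
theorem rel105c5 : allFrom (chkRelF cfg relsL) (nat_lit 1225) (nat_lit 171465) = true := join rel105c4 rel105x5 rfl rfl
theorem rel105c6 : allFrom (chkRelF cfg relsL) (nat_lit 1429) (nat_lit 171465) = true := join rel105c5 rel105x6 rfl rfl
theorem rel105 : allFrom (chkRelF cfg relsL) (nat_lit 1633) (nat_lit 171465) = true := join rel105c6 rel105x7 rfl rfl

end Cfsg.Agent.Lib.Compute.TC.Fi24a
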