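-- Certificate checks for Fi24a.
import Cfsg.Agent.Lib.Compute.TC.Fi24a.Data
import Cfsg.Agent.Lib.Compute.TCSplit
set_option autoImplicit false
set_option Elab.async false
set_option maxRecDepth 1000000

open Cfsg.Agent.Lib.Compute.ToddCoxeterCore Cfsg.Agent.Lib.Compute.ToddCoxeterPresented Cfsg.Agent.Lib.Compute.TCFast

open Cfsg.Agent.Lib.Compute.TCSplit

namespace Cfsg.Agent.Lib.Compute.TC.Fi24a

theorem rel106x0 : allFrom (chkRelF cfg relsL) (nat_lit 205) (nat_lit 173098) = true := by decide +kernel
theorem rel106x1 : allFrom (chkRelF cfg relsL) (nat_lit 204) (nat_lit 173303) = true := by decide +kernel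
theorem rel106x2 : allFrom (chkRelF cfg relsL) (nat_lit 204) (nat_lit 173507) = true := by decide +kernel
theorem rel106x3 : allFrom (chkRelF cfg relsL) (nat_lit 204) (nat_lit 173711) = true := by decide +kernel
theorem rel106x4 : allFrom (chkRelF cfg relsL) (nat_lit 204) (nat_lit 173915) = true := by decide +kernel
theorem rel106x5 : allFrom (chkRelF cfg relsL) (nat_lit 204) (nat_lit 174119) = true := by decide +kernel
theorem rel106x6 : allFrom (chkRelF cfg relsL) (nat_lit 204) (nat_lit 174323) = true := by decide +kernel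
theorem rel106x7 : allFrom (chkRelF cfg relsL) (nat_lit 204) (nat_lit 174527) = true := by decide +kernel
theorem rel106c1 : allFrom (chkRelF cfg relsL) (nat_lit 409) (nat_lit 173098) = true := join rel106x0 rel106x1 rfl rfl
theorem rel106c2 : allFrom (chkRelF cfg relsL) (nat_lit 613) (nat_lit 173098) = true := join rel106c1 rel106x2 rfl rfl
theorem rel106c3 : allFrom (chkRelF cfg relsL) (nat_lit 817) (nat_lit 173098) = true := join rel106c2 rel106x3 rfl rfl
theorem rel106c4 : allFrom (chkRelF cfg relsL) (nat_lit 1021) (nat_lit 173098) = true := join rel106c3 rel106x4 rfl rfl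
theorem rel106c5 : allFrom (chkRelF cfg relsL) (nat_lit 1225) (nat_lit 173098) = true := join rel106c4 rel106x5 rfl rfl
theorem rel106c6 : allFrom (chkRelF cfg relsL) (nat_lit 1429) (nat_lit 173098) = true := join rel106c5 rel106x6 rfl rfl
theorem rel106 : allFrom (chkRelF cfg relsL) (nat_lit 1633) (nat_lit 173098) = true := join rel106c6 rel106x7 rfl rfl

end Cfsg.Agent.Lib.Compute.TC.Fi24a
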