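-- Certificate checks for Fi24a.
import Cfsg.Agent.Lib.Compute.TC.Fi24a.Data
import Cfsg.Agent.Lib.Compute.TCSplit
set_option autoImplicit false
set_option Elab.async false
set_option maxRecDepth 1000000

open Cfsg.Agent.Lib.Compute.ToddCoxeterCore Cfsg.Agent.Lib.Compute.ToddCoxeterPresented Cfsg.Agent.Lib.Compute.TCFast

open Cfsg.Agent.Lib.Compute.TCSplit

namespace Cfsg.Agent.Lib.Compute.TC.Fi24a

theorem rel107x0 : allFrom (chkRelF cfg relsL) (nat_lit 205) (nat_lit 174731) = true := by decide +kernel
theorem rel107x1 : allFrom (chkRelF cfg relsL) (nat_lit 204) (nat_lit 174936) = true := by decide +kernel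
theorem rel107x2 : allFrom (chkRelF cfg relsL) (nat_lit 204) (nat_lit 175140) = true := by decide +kernel
theorem rel107x3 : allFrom (chkRelF cfg relsL) (nat_lit 204) (nat_lit 175344) = true := by decide +kernel
theorem rel107x4 : allFrom (chkRelF cfg relsL) (nat_lit 204) (nat_lit 175548) = true := by decide +kernel
theorem rel107x5 : allFrom (chkRelF cfg relsL) (nat_lit 204) (nat_lit 175752) = true := by decide +kernel
theorem rel107x6 : allFrom (chkRelF cfg relsL) (nat_lit 204) (nat_lit 175956) = true := by decide +kernel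
theorem rel107x7 : allFrom (chkRelF cfg relsL) (nat_lit 204) (nat_lit 176160) = true := by decide +kernel
theorem rel107c1 : allFrom (chkRelF cfg relsL) (nat_lit 409) (nat_lit 174731) = true := join rel107x0 rel107x1 rfl rfl
theorem rel107c2 : allFrom (chkRelF cfg relsL) (nat_lit 613) (nat_lit 174731) = true := join rel107c1 rel107x2 rfl rfl
theorem rel107c3 : allFrom (chkRelF cfg relsL) (nat_lit 817) (nat_lit 174731) = true := join rel107c2 rel107x3 rfl rfl
theorem rel107c4 : allFrom (chkRelF cfg relsL) (nat_lit 1021) (nat_lit 174731) = true := join rel107c3 rel107x4 rfl rfl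
theorem rel107c5 : allFrom (chkRelF cfg relsL) (nat_lit 1225) (nat_lit 174731) = true := join rel107c4 rel107x5 rfl rfl
theorem rel107c6 : allFrom (chkRelF cfg relsL) (nat_lit 1429) (nat_lit 174731) = true := join rel107c5 rel107x6 rfl rfl
theorem rel107 : allFrom (chkRelF cfg relsL) (nat_lit 1633) (nat_lit 174731) = true := join rel107c6 rel107x7 rfl rfl

end Cfsg.Agent.Lib.Compute.TC.Fi24a
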