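-- Certificate checks for Fi24a.
import Cfsg.Agent.Lib.Compute.TC.Fi24a.Data
import Cfsg.Agent.Lib.Compute.TCSplit
set_option autoImplicit false
set_option Elab.async false
set_option maxRecDepth 1000000

open Cfsg.Agent.Lib.Compute.ToddCoxeterCore Cfsg.Agent.Lib.Compute.ToddCoxeterPresented Cfsg.Agent.Lib.Compute.TCFast

open Cfsg.Agent.Lib.Compute.TCSplit

namespace Cfsg.Agent.Lib.Compute.TC.Fi24a

theorem rel108x0 : allFrom (chkRelF cfg relsL) (nat_lit 205) (nat_lit 176364) = true := by decide +kernel
theorem rel108x1 : allFrom (chkRelF cfg relsL) (nat_lit 204) (nat_lit 176569) = true := by decide +kernel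
theorem rel108x2 : allFrom (chkRelF cfg relsL) (nat_lit 204) (nat_lit 176773) = true := by decide +kernel
theorem rel108x3 : allFrom (chkRelF cfg relsL) (nat_lit 204) (nat_lit 176977) = true := by decide +kernel
theorem rel108x4 : allFrom (chkRelF cfg relsL) (nat_lit 204) (nat_lit 177181) = true := by decide +kernel
theorem rel108x5 : allFrom (chkRelF cfg relsL) (nat_lit 204) (nat_lit 177385) = true := by decide +kernel
theorem rel108x6 : allFrom (chkRelF cfg relsL) (nat_lit 204) (nat_lit 177589) = true := by decide +kernel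
theorem rel108x7 : allFrom (chkRelF cfg relsL) (nat_lit 204) (nat_lit 177793) = true := by decide +kernel
theorem rel108c1 : allFrom (chkRelF cfg relsL) (nat_lit 409) (nat_lit 176364) = true := join rel108x0 rel108x1 rfl rfl
theorem rel108c2 : allFrom (chkRelF cfg relsL) (nat_lit 613) (nat_lit 176364) = true := join rel108c1 rel108x2 rfl rfl
theorem rel108c3 : allFrom (chkRelF cfg relsL) (nat_lit 817) (nat_lit 176364) = true := join rel108c2 rel108x3 rfl rfl
theorem rel108c4 : allFrom (chkRelF cfg relsL) (nat_lit 1021) (nat_lit 176364) = true := join rel108c3 rel108x4 rfl rfl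
theorem rel108c5 : allFrom (chkRelF cfg relsL) (nat_lit 1225) (nat_lit 176364) = true := join rel108c4 rel108x5 rfl rfl
theorem rel108c6 : allFrom (chkRelF cfg relsL) (nat_lit 1429) (nat_lit 176364) = true := join rel108c5 rel108x6 rfl rfl
theorem rel108 : allFrom (chkRelF cfg relsL) (nat_lit 1633) (nat_lit 176364) = true := join rel108c6 rel108x7 rfl rfl

end Cfsg.Agent.Lib.Compute.TC.Fi24a
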