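-- Certificate checks for Fi24a.
import Cfsg.Agent.Lib.Compute.TC.Fi24a.Data
import Cfsg.Agent.Lib.Compute.TCSplit
set_option autoImplicit false
set_option Elab.async false
set_option maxRecDepth 1000000

open Cfsg.Agent.Lib.Compute.ToddCoxeterCore Cfsg.Agent.Lib.Compute.ToddCoxeterPresented Cfsg.Agent.Lib.Compute.TCFast

open Cfsg.Agent.Lib.Compute.TCSplit

namespace Cfsg.Agent.Lib.Compute.TC.Fi24a

theorem rel11x0 : allFrom (chkRelF cfg relsL) (nat_lit 205) (nat_lit 17963) = true := by decide +kernel
theorem rel11x1 : allFrom (chkRelF cfg relsL) (nat_lit 204) (nat_lit 18168) = true := by decide +kernel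
theorem rel11x2 : allFrom (chkRelF cfg relsL) (nat_lit 204) (nat_lit 18372) = true := by decide +kernel
theorem rel11x3 : allFrom (chkRelF cfg relsL) (nat_lit 204) (nat_lit 18576) = true := by decide +kernel
theorem rel11x4 : allFrom (chkRelF cfg relsL) (nat_lit 204) (nat_lit 18780) = true := by decide +kernel
theorem rel11x5 : allFrom (chkRelF cfg relsL) (nat_lit 204) (nat_lit 18984) = true := by decide +kernel
theorem rel11x6 : allFrom (chkRelF cfg relsL) (nat_lit 204) (nat_lit 19188) = true := by decide +kernel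
theorem rel11x7 : allFrom (chkRelF cfg relsL) (nat_lit 204) (nat_lit 19392) = true := by decide +kernel
theorem rel11c1 : allFrom (chkRelF cfg relsL) (nat_lit 409) (nat_lit 17963) = true := join rel11x0 rel11x1 rfl rfl
theorem rel11c2 : allFrom (chkRelF cfg relsL) (nat_lit 613) (nat_lit 17963) = true := join rel11c1 rel11x2 rfl rfl
theorem rel11c3 : allFrom (chkRelF cfg relsL) (nat_lit 817) (nat_lit 17963) = true := join rel11c2 rel11x3 rfl rfl
theorem rel11c4 : allFrom (chkRelF cfg relsL) (nat_lit 1021) (nat_lit 17963) = true := join rel11c3 rel11x4 rfl rfl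
theorem rel11c5 : allFrom (chkRelF cfg relsL) (nat_lit 1225) (nat_lit 17963) = true := join rel11c4 rel11x5 rfl rfl
theorem rel11c6 : allFrom (chkRelF cfg relsL) (nat_lit 1429) (nat_lit 17963) = true := join rel11c5 rel11x6 rfl rfl
theorem rel11 : allFrom (chkRelF cfg relsL) (nat_lit 1633) (nat_lit 17963) = true := join rel11c6 rel11x7 rfl rfl

end Cfsg.Agent.Lib.Compute.TC.Fi24a
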