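-- Certificate checks for Fi24a.
import Cfsg.Agent.Lib.Compute.TC.Fi24a.Data
import Cfsg.Agent.Lib.Compute.TCSplit
set_option autoImplicit false
set_option Elab.async false
set_option maxRecDepth 1000000

open Cfsg.Agent.Lib.Compute.ToddCoxeterCore Cfsg.Agent.Lib.Compute.ToddCoxeterPresented Cfsg.Agent.Lib.Compute.TCFast

open Cfsg.Agent.Lib.Compute.TCSplit

namespace Cfsg.Agent.Lib.Compute.TC.Fi24a

theorem rel110x0 : allFrom (chkRelF cfg relsL) (nat_lit 205) (nat_lit 179630) = true := by decide +kernel
theorem rel110x1 : allFrom (chkRelF cfg relsL) (nat_lit 204) (nat_lit 179835) = true := by decide +kernel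
theorem rel110x2 : allFrom (chkRelF cfg relsL) (nat_lit 204) (nat_lit 180039) = true := by decide +kernel
theorem rel110x3 : allFrom (chkRelF cfg relsL) (nat_lit 204) (nat_lit 180243) = true := by decide +kernel
theorem rel110x4 : allFrom (chkRelF cfg relsL) (nat_lit 204) (nat_lit 180447) = true := by decide +kernel
theorem rel110x5 : allFrom (chkRelF cfg relsL) (nat_lit 204) (nat_lit 180651) = true := by decide +kernel
theorem rel110x6 : allFrom (chkRelF cfg relsL) (nat_lit 204) (nat_lit 180855) = true := by decide +kernel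
theorem rel110x7 : allFrom (chkRelF cfg relsL) (nat_lit 204) (nat_lit 181059) = true := by decide +kernel
theorem rel110c1 : allFrom (chkRelF cfg relsL) (nat_lit 409) (nat_lit 179630) = true := join rel110x0 rel110x1 rfl rfl
theorem rel110c2 : allFrom (chkRelF cfg relsL) (nat_lit 613) (nat_lit 179630) = true := join rel110c1 rel110x2 rfl rfl
theorem rel110c3 : allFrom (chkRelF cfg relsL) (nat_lit 817) (nat_lit 179630) = true := join rel110c2 rel110x3 rfl rfl
theorem rel110c4 : allFrom (chkRelF cfg relsL) (nat_lit 1021) (nat_lit 179630) = true := join rel110c3 rel110x4 rfl rfl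
theorem rel110c5 : allFrom (chkRelF cfg relsL) (nat_lit 1225) (nat_lit 179630) = true := join rel110c4 rel110x5 rfl rfl
theorem rel110c6 : allFrom (chkRelF cfg relsL) (nat_lit 1429) (nat_lit 179630) = true := join rel110c5 rel110x6 rfl rfl
theorem rel110 : allFrom (chkRelF cfg relsL) (nat_lit 1633) (nat_lit 179630) = true := join rel110c6 rel110x7 rfl rfl

end Cfsg.Agent.Lib.Compute.TC.Fi24a
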