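-- Certificate checks for Fi24a.
import Cfsg.Agent.Lib.Compute.TC.Fi24a.Data
import Cfsg.Agent.Lib.Compute.TCSplit
set_option autoImplicit false
set_option Elab.async false
set_option maxRecDepth 1000000

open Cfsg.Agent.Lib.Compute.ToddCoxeterCore Cfsg.Agent.Lib.Compute.ToddCoxeterPresented Cfsg.Agent.Lib.Compute.TCFast

open Cfsg.Agent.Lib.Compute.TCSplit

namespace Cfsg.Agent.Lib.Compute.TC.Fi24a

theorem rel111x0 : allFrom (chkRelF cfg relsL) (nat_lit 205) (nat_lit 181263) = true := by decide +kernel
theorem rel111x1 : allFrom (chkRelF cfg relsL) (nat_lit 204) (nat_lit 181468) = true := by decide +kernel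
theorem rel111x2 : allFrom (chkRelF cfg relsL) (nat_lit 204) (nat_lit 181672) = true := by decide +kernel
theorem rel111x3 : allFrom (chkRelF cfg relsL) (nat_lit 204) (nat_lit 181876) = true := by decide +kernel
theorem rel111x4 : allFrom (chkRelF cfg relsL) (nat_lit 204) (nat_lit 182080) = true := by decide +kernel
theorem rel111x5 : allFrom (chkRelF cfg relsL) (nat_lit 204) (nat_lit 182284) = true := by decide +kernel
theorem rel111x6 : allFrom (chkRelF cfg relsL) (nat_lit 204) (nat_lit 182488) = true := by decide +kernel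
theorem rel111x7 : allFrom (chkRelF cfg relsL) (nat_lit 204) (nat_lit 182692) = true := by decide +kernel
theorem rel111c1 : allFrom (chkRelF cfg relsL) (nat_lit 409) (nat_lit 181263) = true := join rel111x0 rel111x1 rfl rfl
theorem rel111c2 : allFrom (chkRelF cfg relsL) (nat_lit 613) (nat_lit 181263) = true := join rel111c1 rel111x2 rfl rfl
theorem rel111c3 : allFrom (chkRelF cfg relsL) (nat_lit 817) (nat_lit 181263) = true := join rel111c2 rel111x3 rfl rfl
theorem rel111c4 : allFrom (chkRelF cfg relsL) (nat_lit 1021) (nat_lit 181263) = true := join rel111c3 rel111x4 rfl rfl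
theorem rel111c5 : allFrom (chkRelF cfg relsL) (nat_lit 1225) (nat_lit 181263) = true := join rel111c4 rel111x5 rfl rfl
theorem rel111c6 : allFrom (chkRelF cfg relsL) (nat_lit 1429) (nat_lit 181263) = true := join rel111c5 rel111x6 rfl rfl
theorem rel111 : allFrom (chkRelF cfg relsL) (nat_lit 1633) (nat_lit 181263) = true := join rel111c6 rel111x7 rfl rfl

end Cfsg.Agent.Lib.Compute.TC.Fi24a
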