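-- Certificate checks for Fi24a.
import Cfsg.Agent.Lib.Compute.TC.Fi24a.Data
import Cfsg.Agent.Lib.Compute.TCSplit
set_option autoImplicit false
set_option Elab.async false
set_option maxRecDepth 1000000

open Cfsg.Agent.Lib.Compute.ToddCoxeterCore Cfsg.Agent.Lib.Compute.ToddCoxeterPresented Cfsg.Agent.Lib.Compute.TCFast

open Cfsg.Agent.Lib.Compute.TCSplit

namespace Cfsg.Agent.Lib.Compute.TC.Fi24a

theorem rel112x0 : allFrom (chkRelF cfg relsL) (nat_lit 205) (nat_lit 182896) = true := by decide +kernel
theorem rel112x1 : allFrom (chkRelF cfg relsL) (nat_lit 204) (nat_lit 183101) = true := by decide +kernel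
theorem rel112x2 : allFrom (chkRelF cfg relsL) (nat_lit 204) (nat_lit 183305) = true := by decide +kernel
theorem rel112x3 : allFrom (chkRelF cfg relsL) (nat_lit 204) (nat_lit 183509) = true := by decide +kernel
theorem rel112x4 : allFrom (chkRelF cfg relsL) (nat_lit 204) (nat_lit 183713) = true := by decide +kernel
theorem rel112x5 : allFrom (chkRelF cfg relsL) (nat_lit 204) (nat_lit 183917) = true := by decide +kernel
theorem rel112x6 : allFrom (chkRelF cfg relsL) (nat_lit 204) (nat_lit 184121) = true := by decide +kernel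
theorem rel112x7 : allFrom (chkRelF cfg relsL) (nat_lit 204) (nat_lit 184325) = true := by decide +kernel
theorem rel112c1 : allFrom (chkRelF cfg relsL) (nat_lit 409) (nat_lit 182896) = true := join rel112x0 rel112x1 rfl rfl
theorem rel112c2 : allFrom (chkRelF cfg relsL) (nat_lit 613) (nat_lit 182896) = true := join rel112c1 rel112x2 rfl rfl
theorem rel112c3 : allFrom (chkRelF cfg relsL) (nat_lit 817) (nat_lit 182896) = true := join rel112c2 rel112x3 rfl rfl
theorem rel112c4 : allFrom (chkRelF cfg relsL) (nat_lit 1021) (nat_lit 182896) = true := join rel112c3 rel112x4 rfl rfl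
theorem rel112c5 : allFrom (chkRelF cfg relsL) (nat_lit 1225) (nat_lit 182896) = true := join rel112c4 rel112x5 rfl rfl
theorem rel112c6 : allFrom (chkRelF cfg relsL) (nat_lit 1429) (nat_lit 182896) = true := join rel112c5 rel112x6 rfl rfl
theorem rel112 : allFrom (chkRelF cfg relsL) (nat_lit 1633) (nat_lit 182896) = true := join rel112c6 rel112x7 rfl rfl

end Cfsg.Agent.Lib.Compute.TC.Fi24a
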