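-- Certificate checks for Fi24a.
import Cfsg.Agent.Lib.Compute.TC.Fi24a.Data
import Cfsg.Agent.Lib.Compute.TCSplit
set_option autoImplicit false
set_option Elab.async false
set_option maxRecDepth 1000000

open Cfsg.Agent.Lib.Compute.ToddCoxeterCore Cfsg.Agent.Lib.Compute.ToddCoxeterPresented Cfsg.Agent.Lib.Compute.TCFast

open Cfsg.Agent.Lib.Compute.TCSplit

namespace Cfsg.Agent.Lib.Compute.TC.Fi24a

theorem rel113x0 : allFrom (chkRelF cfg relsL) (nat_lit 205) (nat_lit 184529) = true := by decide +kernel
theorem rel113x1 : allFrom (chkRelF cfg relsL) (nat_lit 204) (nat_lit 184734) = true := by decide +kernel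
theorem rel113x2 : allFrom (chkRelF cfg relsL) (nat_lit 204) (nat_lit 184938) = true := by decide +kernel
theorem rel113x3 : allFrom (chkRelF cfg relsL) (nat_lit 204) (nat_lit 185142) = true := by decide +kernel
theorem rel113x4 : allFrom (chkRelF cfg relsL) (nat_lit 204) (nat_lit 185346) = true := by decide +kernel
theorem rel113x5 : allFrom (chkRelF cfg relsL) (nat_lit 204) (nat_lit 185550) = true := by decide +kernel
theorem rel113x6 : allFrom (chkRelF cfg relsL) (nat_lit 204) (nat_lit 185754) = true := by decide +kernel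
theorem rel113x7 : allFrom (chkRelF cfg relsL) (nat_lit 204) (nat_lit 185958) = true := by decide +kernel
theorem rel113c1 : allFrom (chkRelF cfg relsL) (nat_lit 409) (nat_lit 184529) = true := join rel113x0 rel113x1 rfl rfl
theorem rel113c2 : allFrom (chkRelF cfg relsL) (nat_lit 613) (nat_lit 184529) = true := join rel113c1 rel113x2 rfl rfl
theorem rel113c3 : allFrom (chkRelF cfg relsL) (nat_lit 817) (nat_lit 184529) = true := join rel113c2 rel113x3 rfl rfl
theorem rel113c4 : allFrom (chkRelF cfg relsL) (nat_lit 1021) (nat_lit 184529) = true := join rel113c3 rel113x4 rfl rfl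
theorem rel113c5 : allFrom (chkRelF cfg relsL) (nat_lit 1225) (nat_lit 184529) = true := join rel113c4 rel113x5 rfl rfl
theorem rel113c6 : allFrom (chkRelF cfg relsL) (nat_lit 1429) (nat_lit 184529) = true := join rel113c5 rel113x6 rfl rfl
theorem rel113 : allFrom (chkRelF cfg relsL) (nat_lit 1633) (nat_lit 184529) = true := join rel113c6 rel113x7 rfl rfl

end Cfsg.Agent.Lib.Compute.TC.Fi24a
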