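-- Certificate checks for Fi24a.
import Cfsg.Agent.Lib.Compute.TC.Fi24a.Data
import Cfsg.Agent.Lib.Compute.TCSplit
set_option autoImplicit false
set_option Elab.async false
set_option maxRecDepth 1000000

open Cfsg.Agent.Lib.Compute.ToddCoxeterCore Cfsg.Agent.Lib.Compute.ToddCoxeterPresented Cfsg.Agent.Lib.Compute.TCFast

open Cfsg.Agent.Lib.Compute.TCSplit

namespace Cfsg.Agent.Lib.Compute.TC.Fi24a

theorem rel114x0 : allFrom (chkRelF cfg relsL) (nat_lit 205) (nat_lit 186162) = true := by decide +kernel
theorem rel114x1 : allFrom (chkRelF cfg relsL) (nat_lit 204) (nat_lit 186367) = true := by decide +kernel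
theorem rel114x2 : allFrom (chkRelF cfg relsL) (nat_lit 204) (nat_lit 186571) = true := by decide +kernel
theorem rel114x3 : allFrom (chkRelF cfg relsL) (nat_lit 204) (nat_lit 186775) = true := by decide +kernel
theorem rel114x4 : allFrom (chkRelF cfg relsL) (nat_lit 204) (nat_lit 186979) = true := by decide +kernel
theorem rel114x5 : allFrom (chkRelF cfg relsL) (nat_lit 204) (nat_lit 187183) = true := by decide +kernel
theorem rel114x6 : allFrom (chkRelF cfg relsL) (nat_lit 204) (nat_lit 187387) = true := by decide +kernel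
theorem rel114x7 : allFrom (chkRelF cfg relsL) (nat_lit 204) (nat_lit 187591) = true := by decide +kernel
theorem rel114c1 : allFrom (chkRelF cfg relsL) (nat_lit 409) (nat_lit 186162) = true := join rel114x0 rel114x1 rfl rfl
theorem rel114c2 : allFrom (chkRelF cfg relsL) (nat_lit 613) (nat_lit 186162) = true := join rel114c1 rel114x2 rfl rfl
theorem rel114c3 : allFrom (chkRelF cfg relsL) (nat_lit 817) (nat_lit 186162) = true := join rel114c2 rel114x3 rfl rfl
theorem rel114c4 : allFrom (chkRelF cfg relsL) (nat_lit 1021) (nat_lit 186162) = true := join rel114c3 rel114x4 rfl rfl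
theorem rel114c5 : allFrom (chkRelF cfg relsL) (nat_lit 1225) (nat_lit 186162) = true := join rel114c4 rel114x5 rfl rfl
theorem rel114c6 : allFrom (chkRelF cfg relsL) (nat_lit 1429) (nat_lit 186162) = true := join rel114c5 rel114x6 rfl rfl
theorem rel114 : allFrom (chkRelF cfg relsL) (nat_lit 1633) (nat_lit 186162) = true := join rel114c6 rel114x7 rfl rfl

end Cfsg.Agent.Lib.Compute.TC.Fi24a
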