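-- Certificate checks for Fi24a.
import Cfsg.Agent.Lib.Compute.TC.Fi24a.Data
import Cfsg.Agent.Lib.Compute.TCSplit
set_option autoImplicit false
set_option Elab.async false
set_option maxRecDepth 1000000

open Cfsg.Agent.Lib.Compute.ToddCoxeterCore Cfsg.Agent.Lib.Compute.ToddCoxeterPresented Cfsg.Agent.Lib.Compute.TCFast

open Cfsg.Agent.Lib.Compute.TCSplit

namespace Cfsg.Agent.Lib.Compute.TC.Fi24a

theorem rel115x0 : allFrom (chkRelF cfg relsL) (nat_lit 205) (nat_lit 187795) = true := by decide +kernel
theorem rel115x1 : allFrom (chkRelF cfg relsL) (nat_lit 204) (nat_lit 188000) = true := by decide +kernel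
theorem rel115x2 : allFrom (chkRelF cfg relsL) (nat_lit 204) (nat_lit 188204) = true := by decide +kernel
theorem rel115x3 : allFrom (chkRelF cfg relsL) (nat_lit 204) (nat_lit 188408) = true := by decide +kernel
theorem rel115x4 : allFrom (chkRelF cfg relsL) (nat_lit 204) (nat_lit 188612) = true := by decide +kernel
theorem rel115x5 : allFrom (chkRelF cfg relsL) (nat_lit 204) (nat_lit 188816) = true := by decide +kernel
theorem rel115x6 : allFrom (chkRelF cfg relsL) (nat_lit 204) (nat_lit 189020) = true := by decide +kernel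
theorem rel115x7 : allFrom (chkRelF cfg relsL) (nat_lit 204) (nat_lit 189224) = true := by decide +kernel
theorem rel115c1 : allFrom (chkRelF cfg relsL) (nat_lit 409) (nat_lit 187795) = true := join rel115x0 rel115x1 rfl rfl
theorem rel115c2 : allFrom (chkRelF cfg relsL) (nat_lit 613) (nat_lit 187795) = true := join rel115c1 rel115x2 rfl rfl
theorem rel115c3 : allFrom (chkRelF cfg relsL) (nat_lit 817) (nat_lit 187795) = true := join rel115c2 rel115x3 rfl rfl
theorem rel115c4 : allFrom (chkRelF cfg relsL) (nat_lit 1021) (nat_lit 187795) = true := join rel115c3 rel115x4 rfl rfl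
theorem rel115c5 : allFrom (chkRelF cfg relsL) (nat_lit 1225) (nat_lit 187795) = true := join rel115c4 rel115x5 rfl rfl
theorem rel115c6 : allFrom (chkRelF cfg relsL) (nat_lit 1429) (nat_lit 187795) = true := join rel115c5 rel115x6 rfl rfl
theorem rel115 : allFrom (chkRelF cfg relsL) (nat_lit 1633) (nat_lit 187795) = true := join rel115c6 rel115x7 rfl rfl

end Cfsg.Agent.Lib.Compute.TC.Fi24a
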