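-- Certificate checks for Fi24a.
import Cfsg.Agent.Lib.Compute.TC.Fi24a.Data
import Cfsg.Agent.Lib.Compute.TCSplit
set_option autoImplicit false
set_option Elab.async false
set_option maxRecDepth 1000000

open Cfsg.Agent.Lib.Compute.ToddCoxeterCore Cfsg.Agent.Lib.Compute.ToddCoxeterPresented Cfsg.Agent.Lib.Compute.TCFast

open Cfsg.Agent.Lib.Compute.TCSplit

namespace Cfsg.Agent.Lib.Compute.TC.Fi24a

theorem rel116x0 : allFrom (chkRelF cfg relsL) (nat_lit 205) (nat_lit 189428) = true := by decide +kernel
theorem rel116x1 : allFrom (chkRelF cfg relsL) (nat_lit 204) (nat_lit 189633) = true := by decide +kernel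
theorem rel116x2 : allFrom (chkRelF cfg relsL) (nat_lit 204) (nat_lit 189837) = true := by decide +kernel
theorem rel116x3 : allFrom (chkRelF cfg relsL) (nat_lit 204) (nat_lit 190041) = true := by decide +kernel
theorem rel116x4 : allFrom (chkRelF cfg relsL) (nat_lit 204) (nat_lit 190245) = true := by decide +kernel
theorem rel116x5 : allFrom (chkRelF cfg relsL) (nat_lit 204) (nat_lit 190449) = true := by decide +kernel
theorem rel116x6 : allFrom (chkRelF cfg relsL) (nat_lit 204) (nat_lit 190653) = true := by decide +kernel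
theorem rel116x7 : allFrom (chkRelF cfg relsL) (nat_lit 204) (nat_lit 190857) = true := by decide +kernel
theorem rel116c1 : allFrom (chkRelF cfg relsL) (nat_lit 409) (nat_lit 189428) = true := join rel116x0 rel116x1 rfl rfl
theorem rel116c2 : allFrom (chkRelF cfg relsL) (nat_lit 613) (nat_lit 189428) = true := join rel116c1 rel116x2 rfl rfl
theorem rel116c3 : allFrom (chkRelF cfg relsL) (nat_lit 817) (nat_lit 189428) = true := join rel116c2 rel116x3 rfl rfl
theorem rel116c4 : allFrom (chkRelF cfg relsL) (nat_lit 1021) (nat_lit 189428) = true := join rel116c3 rel116x4 rfl rfl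
theorem rel116c5 : allFrom (chkRelF cfg relsL) (nat_lit 1225) (nat_lit 189428) = true := join rel116c4 rel116x5 rfl rfl
theorem rel116c6 : allFrom (chkRelF cfg relsL) (nat_lit 1429) (nat_lit 189428) = true := join rel116c5 rel116x6 rfl rfl
theorem rel116 : allFrom (chkRelF cfg relsL) (nat_lit 1633) (nat_lit 189428) = true := join rel116c6 rel116x7 rfl rfl

end Cfsg.Agent.Lib.Compute.TC.Fi24a
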