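-- Certificate checks for Fi24a.
import Cfsg.Agent.Lib.Compute.TC.Fi24a.Data
import Cfsg.Agent.Lib.Compute.TCSplit
set_option autoImplicit false
set_option Elab.async false
set_option maxRecDepth 1000000

open Cfsg.Agent.Lib.Compute.ToddCoxeterCore Cfsg.Agent.Lib.Compute.ToddCoxeterPresented Cfsg.Agent.Lib.Compute.TCFast

open Cfsg.Agent.Lib.Compute.TCSplit

namespace Cfsg.Agent.Lib.Compute.TC.Fi24a

theorem rel117x0 : allFrom (chkRelF cfg relsL) (nat_lit 205) (nat_lit 191061) = true := by decide +kernel
theorem rel117x1 : allFrom (chkRelF cfg relsL) (nat_lit 204) (nat_lit 191266) = true := by decide +kernel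
theorem rel117x2 : allFrom (chkRelF cfg relsL) (nat_lit 204) (nat_lit 191470) = true := by decide +kernel
theorem rel117x3 : allFrom (chkRelF cfg relsL) (nat_lit 204) (nat_lit 191674) = true := by decide +kernel
theorem rel117x4 : allFrom (chkRelF cfg relsL) (nat_lit 204) (nat_lit 191878) = true := by decide +kernel
theorem rel117x5 : allFrom (chkRelF cfg relsL) (nat_lit 204) (nat_lit 192082) = true := by decide +kernel
theorem rel117x6 : allFrom (chkRelF cfg relsL) (nat_lit 204) (nat_lit 192286) = true := by decide +kernel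
theorem rel117x7 : allFrom (chkRelF cfg relsL) (nat_lit 204) (nat_lit 192490) = true := by decide +kernel
theorem rel117c1 : allFrom (chkRelF cfg relsL) (nat_lit 409) (nat_lit 191061) = true := join rel117x0 rel117x1 rfl rfl
theorem rel117c2 : allFrom (chkRelF cfg relsL) (nat_lit 613) (nat_lit 191061) = true := join rel117c1 rel117x2 rfl rfl
theorem rel117c3 : allFrom (chkRelF cfg relsL) (nat_lit 817) (nat_lit 191061) = true := join rel117c2 rel117x3 rfl rfl
theorem rel117c4 : allFrom (chkRelF cfg relsL) (nat_lit 1021) (nat_lit 191061) = true := join rel117c3 rel117x4 rfl rfl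
theorem rel117c5 : allFrom (chkRelF cfg relsL) (nat_lit 1225) (nat_lit 191061) = true := join rel117c4 rel117x5 rfl rfl
theorem rel117c6 : allFrom (chkRelF cfg relsL) (nat_lit 1429) (nat_lit 191061) = true := join rel117c5 rel117x6 rfl rfl
theorem rel117 : allFrom (chkRelF cfg relsL) (nat_lit 1633) (nat_lit 191061) = true := join rel117c6 rel117x7 rfl rfl

end Cfsg.Agent.Lib.Compute.TC.Fi24a
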