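-- Certificate checks for Fi24a.
import Cfsg.Agent.Lib.Compute.TC.Fi24a.Data
import Cfsg.Agent.Lib.Compute.TCSplit
set_option autoImplicit false
set_option Elab.async false
set_option maxRecDepth 1000000

open Cfsg.Agent.Lib.Compute.ToddCoxeterCore Cfsg.Agent.Lib.Compute.ToddCoxeterPresented Cfsg.Agent.Lib.Compute.TCFast

open Cfsg.Agent.Lib.Compute.TCSplit

namespace Cfsg.Agent.Lib.Compute.TC.Fi24a

theorem rel118x0 : allFrom (chkRelF cfg relsL) (nat_lit 205) (nat_lit 192694) = true := by decide +kernel
theorem rel118x1 : allFrom (chkRelF cfg relsL) (nat_lit 204) (nat_lit 192899) = true := by decide +kernel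
theorem rel118x2 : allFrom (chkRelF cfg relsL) (nat_lit 204) (nat_lit 193103) = true := by decide +kernel
theorem rel118x3 : allFrom (chkRelF cfg relsL) (nat_lit 204) (nat_lit 193307) = true := by decide +kernel
theorem rel118x4 : allFrom (chkRelF cfg relsL) (nat_lit 204) (nat_lit 193511) = true := by decide +kernel
theorem rel118x5 : allFrom (chkRelF cfg relsL) (nat_lit 204) (nat_lit 193715) = true := by decide +kernel
theorem rel118x6 : allFrom (chkRelF cfg relsL) (nat_lit 204) (nat_lit 193919) = true := by decide +kernel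
theorem rel118x7 : allFrom (chkRelF cfg relsL) (nat_lit 204) (nat_lit 194123) = true := by decide +kernel
theorem rel118c1 : allFrom (chkRelF cfg relsL) (nat_lit 409) (nat_lit 192694) = true := join rel118x0 rel118x1 rfl rfl
theorem rel118c2 : allFrom (chkRelF cfg relsL) (nat_lit 613) (nat_lit 192694) = true := join rel118c1 rel118x2 rfl rfl
theorem rel118c3 : allFrom (chkRelF cfg relsL) (nat_lit 817) (nat_lit 192694) = true := join rel118c2 rel118x3 rfl rfl
theorem rel118c4 : allFrom (chkRelF cfg relsL) (nat_lit 1021) (nat_lit 192694) = true := join rel118c3 rel118x4 rfl rfl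
theorem rel118c5 : allFrom (chkRelF cfg relsL) (nat_lit 1225) (nat_lit 192694) = true := join rel118c4 rel118x5 rfl rfl
theorem rel118c6 : allFrom (chkRelF cfg relsL) (nat_lit 1429) (nat_lit 192694) = true := join rel118c5 rel118x6 rfl rfl
theorem rel118 : allFrom (chkRelF cfg relsL) (nat_lit 1633) (nat_lit 192694) = true := join rel118c6 rel118x7 rfl rfl

end Cfsg.Agent.Lib.Compute.TC.Fi24a
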