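-- Certificate checks for Fi24a.
import Cfsg.Agent.Lib.Compute.TC.Fi24a.Data
import Cfsg.Agent.Lib.Compute.TCSplit
set_option autoImplicit false
set_option Elab.async false
set_option maxRecDepth 1000000

open Cfsg.Agent.Lib.Compute.ToddCoxeterCore Cfsg.Agent.Lib.Compute.ToddCoxeterPresented Cfsg.Agent.Lib.Compute.TCFast

open Cfsg.Agent.Lib.Compute.TCSplit

namespace Cfsg.Agent.Lib.Compute.TC.Fi24a

theorem rel119x0 : allFrom (chkRelF cfg relsL) (nat_lit 205) (nat_lit 194327) = true := by decide +kernel
theorem rel119x1 : allFrom (chkRelF cfg relsL) (nat_lit 204) (nat_lit 194532) = true := by decide +kernel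
theorem rel119x2 : allFrom (chkRelF cfg relsL) (nat_lit 204) (nat_lit 194736) = true := by decide +kernel
theorem rel119x3 : allFrom (chkRelF cfg relsL) (nat_lit 204) (nat_lit 194940) = true := by decide +kernel
theorem rel119x4 : allFrom (chkRelF cfg relsL) (nat_lit 204) (nat_lit 195144) = true := by decide +kernel
theorem rel119x5 : allFrom (chkRelF cfg relsL) (nat_lit 204) (nat_lit 195348) = true := by decide +kernel
theorem rel119x6 : allFrom (chkRelF cfg relsL) (nat_lit 204) (nat_lit 195552) = true := by decide +kernel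
theorem rel119x7 : allFrom (chkRelF cfg relsL) (nat_lit 204) (nat_lit 195756) = true := by decide +kernel
theorem rel119c1 : allFrom (chkRelF cfg relsL) (nat_lit 409) (nat_lit 194327) = true := join rel119x0 rel119x1 rfl rfl
theorem rel119c2 : allFrom (chkRelF cfg relsL) (nat_lit 613) (nat_lit 194327) = true := join rel119c1 rel119x2 rfl rfl
theorem rel119c3 : allFrom (chkRelF cfg relsL) (nat_lit 817) (nat_lit 194327) = true := join rel119c2 rel119x3 rfl rfl
theorem rel119c4 : allFrom (chkRelF cfg relsL) (nat_lit 1021) (nat_lit 194327) = true := join rel119c3 rel119x4 rfl rfl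
theorem rel119c5 : allFrom (chkRelF cfg relsL) (nat_lit 1225) (nat_lit 194327) = true := join rel119c4 rel119x5 rfl rfl
theorem rel119c6 : allFrom (chkRelF cfg relsL) (nat_lit 1429) (nat_lit 194327) = true := join rel119c5 rel119x6 rfl rfl
theorem rel119 : allFrom (chkRelF cfg relsL) (nat_lit 1633) (nat_lit 194327) = true := join rel119c6 rel119x7 rfl rfl

end Cfsg.Agent.Lib.Compute.TC.Fi24a
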