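-- Certificate checks for Fi24a.
import Cfsg.Agent.Lib.Compute.TC.Fi24a.Data
import Cfsg.Agent.Lib.Compute.TCSplit
set_option autoImplicit false
set_option Elab.async false
set_option maxRecDepth 1000000

open Cfsg.Agent.Lib.Compute.ToddCoxeterCore Cfsg.Agent.Lib.Compute.ToddCoxeterPresented Cfsg.Agent.Lib.Compute.TCFast

open Cfsg.Agent.Lib.Compute.TCSplit

namespace Cfsg.Agent.Lib.Compute.TC.Fi24a

theorem rel12x0 : allFrom (chkRelF cfg relsL) (nat_lit 205) (nat_lit 19596) = true := by decide +kernel
theorem rel12x1 : allFrom (chkRelF cfg relsL) (nat_lit 204) (nat_lit 19801) = true := by decide +kernel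
theorem rel12x2 : allFrom (chkRelF cfg relsL) (nat_lit 204) (nat_lit 20005) = true := by decide +kernel
theorem rel12x3 : allFrom (chkRelF cfg relsL) (nat_lit 204) (nat_lit 20209) = true := by decide +kernel
theorem rel12x4 : allFrom (chkRelF cfg relsL) (nat_lit 204) (nat_lit 20413) = true := by decide +kernel
theorem rel12x5 : allFrom (chkRelF cfg relsL) (nat_lit 204) (nat_lit 20617) = true := by decide +kernel
theorem rel12x6 : allFrom (chkRelF cfg relsL) (nat_lit 204) (nat_lit 20821) = true := by decide +kernel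
theorem rel12x7 : allFrom (chkRelF cfg relsL) (nat_lit 204) (nat_lit 21025) = true := by decide +kernel
theorem rel12c1 : allFrom (chkRelF cfg relsL) (nat_lit 409) (nat_lit 19596) = true := join rel12x0 rel12x1 rfl rfl
theorem rel12c2 : allFrom (chkRelF cfg relsL) (nat_lit 613) (nat_lit 19596) = true := join rel12c1 rel12x2 rfl rfl
theorem rel12c3 : allFrom (chkRelF cfg relsL) (nat_lit 817) (nat_lit 19596) = true := join rel12c2 rel12x3 rfl rfl
theorem rel12c4 : allFrom (chkRelF cfg relsL) (nat_lit 1021) (nat_lit 19596) = true := join rel12c3 rel12x4 rfl rfl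
theorem rel12c5 : allFrom (chkRelF cfg relsL) (nat_lit 1225) (nat_lit 19596) = true := join rel12c4 rel12x5 rfl rfl
theorem rel12c6 : allFrom (chkRelF cfg relsL) (nat_lit 1429) (nat_lit 19596) = true := join rel12c5 rel12x6 rfl rfl
theorem rel12 : allFrom (chkRelF cfg relsL) (nat_lit 1633) (nat_lit 19596) = true := join rel12c6 rel12x7 rfl rfl

end Cfsg.Agent.Lib.Compute.TC.Fi24a
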