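-- Certificate checks for Fi24a.
import Cfsg.Agent.Lib.Compute.TC.Fi24a.Data
import Cfsg.Agent.Lib.Compute.TCSplit
set_option autoImplicit false
set_option Elab.async false
set_option maxRecDepth 1000000

open Cfsg.Agent.Lib.Compute.ToddCoxeterCore Cfsg.Agent.Lib.Compute.ToddCoxeterPresented Cfsg.Agent.Lib.Compute.TCFast

open Cfsg.Agent.Lib.Compute.TCSplit

namespace Cfsg.Agent.Lib.Compute.TC.Fi24a

theorem rel121x0 : allFrom (chkRelF cfg relsL) (nat_lit 205) (nat_lit 197593) = true := by decide +kernel
theorem rel121x1 : allFrom (chkRelF cfg relsL) (nat_lit 204) (nat_lit 197798) = true := by decide +kernel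
theorem rel121x2 : allFrom (chkRelF cfg relsL) (nat_lit 204) (nat_lit 198002) = true := by decide +kernel
theorem rel121x3 : allFrom (chkRelF cfg relsL) (nat_lit 204) (nat_lit 198206) = true := by decide +kernel
theorem rel121x4 : allFrom (chkRelF cfg relsL) (nat_lit 204) (nat_lit 198410) = true := by decide +kernel
theorem rel121x5 : allFrom (chkRelF cfg relsL) (nat_lit 204) (nat_lit 198614) = true := by decide +kernel
theorem rel121x6 : allFrom (chkRelF cfg relsL) (nat_lit 204) (nat_lit 198818) = true := by decide +kernel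
theorem rel121x7 : allFrom (chkRelF cfg relsL) (nat_lit 204) (nat_lit 199022) = true := by decide +kernel
theorem rel121c1 : allFrom (chkRelF cfg relsL) (nat_lit 409) (nat_lit 197593) = true := join rel121x0 rel121x1 rfl rfl
theorem rel121c2 : allFrom (chkRelF cfg relsL) (nat_lit 613) (nat_lit 197593) = true := join rel121c1 rel121x2 rfl rfl
theorem rel121c3 : allFrom (chkRelF cfg relsL) (nat_lit 817) (nat_lit 197593) = true := join rel121c2 rel121x3 rfl rfl
theorem rel121c4 : allFrom (chkRelF cfg relsL) (nat_lit 1021) (nat_lit 197593) = true := join rel121c3 rel121x4 rfl rfl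
theorem rel121c5 : allFrom (chkRelF cfg relsL) (nat_lit 1225) (nat_lit 197593) = true := join rel121c4 rel121x5 rfl rfl
theorem rel121c6 : allFrom (chkRelF cfg relsL) (nat_lit 1429) (nat_lit 197593) = true := join rel121c5 rel121x6 rfl rfl
theorem rel121 : allFrom (chkRelF cfg relsL) (nat_lit 1633) (nat_lit 197593) = true := join rel121c6 rel121x7 rfl rfl

end Cfsg.Agent.Lib.Compute.TC.Fi24a
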