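-- Certificate checks for Fi24a.
import Cfsg.Agent.Lib.Compute.TC.Fi24a.Data
import Cfsg.Agent.Lib.Compute.TCSplit
set_option autoImplicit false
set_option Elab.async false
set_option maxRecDepth 1000000

open Cfsg.Agent.Lib.Compute.ToddCoxeterCore Cfsg.Agent.Lib.Compute.ToddCoxeterPresented Cfsg.Agent.Lib.Compute.TCFast

open Cfsg.Agent.Lib.Compute.TCSplit

namespace Cfsg.Agent.Lib.Compute.TC.Fi24a

theorem rel122x0 : allFrom (chkRelF cfg relsL) (nat_lit 205) (nat_lit 199226) = true := by decide +kernel
theorem rel122x1 : allFrom (chkRelF cfg relsL) (nat_lit 204) (nat_lit 199431) = true := by decide +kernel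
theorem rel122x2 : allFrom (chkRelF cfg relsL) (nat_lit 204) (nat_lit 199635) = true := by decide +kernel
theorem rel122x3 : allFrom (chkRelF cfg relsL) (nat_lit 204) (nat_lit 199839) = true := by decide +kernel
theorem rel122x4 : allFrom (chkRelF cfg relsL) (nat_lit 204) (nat_lit 200043) = true := by decide +kernel
theorem rel122x5 : allFrom (chkRelF cfg relsL) (nat_lit 204) (nat_lit 200247) = true := by decide +kernel
theorem rel122x6 : allFrom (chkRelF cfg relsL) (nat_lit 204) (nat_lit 200451) = true := by decide +kernel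
theorem rel122x7 : allFrom (chkRelF cfg relsL) (nat_lit 204) (nat_lit 200655) = true := by decide +kernel
theorem rel122c1 : allFrom (chkRelF cfg relsL) (nat_lit 409) (nat_lit 199226) = true := join rel122x0 rel122x1 rfl rfl
theorem rel122c2 : allFrom (chkRelF cfg relsL) (nat_lit 613) (nat_lit 199226) = true := join rel122c1 rel122x2 rfl rfl
theorem rel122c3 : allFrom (chkRelF cfg relsL) (nat_lit 817) (nat_lit 199226) = true := join rel122c2 rel122x3 rfl rfl
theorem rel122c4 : allFrom (chkRelF cfg relsL) (nat_lit 1021) (nat_lit 199226) = true := join rel122c3 rel122x4 rfl rfl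
theorem rel122c5 : allFrom (chkRelF cfg relsL) (nat_lit 1225) (nat_lit 199226) = true := join rel122c4 rel122x5 rfl rfl
theorem rel122c6 : allFrom (chkRelF cfg relsL) (nat_lit 1429) (nat_lit 199226) = true := join rel122c5 rel122x6 rfl rfl
theorem rel122 : allFrom (chkRelF cfg relsL) (nat_lit 1633) (nat_lit 199226) = true := join rel122c6 rel122x7 rfl rfl

end Cfsg.Agent.Lib.Compute.TC.Fi24a
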