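-- Certificate checks for Fi24a.
import Cfsg.Agent.Lib.Compute.TC.Fi24a.Data
import Cfsg.Agent.Lib.Compute.TCSplit
set_option autoImplicit false
set_option Elab.async false
set_option maxRecDepth 1000000

open Cfsg.Agent.Lib.Compute.ToddCoxeterCore Cfsg.Agent.Lib.Compute.ToddCoxeterPresented Cfsg.Agent.Lib.Compute.TCFast

open Cfsg.Agent.Lib.Compute.TCSplit

namespace Cfsg.Agent.Lib.Compute.TC.Fi24a

theorem rel123x0 : allFrom (chkRelF cfg relsL) (nat_lit 205) (nat_lit 200859) = true := by decide +kernel
theorem rel123x1 : allFrom (chkRelF cfg relsL) (nat_lit 204) (nat_lit 201064) = true := by decide +kernel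
theorem rel123x2 : allFrom (chkRelF cfg relsL) (nat_lit 204) (nat_lit 201268) = true := by decide +kernel
theorem rel123x3 : allFrom (chkRelF cfg relsL) (nat_lit 204) (nat_lit 201472) = true := by decide +kernel
theorem rel123x4 : allFrom (chkRelF cfg relsL) (nat_lit 204) (nat_lit 201676) = true := by decide +kernel
theorem rel123x5 : allFrom (chkRelF cfg relsL) (nat_lit 204) (nat_lit 201880) = true := by decide +kernel
theorem rel123x6 : allFrom (chkRelF cfg relsL) (nat_lit 204) (nat_lit 202084) = true := by decide +kernel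
theorem rel123x7 : allFrom (chkRelF cfg relsL) (nat_lit 204) (nat_lit 202288) = true := by decide +kernel
theorem rel123c1 : allFrom (chkRelF cfg relsL) (nat_lit 409) (nat_lit 200859) = true := join rel123x0 rel123x1 rfl rfl
theorem rel123c2 : allFrom (chkRelF cfg relsL) (nat_lit 613) (nat_lit 200859) = true := join rel123c1 rel123x2 rfl rfl
theorem rel123c3 : allFrom (chkRelF cfg relsL) (nat_lit 817) (nat_lit 200859) = true := join rel123c2 rel123x3 rfl rfl
theorem rel123c4 : allFrom (chkRelF cfg relsL) (nat_lit 1021) (nat_lit 200859) = true := join rel123c3 rel123x4 rfl rfl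
theorem rel123c5 : allFrom (chkRelF cfg relsL) (nat_lit 1225) (nat_lit 200859) = true := join rel123c4 rel123x5 rfl rfl
theorem rel123c6 : allFrom (chkRelF cfg relsL) (nat_lit 1429) (nat_lit 200859) = true := join rel123c5 rel123x6 rfl rfl
theorem rel123 : allFrom (chkRelF cfg relsL) (nat_lit 1633) (nat_lit 200859) = true := join rel123c6 rel123x7 rfl rfl

end Cfsg.Agent.Lib.Compute.TC.Fi24a
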