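-- Certificate checks for Fi24a.
import Cfsg.Agent.Lib.Compute.TC.Fi24a.Data
import Cfsg.Agent.Lib.Compute.TCSplit
set_option autoImplicit false
set_option Elab.async false
set_option maxRecDepth 1000000

open Cfsg.Agent.Lib.Compute.ToddCoxeterCore Cfsg.Agent.Lib.Compute.ToddCoxeterPresented Cfsg.Agent.Lib.Compute.TCFast

open Cfsg.Agent.Lib.Compute.TCSplit

namespace Cfsg.Agent.Lib.Compute.TC.Fi24a

theorem rel124x0 : allFrom (chkRelF cfg relsL) (nat_lit 205) (nat_lit 202492) = true := by decide +kernel
theorem rel124x1 : allFrom (chkRelF cfg relsL) (nat_lit 204) (nat_lit 202697) = true := by decide +kernel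
theorem rel124x2 : allFrom (chkRelF cfg relsL) (nat_lit 204) (nat_lit 202901) = true := by decide +kernel
theorem rel124x3 : allFrom (chkRelF cfg relsL) (nat_lit 204) (nat_lit 203105) = true := by decide +kernel
theorem rel124x4 : allFrom (chkRelF cfg relsL) (nat_lit 204) (nat_lit 203309) = true := by decide +kernel
theorem rel124x5 : allFrom (chkRelF cfg relsL) (nat_lit 204) (nat_lit 203513) = true := by decide +kernel
theorem rel124x6 : allFrom (chkRelF cfg relsL) (nat_lit 204) (nat_lit 203717) = true := by decide +kernel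
theorem rel124x7 : allFrom (chkRelF cfg relsL) (nat_lit 204) (nat_lit 203921) = true := by decide +kernel
theorem rel124c1 : allFrom (chkRelF cfg relsL) (nat_lit 409) (nat_lit 202492) = true := join rel124x0 rel124x1 rfl rfl
theorem rel124c2 : allFrom (chkRelF cfg relsL) (nat_lit 613) (nat_lit 202492) = true := join rel124c1 rel124x2 rfl rfl
theorem rel124c3 : allFrom (chkRelF cfg relsL) (nat_lit 817) (nat_lit 202492) = true := join rel124c2 rel124x3 rfl rfl
theorem rel124c4 : allFrom (chkRelF cfg relsL) (nat_lit 1021) (nat_lit 202492) = true := join rel124c3 rel124x4 rfl rfl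
theorem rel124c5 : allFrom (chkRelF cfg relsL) (nat_lit 1225) (nat_lit 202492) = true := join rel124c4 rel124x5 rfl rfl
theorem rel124c6 : allFrom (chkRelF cfg relsL) (nat_lit 1429) (nat_lit 202492) = true := join rel124c5 rel124x6 rfl rfl
theorem rel124 : allFrom (chkRelF cfg relsL) (nat_lit 1633) (nat_lit 202492) = true := join rel124c6 rel124x7 rfl rfl

end Cfsg.Agent.Lib.Compute.TC.Fi24a
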