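-- Certificate checks for Fi24a.
import Cfsg.Agent.Lib.Compute.TC.Fi24a.Data
import Cfsg.Agent.Lib.Compute.TCSplit
set_option autoImplicit false
set_option Elab.async false
set_option maxRecDepth 1000000

open Cfsg.Agent.Lib.Compute.ToddCoxeterCore Cfsg.Agent.Lib.Compute.ToddCoxeterPresented Cfsg.Agent.Lib.Compute.TCFast

open Cfsg.Agent.Lib.Compute.TCSplit

namespace Cfsg.Agent.Lib.Compute.TC.Fi24a

theorem rel125x0 : allFrom (chkRelF cfg relsL) (nat_lit 205) (nat_lit 204125) = true := by decide +kernel
theorem rel125x1 : allFrom (chkRelF cfg relsL) (nat_lit 204) (nat_lit 204330) = true := by decide +kernel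
theorem rel125x2 : allFrom (chkRelF cfg relsL) (nat_lit 204) (nat_lit 204534) = true := by decide +kernel
theorem rel125x3 : allFrom (chkRelF cfg relsL) (nat_lit 204) (nat_lit 204738) = true := by decide +kernel
theorem rel125x4 : allFrom (chkRelF cfg relsL) (nat_lit 204) (nat_lit 204942) = true := by decide +kernel
theorem rel125x5 : allFrom (chkRelF cfg relsL) (nat_lit 204) (nat_lit 205146) = true := by decide +kernel
theorem rel125x6 : allFrom (chkRelF cfg relsL) (nat_lit 204) (nat_lit 205350) = true := by decide +kernel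
theorem rel125x7 : allFrom (chkRelF cfg relsL) (nat_lit 204) (nat_lit 205554) = true := by decide +kernel
theorem rel125c1 : allFrom (chkRelF cfg relsL) (nat_lit 409) (nat_lit 204125) = true := join rel125x0 rel125x1 rfl rfl
theorem rel125c2 : allFrom (chkRelF cfg relsL) (nat_lit 613) (nat_lit 204125) = true := join rel125c1 rel125x2 rfl rfl
theorem rel125c3 : allFrom (chkRelF cfg relsL) (nat_lit 817) (nat_lit 204125) = true := join rel125c2 rel125x3 rfl rfl
theorem rel125c4 : allFrom (chkRelF cfg relsL) (nat_lit 1021) (nat_lit 204125) = true := join rel125c3 rel125x4 rfl rfl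
theorem rel125c5 : allFrom (chkRelF cfg relsL) (nat_lit 1225) (nat_lit 204125) = true := join rel125c4 rel125x5 rfl rfl
theorem rel125c6 : allFrom (chkRelF cfg relsL) (nat_lit 1429) (nat_lit 204125) = true := join rel125c5 rel125x6 rfl rfl
theorem rel125 : allFrom (chkRelF cfg relsL) (nat_lit 1633) (nat_lit 204125) = true := join rel125c6 rel125x7 rfl rfl

end Cfsg.Agent.Lib.Compute.TC.Fi24a
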