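-- Certificate checks for Fi24a.
import Cfsg.Agent.Lib.Compute.TC.Fi24a.Data
import Cfsg.Agent.Lib.Compute.TCSplit
set_option autoImplicit false
set_option Elab.async false
set_option maxRecDepth 1000000

open Cfsg.Agent.Lib.Compute.ToddCoxeterCore Cfsg.Agent.Lib.Compute.ToddCoxeterPresented Cfsg.Agent.Lib.Compute.TCFast

open Cfsg.Agent.Lib.Compute.TCSplit

namespace Cfsg.Agent.Lib.Compute.TC.Fi24a

theorem rel126x0 : allFrom (chkRelF cfg relsL) (nat_lit 205) (nat_lit 205758) = true := by decide +kernel
theorem rel126x1 : allFrom (chkRelF cfg relsL) (nat_lit 204) (nat_lit 205963) = true := by decide +kernel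
theorem rel126x2 : allFrom (chkRelF cfg relsL) (nat_lit 204) (nat_lit 206167) = true := by decide +kernel
theorem rel126x3 : allFrom (chkRelF cfg relsL) (nat_lit 204) (nat_lit 206371) = true := by decide +kernel
theorem rel126x4 : allFrom (chkRelF cfg relsL) (nat_lit 204) (nat_lit 206575) = true := by decide +kernel
theorem rel126x5 : allFrom (chkRelF cfg relsL) (nat_lit 204) (nat_lit 206779) = true := by decide +kernel
theorem rel126x6 : allFrom (chkRelF cfg relsL) (nat_lit 204) (nat_lit 206983) = true := by decide +kernel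
theorem rel126x7 : allFrom (chkRelF cfg relsL) (nat_lit 204) (nat_lit 207187) = true := by decide +kernel
theorem rel126c1 : allFrom (chkRelF cfg relsL) (nat_lit 409) (nat_lit 205758) = true := join rel126x0 rel126x1 rfl rfl
theorem rel126c2 : allFrom (chkRelF cfg relsL) (nat_lit 613) (nat_lit 205758) = true := join rel126c1 rel126x2 rfl rfl
theorem rel126c3 : allFrom (chkRelF cfg relsL) (nat_lit 817) (nat_lit 205758) = true := join rel126c2 rel126x3 rfl rfl
theorem rel126c4 : allFrom (chkRelF cfg relsL) (nat_lit 1021) (nat_lit 205758) = true := join rel126c3 rel126x4 rfl rfl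
theorem rel126c5 : allFrom (chkRelF cfg relsL) (nat_lit 1225) (nat_lit 205758) = true := join rel126c4 rel126x5 rfl rfl
theorem rel126c6 : allFrom (chkRelF cfg relsL) (nat_lit 1429) (nat_lit 205758) = true := join rel126c5 rel126x6 rfl rfl
theorem rel126 : allFrom (chkRelF cfg relsL) (nat_lit 1633) (nat_lit 205758) = true := join rel126c6 rel126x7 rfl rfl

end Cfsg.Agent.Lib.Compute.TC.Fi24a
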