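-- Certificate checks for Fi24a.
import Cfsg.Agent.Lib.Compute.TC.Fi24a.Data
import Cfsg.Agent.Lib.Compute.TCSplit
set_option autoImplicit false
set_option Elab.async false
set_option maxRecDepth 1000000

open Cfsg.Agent.Lib.Compute.ToddCoxeterCore Cfsg.Agent.Lib.Compute.ToddCoxeterPresented Cfsg.Agent.Lib.Compute.TCFast

open Cfsg.Agent.Lib.Compute.TCSplit

namespace Cfsg.Agent.Lib.Compute.TC.Fi24a

theorem rel127x0 : allFrom (chkRelF cfg relsL) (nat_lit 205) (nat_lit 207391) = true := by decide +kernel
theorem rel127x1 : allFrom (chkRelF cfg relsL) (nat_lit 204) (nat_lit 207596) = true := by decide +kernel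
theorem rel127x2 : allFrom (chkRelF cfg relsL) (nat_lit 204) (nat_lit 207800) = true := by decide +kernel
theorem rel127x3 : allFrom (chkRelF cfg relsL) (nat_lit 204) (nat_lit 208004) = true := by decide +kernel
theorem rel127x4 : allFrom (chkRelF cfg relsL) (nat_lit 204) (nat_lit 208208) = true := by decide +kernel
theorem rel127x5 : allFrom (chkRelF cfg relsL) (nat_lit 204) (nat_lit 208412) = true := by decide +kernel
theorem rel127x6 : allFrom (chkRelF cfg relsL) (nat_lit 204) (nat_lit 208616) = true := by decide +kernel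
theorem rel127x7 : allFrom (chkRelF cfg relsL) (nat_lit 204) (nat_lit 208820) = true := by decide +kernel
theorem rel127c1 : allFrom (chkRelF cfg relsL) (nat_lit 409) (nat_lit 207391) = true := join rel127x0 rel127x1 rfl rfl
theorem rel127c2 : allFrom (chkRelF cfg relsL) (nat_lit 613) (nat_lit 207391) = true := join rel127c1 rel127x2 rfl rfl
theorem rel127c3 : allFrom (chkRelF cfg relsL) (nat_lit 817) (nat_lit 207391) = true := join rel127c2 rel127x3 rfl rfl
theorem rel127c4 : allFrom (chkRelF cfg relsL) (nat_lit 1021) (nat_lit 207391) = true := join rel127c3 rel127x4 rfl rfl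
theorem rel127c5 : allFrom (chkRelF cfg relsL) (nat_lit 1225) (nat_lit 207391) = true := join rel127c4 rel127x5 rfl rfl
theorem rel127c6 : allFrom (chkRelF cfg relsL) (nat_lit 1429) (nat_lit 207391) = true := join rel127c5 rel127x6 rfl rfl
theorem rel127 : allFrom (chkRelF cfg relsL) (nat_lit 1633) (nat_lit 207391) = true := join rel127c6 rel127x7 rfl rfl

end Cfsg.Agent.Lib.Compute.TC.Fi24a
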