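-- Certificate checks for Fi24a.
import Cfsg.Agent.Lib.Compute.TC.Fi24a.Data
import Cfsg.Agent.Lib.Compute.TCSplit
set_option autoImplicit false
set_option Elab.async false
set_option maxRecDepth 1000000

open Cfsg.Agent.Lib.Compute.ToddCoxeterCore Cfsg.Agent.Lib.Compute.ToddCoxeterPresented Cfsg.Agent.Lib.Compute.TCFast

open Cfsg.Agent.Lib.Compute.TCSplit

namespace Cfsg.Agent.Lib.Compute.TC.Fi24a

theorem rel128x0 : allFrom (chkRelF cfg relsL) (nat_lit 205) (nat_lit 209024) = true := by decide +kernel
theorem rel128x1 : allFrom (chkRelF cfg relsL) (nat_lit 204) (nat_lit 209229) = true := by decide +kernel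
theorem rel128x2 : allFrom (chkRelF cfg relsL) (nat_lit 204) (nat_lit 209433) = true := by decide +kernel
theorem rel128x3 : allFrom (chkRelF cfg relsL) (nat_lit 204) (nat_lit 209637) = true := by decide +kernel
theorem rel128x4 : allFrom (chkRelF cfg relsL) (nat_lit 204) (nat_lit 209841) = true := by decide +kernel
theorem rel128x5 : allFrom (chkRelF cfg relsL) (nat_lit 204) (nat_lit 210045) = true := by decide +kernel
theorem rel128x6 : allFrom (chkRelF cfg relsL) (nat_lit 204) (nat_lit 210249) = true := by decide +kernel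
theorem rel128x7 : allFrom (chkRelF cfg relsL) (nat_lit 204) (nat_lit 210453) = true := by decide +kernel
theorem rel128c1 : allFrom (chkRelF cfg relsL) (nat_lit 409) (nat_lit 209024) = true := join rel128x0 rel128x1 rfl rfl
theorem rel128c2 : allFrom (chkRelF cfg relsL) (nat_lit 613) (nat_lit 209024) = true := join rel128c1 rel128x2 rfl rfl
theorem rel128c3 : allFrom (chkRelF cfg relsL) (nat_lit 817) (nat_lit 209024) = true := join rel128c2 rel128x3 rfl rfl
theorem rel128c4 : allFrom (chkRelF cfg relsL) (nat_lit 1021) (nat_lit 209024) = true := join rel128c3 rel128x4 rfl rfl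
theorem rel128c5 : allFrom (chkRelF cfg relsL) (nat_lit 1225) (nat_lit 209024) = true := join rel128c4 rel128x5 rfl rfl
theorem rel128c6 : allFrom (chkRelF cfg relsL) (nat_lit 1429) (nat_lit 209024) = true := join rel128c5 rel128x6 rfl rfl
theorem rel128 : allFrom (chkRelF cfg relsL) (nat_lit 1633) (nat_lit 209024) = true := join rel128c6 rel128x7 rfl rfl

end Cfsg.Agent.Lib.Compute.TC.Fi24a
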