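-- Certificate checks for Fi24a.
import Cfsg.Agent.Lib.Compute.TC.Fi24a.Data
import Cfsg.Agent.Lib.Compute.TCSplit
set_option autoImplicit false
set_option Elab.async false
set_option maxRecDepth 1000000

open Cfsg.Agent.Lib.Compute.ToddCoxeterCore Cfsg.Agent.Lib.Compute.ToddCoxeterPresented Cfsg.Agent.Lib.Compute.TCFast

open Cfsg.Agent.Lib.Compute.TCSplit

namespace Cfsg.Agent.Lib.Compute.TC.Fi24a

theorem rel129x0 : allFrom (chkRelF cfg relsL) (nat_lit 205) (nat_lit 210657) = true := by decide +kernel
theorem rel129x1 : allFrom (chkRelF cfg relsL) (nat_lit 204) (nat_lit 210862) = true := by decide +kernel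
theorem rel129x2 : allFrom (chkRelF cfg relsL) (nat_lit 204) (nat_lit 211066) = true := by decide +kernel
theorem rel129x3 : allFrom (chkRelF cfg relsL) (nat_lit 204) (nat_lit 211270) = true := by decide +kernel
theorem rel129x4 : allFrom (chkRelF cfg relsL) (nat_lit 204) (nat_lit 211474) = true := by decide +kernel
theorem rel129x5 : allFrom (chkRelF cfg relsL) (nat_lit 204) (nat_lit 211678) = true := by decide +kernel
theorem rel129x6 : allFrom (chkRelF cfg relsL) (nat_lit 204) (nat_lit 211882) = true := by decide +kernel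
theorem rel129x7 : allFrom (chkRelF cfg relsL) (nat_lit 204) (nat_lit 212086) = true := by decide +kernel
theorem rel129c1 : allFrom (chkRelF cfg relsL) (nat_lit 409) (nat_lit 210657) = true := join rel129x0 rel129x1 rfl rfl
theorem rel129c2 : allFrom (chkRelF cfg relsL) (nat_lit 613) (nat_lit 210657) = true := join rel129c1 rel129x2 rfl rfl
theorem rel129c3 : allFrom (chkRelF cfg relsL) (nat_lit 817) (nat_lit 210657) = true := join rel129c2 rel129x3 rfl rfl
theorem rel129c4 : allFrom (chkRelF cfg relsL) (nat_lit 1021) (nat_lit 210657) = true := join rel129c3 rel129x4 rfl rfl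
theorem rel129c5 : allFrom (chkRelF cfg relsL) (nat_lit 1225) (nat_lit 210657) = true := join rel129c4 rel129x5 rfl rfl
theorem rel129c6 : allFrom (chkRelF cfg relsL) (nat_lit 1429) (nat_lit 210657) = true := join rel129c5 rel129x6 rfl rfl
theorem rel129 : allFrom (chkRelF cfg relsL) (nat_lit 1633) (nat_lit 210657) = true := join rel129c6 rel129x7 rfl rfl

end Cfsg.Agent.Lib.Compute.TC.Fi24a
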