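-- Certificate checks for Fi24a.
import Cfsg.Agent.Lib.Compute.TC.Fi24a.Data
import Cfsg.Agent.Lib.Compute.TCSplit
set_option autoImplicit false
set_option Elab.async false
set_option maxRecDepth 1000000

open Cfsg.Agent.Lib.Compute.ToddCoxeterCore Cfsg.Agent.Lib.Compute.ToddCoxeterPresented Cfsg.Agent.Lib.Compute.TCFast

open Cfsg.Agent.Lib.Compute.TCSplit

namespace Cfsg.Agent.Lib.Compute.TC.Fi24a

theorem rel13x0 : allFrom (chkRelF cfg relsL) (nat_lit 205) (nat_lit 21229) = true := by decide +kernel
theorem rel13x1 : allFrom (chkRelF cfg relsL) (nat_lit 204) (nat_lit 21434) = true := by decide +kernel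
theorem rel13x2 : allFrom (chkRelF cfg relsL) (nat_lit 204) (nat_lit 21638) = true := by decide +kernel
theorem rel13x3 : allFrom (chkRelF cfg relsL) (nat_lit 204) (nat_lit 21842) = true := by decide +kernel
theorem rel13x4 : allFrom (chkRelF cfg relsL) (nat_lit 204) (nat_lit 22046) = true := by decide +kernel
theorem rel13x5 : allFrom (chkRelF cfg relsL) (nat_lit 204) (nat_lit 22250) = true := by decide +kernel
theorem rel13x6 : allFrom (chkRelF cfg relsL) (nat_lit 204) (nat_lit 22454) = true := by decide +kernel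
theorem rel13x7 : allFrom (chkRelF cfg relsL) (nat_lit 204) (nat_lit 22658) = true := by decide +kernel
theorem rel13c1 : allFrom (chkRelF cfg relsL) (nat_lit 409) (nat_lit 21229) = true := join rel13x0 rel13x1 rfl rfl
theorem rel13c2 : allFrom (chkRelF cfg relsL) (nat_lit 613) (nat_lit 21229) = true := join rel13c1 rel13x2 rfl rfl
theorem rel13c3 : allFrom (chkRelF cfg relsL) (nat_lit 817) (nat_lit 21229) = true := join rel13c2 rel13x3 rfl rfl
theorem rel13c4 : allFrom (chkRelF cfg relsL) (nat_lit 1021) (nat_lit 21229) = true := join rel13c3 rel13x4 rfl rfl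
theorem rel13c5 : allFrom (chkRelF cfg relsL) (nat_lit 1225) (nat_lit 21229) = true := join rel13c4 rel13x5 rfl rfl
theorem rel13c6 : allFrom (chkRelF cfg relsL) (nat_lit 1429) (nat_lit 21229) = true := join rel13c5 rel13x6 rfl rfl
theorem rel13 : allFrom (chkRelF cfg relsL) (nat_lit 1633) (nat_lit 21229) = true := join rel13c6 rel13x7 rfl rfl

end Cfsg.Agent.Lib.Compute.TC.Fi24a
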