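-- Certificate checks for Fi24a.
import Cfsg.Agent.Lib.Compute.TC.Fi24a.Data
import Cfsg.Agent.Lib.Compute.TCSplit
set_option autoImplicit false
set_option Elab.async false
set_option maxRecDepth 1000000

open Cfsg.Agent.Lib.Compute.ToddCoxeterCore Cfsg.Agent.Lib.Compute.ToddCoxeterPresented Cfsg.Agent.Lib.Compute.TCFast

open Cfsg.Agent.Lib.Compute.TCSplit

namespace Cfsg.Agent.Lib.Compute.TC.Fi24a

theorem rel130x0 : allFrom (chkRelF cfg relsL) (nat_lit 205) (nat_lit 212290) = true := by decide +kernel
theorem rel130x1 : allFrom (chkRelF cfg relsL) (nat_lit 204) (nat_lit 212495) = true := by decide +kernel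
theorem rel130x2 : allFrom (chkRelF cfg relsL) (nat_lit 204) (nat_lit 212699) = true := by decide +kernel
theorem rel130x3 : allFrom (chkRelF cfg relsL) (nat_lit 204) (nat_lit 212903) = true := by decide +kernel
theorem rel130x4 : allFrom (chkRelF cfg relsL) (nat_lit 204) (nat_lit 213107) = true := by decide +kernel
theorem rel130x5 : allFrom (chkRelF cfg relsL) (nat_lit 204) (nat_lit 213311) = true := by decide +kernel
theorem rel130x6 : allFrom (chkRelF cfg relsL) (nat_lit 204) (nat_lit 213515) = true := by decide +kernel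
theorem rel130x7 : allFrom (chkRelF cfg relsL) (nat_lit 204) (nat_lit 213719) = true := by decide +kernel
theorem rel130c1 : allFrom (chkRelF cfg relsL) (nat_lit 409) (nat_lit 212290) = true := join rel130x0 rel130x1 rfl rfl
theorem rel130c2 : allFrom (chkRelF cfg relsL) (nat_lit 613) (nat_lit 212290) = true := join rel130c1 rel130x2 rfl rfl
theorem rel130c3 : allFrom (chkRelF cfg relsL) (nat_lit 817) (nat_lit 212290) = true := join rel130c2 rel130x3 rfl rfl
theorem rel130c4 : allFrom (chkRelF cfg relsL) (nat_lit 1021) (nat_lit 212290) = true := join rel130c3 rel130x4 rfl rfl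
theorem rel130c5 : allFrom (chkRelF cfg relsL) (nat_lit 1225) (nat_lit 212290) = true := join rel130c4 rel130x5 rfl rfl
theorem rel130c6 : allFrom (chkRelF cfg relsL) (nat_lit 1429) (nat_lit 212290) = true := join rel130c5 rel130x6 rfl rfl
theorem rel130 : allFrom (chkRelF cfg relsL) (nat_lit 1633) (nat_lit 212290) = true := join rel130c6 rel130x7 rfl rfl

end Cfsg.Agent.Lib.Compute.TC.Fi24a
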