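-- Certificate checks for Fi24a.
import Cfsg.Agent.Lib.Compute.TC.Fi24a.Data
import Cfsg.Agent.Lib.Compute.TCSplit
set_option autoImplicit false
set_option Elab.async false
set_option maxRecDepth 1000000

open Cfsg.Agent.Lib.Compute.ToddCoxeterCore Cfsg.Agent.Lib.Compute.ToddCoxeterPresented Cfsg.Agent.Lib.Compute.TCFast

open Cfsg.Agent.Lib.Compute.TCSplit

namespace Cfsg.Agent.Lib.Compute.TC.Fi24a

theorem rel132x0 : allFrom (chkRelF cfg relsL) (nat_lit 205) (nat_lit 215556) = true := by decide +kernel
theorem rel132x1 : allFrom (chkRelF cfg relsL) (nat_lit 204) (nat_lit 215761) = true := by decide +kernel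
theorem rel132x2 : allFrom (chkRelF cfg relsL) (nat_lit 204) (nat_lit 215965) = true := by decide +kernel
theorem rel132x3 : allFrom (chkRelF cfg relsL) (nat_lit 204) (nat_lit 216169) = true := by decide +kernel
theorem rel132x4 : allFrom (chkRelF cfg relsL) (nat_lit 204) (nat_lit 216373) = true := by decide +kernel
theorem rel132x5 : allFrom (chkRelF cfg relsL) (nat_lit 204) (nat_lit 216577) = true := by decide +kernel
theorem rel132x6 : allFrom (chkRelF cfg relsL) (nat_lit 204) (nat_lit 216781) = true := by decide +kernel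
theorem rel132x7 : allFrom (chkRelF cfg relsL) (nat_lit 204) (nat_lit 216985) = true := by decide +kernel
theorem rel132c1 : allFrom (chkRelF cfg relsL) (nat_lit 409) (nat_lit 215556) = true := join rel132x0 rel132x1 rfl rfl
theorem rel132c2 : allFrom (chkRelF cfg relsL) (nat_lit 613) (nat_lit 215556) = true := join rel132c1 rel132x2 rfl rfl
theorem rel132c3 : allFrom (chkRelF cfg relsL) (nat_lit 817) (nat_lit 215556) = true := join rel132c2 rel132x3 rfl rfl
theorem rel132c4 : allFrom (chkRelF cfg relsL) (nat_lit 1021) (nat_lit 215556) = true := join rel132c3 rel132x4 rfl rfl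
theorem rel132c5 : allFrom (chkRelF cfg relsL) (nat_lit 1225) (nat_lit 215556) = true := join rel132c4 rel132x5 rfl rfl
theorem rel132c6 : allFrom (chkRelF cfg relsL) (nat_lit 1429) (nat_lit 215556) = true := join rel132c5 rel132x6 rfl rfl
theorem rel132 : allFrom (chkRelF cfg relsL) (nat_lit 1633) (nat_lit 215556) = true := join rel132c6 rel132x7 rfl rfl

end Cfsg.Agent.Lib.Compute.TC.Fi24a
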