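-- Certificate checks for Fi24a.
import Cfsg.Agent.Lib.Compute.TC.Fi24a.Data
import Cfsg.Agent.Lib.Compute.TCSplit
set_option autoImplicit false
set_option Elab.async false
set_option maxRecDepth 1000000

open Cfsg.Agent.Lib.Compute.ToddCoxeterCore Cfsg.Agent.Lib.Compute.ToddCoxeterPresented Cfsg.Agent.Lib.Compute.TCFast

open Cfsg.Agent.Lib.Compute.TCSplit

namespace Cfsg.Agent.Lib.Compute.TC.Fi24a

theorem rel133x0 : allFrom (chkRelF cfg relsL) (nat_lit 205) (nat_lit 217189) = true := by decide +kernel
theorem rel133x1 : allFrom (chkRelF cfg relsL) (nat_lit 204) (nat_lit 217394) = true := by decide +kernel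
theorem rel133x2 : allFrom (chkRelF cfg relsL) (nat_lit 204) (nat_lit 217598) = true := by decide +kernel
theorem rel133x3 : allFrom (chkRelF cfg relsL) (nat_lit 204) (nat_lit 217802) = true := by decide +kernel
theorem rel133x4 : allFrom (chkRelF cfg relsL) (nat_lit 204) (nat_lit 218006) = true := by decide +kernel
theorem rel133x5 : allFrom (chkRelF cfg relsL) (nat_lit 204) (nat_lit 218210) = true := by decide +kernel
theorem rel133x6 : allFrom (chkRelF cfg relsL) (nat_lit 204) (nat_lit 218414) = true := by decide +kernel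
theorem rel133x7 : allFrom (chkRelF cfg relsL) (nat_lit 204) (nat_lit 218618) = true := by decide +kernel
theorem rel133c1 : allFrom (chkRelF cfg relsL) (nat_lit 409) (nat_lit 217189) = true := join rel133x0 rel133x1 rfl rfl
theorem rel133c2 : allFrom (chkRelF cfg relsL) (nat_lit 613) (nat_lit 217189) = true := join rel133c1 rel133x2 rfl rfl
theorem rel133c3 : allFrom (chkRelF cfg relsL) (nat_lit 817) (nat_lit 217189) = true := join rel133c2 rel133x3 rfl rfl
theorem rel133c4 : allFrom (chkRelF cfg relsL) (nat_lit 1021) (nat_lit 217189) = true := join rel133c3 rel133x4 rfl rfl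
theorem rel133c5 : allFrom (chkRelF cfg relsL) (nat_lit 1225) (nat_lit 217189) = true := join rel133c4 rel133x5 rfl rfl
theorem rel133c6 : allFrom (chkRelF cfg relsL) (nat_lit 1429) (nat_lit 217189) = true := join rel133c5 rel133x6 rfl rfl
theorem rel133 : allFrom (chkRelF cfg relsL) (nat_lit 1633) (nat_lit 217189) = true := join rel133c6 rel133x7 rfl rfl

end Cfsg.Agent.Lib.Compute.TC.Fi24a
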