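-- Certificate checks for Fi24a.
import Cfsg.Agent.Lib.Compute.TC.Fi24a.Data
import Cfsg.Agent.Lib.Compute.TCSplit
set_option autoImplicit false
set_option Elab.async false
set_option maxRecDepth 1000000

open Cfsg.Agent.Lib.Compute.ToddCoxeterCore Cfsg.Agent.Lib.Compute.ToddCoxeterPresented Cfsg.Agent.Lib.Compute.TCFast

open Cfsg.Agent.Lib.Compute.TCSplit

namespace Cfsg.Agent.Lib.Compute.TC.Fi24a

theorem rel134x0 : allFrom (chkRelF cfg relsL) (nat_lit 205) (nat_lit 218822) = true := by decide +kernel
theorem rel134x1 : allFrom (chkRelF cfg relsL) (nat_lit 204) (nat_lit 219027) = true := by decide +kernel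
theorem rel134x2 : allFrom (chkRelF cfg relsL) (nat_lit 204) (nat_lit 219231) = true := by decide +kernel
theorem rel134x3 : allFrom (chkRelF cfg relsL) (nat_lit 204) (nat_lit 219435) = true := by decide +kernel
theorem rel134x4 : allFrom (chkRelF cfg relsL) (nat_lit 204) (nat_lit 219639) = true := by decide +kernel
theorem rel134x5 : allFrom (chkRelF cfg relsL) (nat_lit 204) (nat_lit 219843) = true := by decide +kernel
theorem rel134x6 : allFrom (chkRelF cfg relsL) (nat_lit 204) (nat_lit 220047) = true := by decide +kernel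
theorem rel134x7 : allFrom (chkRelF cfg relsL) (nat_lit 204) (nat_lit 220251) = true := by decide +kernel
theorem rel134c1 : allFrom (chkRelF cfg relsL) (nat_lit 409) (nat_lit 218822) = true := join rel134x0 rel134x1 rfl rfl
theorem rel134c2 : allFrom (chkRelF cfg relsL) (nat_lit 613) (nat_lit 218822) = true := join rel134c1 rel134x2 rfl rfl
theorem rel134c3 : allFrom (chkRelF cfg relsL) (nat_lit 817) (nat_lit 218822) = true := join rel134c2 rel134x3 rfl rfl
theorem rel134c4 : allFrom (chkRelF cfg relsL) (nat_lit 1021) (nat_lit 218822) = true := join rel134c3 rel134x4 rfl rfl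
theorem rel134c5 : allFrom (chkRelF cfg relsL) (nat_lit 1225) (nat_lit 218822) = true := join rel134c4 rel134x5 rfl rfl
theorem rel134c6 : allFrom (chkRelF cfg relsL) (nat_lit 1429) (nat_lit 218822) = true := join rel134c5 rel134x6 rfl rfl
theorem rel134 : allFrom (chkRelF cfg relsL) (nat_lit 1633) (nat_lit 218822) = true := join rel134c6 rel134x7 rfl rfl

end Cfsg.Agent.Lib.Compute.TC.Fi24a
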