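-- Certificate checks for Fi24a.
import Cfsg.Agent.Lib.Compute.TC.Fi24a.Data
import Cfsg.Agent.Lib.Compute.TCSplit
set_option autoImplicit false
set_option Elab.async false
set_option maxRecDepth 1000000

open Cfsg.Agent.Lib.Compute.ToddCoxeterCore Cfsg.Agent.Lib.Compute.ToddCoxeterPresented Cfsg.Agent.Lib.Compute.TCFast

open Cfsg.Agent.Lib.Compute.TCSplit

namespace Cfsg.Agent.Lib.Compute.TC.Fi24a

theorem rel135x0 : allFrom (chkRelF cfg relsL) (nat_lit 205) (nat_lit 220455) = true := by decide +kernel
theorem rel135x1 : allFrom (chkRelF cfg relsL) (nat_lit 204) (nat_lit 220660) = true := by decide +kernel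
theorem rel135x2 : allFrom (chkRelF cfg relsL) (nat_lit 204) (nat_lit 220864) = true := by decide +kernel
theorem rel135x3 : allFrom (chkRelF cfg relsL) (nat_lit 204) (nat_lit 221068) = true := by decide +kernel
theorem rel135x4 : allFrom (chkRelF cfg relsL) (nat_lit 204) (nat_lit 221272) = true := by decide +kernel
theorem rel135x5 : allFrom (chkRelF cfg relsL) (nat_lit 204) (nat_lit 221476) = true := by decide +kernel
theorem rel135x6 : allFrom (chkRelF cfg relsL) (nat_lit 204) (nat_lit 221680) = true := by decide +kernel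
theorem rel135x7 : allFrom (chkRelF cfg relsL) (nat_lit 204) (nat_lit 221884) = true := by decide +kernel
theorem rel135c1 : allFrom (chkRelF cfg relsL) (nat_lit 409) (nat_lit 220455) = true := join rel135x0 rel135x1 rfl rfl
theorem rel135c2 : allFrom (chkRelF cfg relsL) (nat_lit 613) (nat_lit 220455) = true := join rel135c1 rel135x2 rfl rfl
theorem rel135c3 : allFrom (chkRelF cfg relsL) (nat_lit 817) (nat_lit 220455) = true := join rel135c2 rel135x3 rfl rfl
theorem rel135c4 : allFrom (chkRelF cfg relsL) (nat_lit 1021) (nat_lit 220455) = true := join rel135c3 rel135x4 rfl rfl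
theorem rel135c5 : allFrom (chkRelF cfg relsL) (nat_lit 1225) (nat_lit 220455) = true := join rel135c4 rel135x5 rfl rfl
theorem rel135c6 : allFrom (chkRelF cfg relsL) (nat_lit 1429) (nat_lit 220455) = true := join rel135c5 rel135x6 rfl rfl
theorem rel135 : allFrom (chkRelF cfg relsL) (nat_lit 1633) (nat_lit 220455) = true := join rel135c6 rel135x7 rfl rfl

end Cfsg.Agent.Lib.Compute.TC.Fi24a
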