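-- Certificate checks for Fi24a.
import Cfsg.Agent.Lib.Compute.TC.Fi24a.Data
import Cfsg.Agent.Lib.Compute.TCSplit
set_option autoImplicit false
set_option Elab.async false
set_option maxRecDepth 1000000

open Cfsg.Agent.Lib.Compute.ToddCoxeterCore Cfsg.Agent.Lib.Compute.ToddCoxeterPresented Cfsg.Agent.Lib.Compute.TCFast

open Cfsg.Agent.Lib.Compute.TCSplit

namespace Cfsg.Agent.Lib.Compute.TC.Fi24a

theorem rel136x0 : allFrom (chkRelF cfg relsL) (nat_lit 205) (nat_lit 222088) = true := by decide +kernel
theorem rel136x1 : allFrom (chkRelF cfg relsL) (nat_lit 204) (nat_lit 222293) = true := by decide +kernel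
theorem rel136x2 : allFrom (chkRelF cfg relsL) (nat_lit 204) (nat_lit 222497) = true := by decide +kernel
theorem rel136x3 : allFrom (chkRelF cfg relsL) (nat_lit 204) (nat_lit 222701) = true := by decide +kernel
theorem rel136x4 : allFrom (chkRelF cfg relsL) (nat_lit 204) (nat_lit 222905) = true := by decide +kernel
theorem rel136x5 : allFrom (chkRelF cfg relsL) (nat_lit 204) (nat_lit 223109) = true := by decide +kernel
theorem rel136x6 : allFrom (chkRelF cfg relsL) (nat_lit 204) (nat_lit 223313) = true := by decide +kernel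
theorem rel136x7 : allFrom (chkRelF cfg relsL) (nat_lit 204) (nat_lit 223517) = true := by decide +kernel
theorem rel136c1 : allFrom (chkRelF cfg relsL) (nat_lit 409) (nat_lit 222088) = true := join rel136x0 rel136x1 rfl rfl
theorem rel136c2 : allFrom (chkRelF cfg relsL) (nat_lit 613) (nat_lit 222088) = true := join rel136c1 rel136x2 rfl rfl
theorem rel136c3 : allFrom (chkRelF cfg relsL) (nat_lit 817) (nat_lit 222088) = true := join rel136c2 rel136x3 rfl rfl
theorem rel136c4 : allFrom (chkRelF cfg relsL) (nat_lit 1021) (nat_lit 222088) = true := join rel136c3 rel136x4 rfl rfl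
theorem rel136c5 : allFrom (chkRelF cfg relsL) (nat_lit 1225) (nat_lit 222088) = true := join rel136c4 rel136x5 rfl rfl
theorem rel136c6 : allFrom (chkRelF cfg relsL) (nat_lit 1429) (nat_lit 222088) = true := join rel136c5 rel136x6 rfl rfl
theorem rel136 : allFrom (chkRelF cfg relsL) (nat_lit 1633) (nat_lit 222088) = true := join rel136c6 rel136x7 rfl rfl

end Cfsg.Agent.Lib.Compute.TC.Fi24a
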