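-- Certificate checks for Fi24a.
import Cfsg.Agent.Lib.Compute.TC.Fi24a.Data
import Cfsg.Agent.Lib.Compute.TCSplit
set_option autoImplicit false
set_option Elab.async false
set_option maxRecDepth 1000000

open Cfsg.Agent.Lib.Compute.ToddCoxeterCore Cfsg.Agent.Lib.Compute.ToddCoxeterPresented Cfsg.Agent.Lib.Compute.TCFast

open Cfsg.Agent.Lib.Compute.TCSplit

namespace Cfsg.Agent.Lib.Compute.TC.Fi24a

theorem rel137x0 : allFrom (chkRelF cfg relsL) (nat_lit 205) (nat_lit 223721) = true := by decide +kernel
theorem rel137x1 : allFrom (chkRelF cfg relsL) (nat_lit 204) (nat_lit 223926) = true := by decide +kernel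
theorem rel137x2 : allFrom (chkRelF cfg relsL) (nat_lit 204) (nat_lit 224130) = true := by decide +kernel
theorem rel137x3 : allFrom (chkRelF cfg relsL) (nat_lit 204) (nat_lit 224334) = true := by decide +kernel
theorem rel137x4 : allFrom (chkRelF cfg relsL) (nat_lit 204) (nat_lit 224538) = true := by decide +kernel
theorem rel137x5 : allFrom (chkRelF cfg relsL) (nat_lit 204) (nat_lit 224742) = true := by decide +kernel
theorem rel137x6 : allFrom (chkRelF cfg relsL) (nat_lit 204) (nat_lit 224946) = true := by decide +kernel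
theorem rel137x7 : allFrom (chkRelF cfg relsL) (nat_lit 204) (nat_lit 225150) = true := by decide +kernel
theorem rel137c1 : allFrom (chkRelF cfg relsL) (nat_lit 409) (nat_lit 223721) = true := join rel137x0 rel137x1 rfl rfl
theorem rel137c2 : allFrom (chkRelF cfg relsL) (nat_lit 613) (nat_lit 223721) = true := join rel137c1 rel137x2 rfl rfl
theorem rel137c3 : allFrom (chkRelF cfg relsL) (nat_lit 817) (nat_lit 223721) = true := join rel137c2 rel137x3 rfl rfl
theorem rel137c4 : allFrom (chkRelF cfg relsL) (nat_lit 1021) (nat_lit 223721) = true := join rel137c3 rel137x4 rfl rfl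
theorem rel137c5 : allFrom (chkRelF cfg relsL) (nat_lit 1225) (nat_lit 223721) = true := join rel137c4 rel137x5 rfl rfl
theorem rel137c6 : allFrom (chkRelF cfg relsL) (nat_lit 1429) (nat_lit 223721) = true := join rel137c5 rel137x6 rfl rfl
theorem rel137 : allFrom (chkRelF cfg relsL) (nat_lit 1633) (nat_lit 223721) = true := join rel137c6 rel137x7 rfl rfl

end Cfsg.Agent.Lib.Compute.TC.Fi24a
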