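-- Certificate checks for Fi24a.
import Cfsg.Agent.Lib.Compute.TC.Fi24a.Data
import Cfsg.Agent.Lib.Compute.TCSplit
set_option autoImplicit false
set_option Elab.async false
set_option maxRecDepth 1000000

open Cfsg.Agent.Lib.Compute.ToddCoxeterCore Cfsg.Agent.Lib.Compute.ToddCoxeterPresented Cfsg.Agent.Lib.Compute.TCFast

open Cfsg.Agent.Lib.Compute.TCSplit

namespace Cfsg.Agent.Lib.Compute.TC.Fi24a

theorem rel138x0 : allFrom (chkRelF cfg relsL) (nat_lit 205) (nat_lit 225354) = true := by decide +kernel
theorem rel138x1 : allFrom (chkRelF cfg relsL) (nat_lit 204) (nat_lit 225559) = true := by decide +kernel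
theorem rel138x2 : allFrom (chkRelF cfg relsL) (nat_lit 204) (nat_lit 225763) = true := by decide +kernel
theorem rel138x3 : allFrom (chkRelF cfg relsL) (nat_lit 204) (nat_lit 225967) = true := by decide +kernel
theorem rel138x4 : allFrom (chkRelF cfg relsL) (nat_lit 204) (nat_lit 226171) = true := by decide +kernel
theorem rel138x5 : allFrom (chkRelF cfg relsL) (nat_lit 204) (nat_lit 226375) = true := by decide +kernel
theorem rel138x6 : allFrom (chkRelF cfg relsL) (nat_lit 204) (nat_lit 226579) = true := by decide +kernel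
theorem rel138x7 : allFrom (chkRelF cfg relsL) (nat_lit 204) (nat_lit 226783) = true := by decide +kernel
theorem rel138c1 : allFrom (chkRelF cfg relsL) (nat_lit 409) (nat_lit 225354) = true := join rel138x0 rel138x1 rfl rfl
theorem rel138c2 : allFrom (chkRelF cfg relsL) (nat_lit 613) (nat_lit 225354) = true := join rel138c1 rel138x2 rfl rfl
theorem rel138c3 : allFrom (chkRelF cfg relsL) (nat_lit 817) (nat_lit 225354) = true := join rel138c2 rel138x3 rfl rfl
theorem rel138c4 : allFrom (chkRelF cfg relsL) (nat_lit 1021) (nat_lit 225354) = true := join rel138c3 rel138x4 rfl rfl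
theorem rel138c5 : allFrom (chkRelF cfg relsL) (nat_lit 1225) (nat_lit 225354) = true := join rel138c4 rel138x5 rfl rfl
theorem rel138c6 : allFrom (chkRelF cfg relsL) (nat_lit 1429) (nat_lit 225354) = true := join rel138c5 rel138x6 rfl rfl
theorem rel138 : allFrom (chkRelF cfg relsL) (nat_lit 1633) (nat_lit 225354) = true := join rel138c6 rel138x7 rfl rfl

end Cfsg.Agent.Lib.Compute.TC.Fi24a
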