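-- Certificate checks for Fi24a.
import Cfsg.Agent.Lib.Compute.TC.Fi24a.Data
import Cfsg.Agent.Lib.Compute.TCSplit
set_option autoImplicit false
set_option Elab.async false
set_option maxRecDepth 1000000

open Cfsg.Agent.Lib.Compute.ToddCoxeterCore Cfsg.Agent.Lib.Compute.ToddCoxeterPresented Cfsg.Agent.Lib.Compute.TCFast

open Cfsg.Agent.Lib.Compute.TCSplit

namespace Cfsg.Agent.Lib.Compute.TC.Fi24a

theorem rel139x0 : allFrom (chkRelF cfg relsL) (nat_lit 205) (nat_lit 226987) = true := by decide +kernel
theorem rel139x1 : allFrom (chkRelF cfg relsL) (nat_lit 204) (nat_lit 227192) = true := by decide +kernel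
theorem rel139x2 : allFrom (chkRelF cfg relsL) (nat_lit 204) (nat_lit 227396) = true := by decide +kernel
theorem rel139x3 : allFrom (chkRelF cfg relsL) (nat_lit 204) (nat_lit 227600) = true := by decide +kernel
theorem rel139x4 : allFrom (chkRelF cfg relsL) (nat_lit 204) (nat_lit 227804) = true := by decide +kernel
theorem rel139x5 : allFrom (chkRelF cfg relsL) (nat_lit 204) (nat_lit 228008) = true := by decide +kernel
theorem rel139x6 : allFrom (chkRelF cfg relsL) (nat_lit 204) (nat_lit 228212) = true := by decide +kernel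
theorem rel139x7 : allFrom (chkRelF cfg relsL) (nat_lit 204) (nat_lit 228416) = true := by decide +kernel
theorem rel139c1 : allFrom (chkRelF cfg relsL) (nat_lit 409) (nat_lit 226987) = true := join rel139x0 rel139x1 rfl rfl
theorem rel139c2 : allFrom (chkRelF cfg relsL) (nat_lit 613) (nat_lit 226987) = true := join rel139c1 rel139x2 rfl rfl
theorem rel139c3 : allFrom (chkRelF cfg relsL) (nat_lit 817) (nat_lit 226987) = true := join rel139c2 rel139x3 rfl rfl
theorem rel139c4 : allFrom (chkRelF cfg relsL) (nat_lit 1021) (nat_lit 226987) = true := join rel139c3 rel139x4 rfl rfl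
theorem rel139c5 : allFrom (chkRelF cfg relsL) (nat_lit 1225) (nat_lit 226987) = true := join rel139c4 rel139x5 rfl rfl
theorem rel139c6 : allFrom (chkRelF cfg relsL) (nat_lit 1429) (nat_lit 226987) = true := join rel139c5 rel139x6 rfl rfl
theorem rel139 : allFrom (chkRelF cfg relsL) (nat_lit 1633) (nat_lit 226987) = true := join rel139c6 rel139x7 rfl rfl

end Cfsg.Agent.Lib.Compute.TC.Fi24a
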