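-- Certificate checks for Fi24a.
import Cfsg.Agent.Lib.Compute.TC.Fi24a.Data
import Cfsg.Agent.Lib.Compute.TCSplit
set_option autoImplicit false
set_option Elab.async false
set_option maxRecDepth 1000000

open Cfsg.Agent.Lib.Compute.ToddCoxeterCore Cfsg.Agent.Lib.Compute.ToddCoxeterPresented Cfsg.Agent.Lib.Compute.TCFast

open Cfsg.Agent.Lib.Compute.TCSplit

namespace Cfsg.Agent.Lib.Compute.TC.Fi24a

theorem rel14x0 : allFrom (chkRelF cfg relsL) (nat_lit 205) (nat_lit 22862) = true := by decide +kernel
theorem rel14x1 : allFrom (chkRelF cfg relsL) (nat_lit 204) (nat_lit 23067) = true := by decide +kernel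
theorem rel14x2 : allFrom (chkRelF cfg relsL) (nat_lit 204) (nat_lit 23271) = true := by decide +kernel
theorem rel14x3 : allFrom (chkRelF cfg relsL) (nat_lit 204) (nat_lit 23475) = true := by decide +kernel
theorem rel14x4 : allFrom (chkRelF cfg relsL) (nat_lit 204) (nat_lit 23679) = true := by decide +kernel
theorem rel14x5 : allFrom (chkRelF cfg relsL) (nat_lit 204) (nat_lit 23883) = true := by decide +kernel
theorem rel14x6 : allFrom (chkRelF cfg relsL) (nat_lit 204) (nat_lit 24087) = true := by decide +kernel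
theorem rel14x7 : allFrom (chkRelF cfg relsL) (nat_lit 204) (nat_lit 24291) = true := by decide +kernel
theorem rel14c1 : allFrom (chkRelF cfg relsL) (nat_lit 409) (nat_lit 22862) = true := join rel14x0 rel14x1 rfl rfl
theorem rel14c2 : allFrom (chkRelF cfg relsL) (nat_lit 613) (nat_lit 22862) = true := join rel14c1 rel14x2 rfl rfl
theorem rel14c3 : allFrom (chkRelF cfg relsL) (nat_lit 817) (nat_lit 22862) = true := join rel14c2 rel14x3 rfl rfl
theorem rel14c4 : allFrom (chkRelF cfg relsL) (nat_lit 1021) (nat_lit 22862) = true := join rel14c3 rel14x4 rfl rfl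
theorem rel14c5 : allFrom (chkRelF cfg relsL) (nat_lit 1225) (nat_lit 22862) = true := join rel14c4 rel14x5 rfl rfl
theorem rel14c6 : allFrom (chkRelF cfg relsL) (nat_lit 1429) (nat_lit 22862) = true := join rel14c5 rel14x6 rfl rfl
theorem rel14 : allFrom (chkRelF cfg relsL) (nat_lit 1633) (nat_lit 22862) = true := join rel14c6 rel14x7 rfl rfl

end Cfsg.Agent.Lib.Compute.TC.Fi24a
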