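-- Certificate checks for Fi24a.
import Cfsg.Agent.Lib.Compute.TC.Fi24a.Data
import Cfsg.Agent.Lib.Compute.TCSplit
set_option autoImplicit false
set_option Elab.async false
set_option maxRecDepth 1000000

open Cfsg.Agent.Lib.Compute.ToddCoxeterCore Cfsg.Agent.Lib.Compute.ToddCoxeterPresented Cfsg.Agent.Lib.Compute.TCFast

open Cfsg.Agent.Lib.Compute.TCSplit

namespace Cfsg.Agent.Lib.Compute.TC.Fi24a

theorem rel140x0 : allFrom (chkRelF cfg relsL) (nat_lit 205) (nat_lit 228620) = true := by decide +kernel
theorem rel140x1 : allFrom (chkRelF cfg relsL) (nat_lit 204) (nat_lit 228825) = true := by decide +kernel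
theorem rel140x2 : allFrom (chkRelF cfg relsL) (nat_lit 204) (nat_lit 229029) = true := by decide +kernel
theorem rel140x3 : allFrom (chkRelF cfg relsL) (nat_lit 204) (nat_lit 229233) = true := by decide +kernel
theorem rel140x4 : allFrom (chkRelF cfg relsL) (nat_lit 204) (nat_lit 229437) = true := by decide +kernel
theorem rel140x5 : allFrom (chkRelF cfg relsL) (nat_lit 204) (nat_lit 229641) = true := by decide +kernel
theorem rel140x6 : allFrom (chkRelF cfg relsL) (nat_lit 204) (nat_lit 229845) = true := by decide +kernel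
theorem rel140x7 : allFrom (chkRelF cfg relsL) (nat_lit 204) (nat_lit 230049) = true := by decide +kernel
theorem rel140c1 : allFrom (chkRelF cfg relsL) (nat_lit 409) (nat_lit 228620) = true := join rel140x0 rel140x1 rfl rfl
theorem rel140c2 : allFrom (chkRelF cfg relsL) (nat_lit 613) (nat_lit 228620) = true := join rel140c1 rel140x2 rfl rfl
theorem rel140c3 : allFrom (chkRelF cfg relsL) (nat_lit 817) (nat_lit 228620) = true := join rel140c2 rel140x3 rfl rfl
theorem rel140c4 : allFrom (chkRelF cfg relsL) (nat_lit 1021) (nat_lit 228620) = true := join rel140c3 rel140x4 rfl rfl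
theorem rel140c5 : allFrom (chkRelF cfg relsL) (nat_lit 1225) (nat_lit 228620) = true := join rel140c4 rel140x5 rfl rfl
theorem rel140c6 : allFrom (chkRelF cfg relsL) (nat_lit 1429) (nat_lit 228620) = true := join rel140c5 rel140x6 rfl rfl
theorem rel140 : allFrom (chkRelF cfg relsL) (nat_lit 1633) (nat_lit 228620) = true := join rel140c6 rel140x7 rfl rfl

end Cfsg.Agent.Lib.Compute.TC.Fi24a
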