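-- Certificate checks for Fi24a.
import Cfsg.Agent.Lib.Compute.TC.Fi24a.Data
import Cfsg.Agent.Lib.Compute.TCSplit
set_option autoImplicit false
set_option Elab.async false
set_option maxRecDepth 1000000

open Cfsg.Agent.Lib.Compute.ToddCoxeterCore Cfsg.Agent.Lib.Compute.ToddCoxeterPresented Cfsg.Agent.Lib.Compute.TCFast

open Cfsg.Agent.Lib.Compute.TCSplit

namespace Cfsg.Agent.Lib.Compute.TC.Fi24a

theorem rel141x0 : allFrom (chkRelF cfg relsL) (nat_lit 205) (nat_lit 230253) = true := by decide +kernel
theorem rel141x1 : allFrom (chkRelF cfg relsL) (nat_lit 204) (nat_lit 230458) = true := by decide +kernel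
theorem rel141x2 : allFrom (chkRelF cfg relsL) (nat_lit 204) (nat_lit 230662) = true := by decide +kernel
theorem rel141x3 : allFrom (chkRelF cfg relsL) (nat_lit 204) (nat_lit 230866) = true := by decide +kernel
theorem rel141x4 : allFrom (chkRelF cfg relsL) (nat_lit 204) (nat_lit 231070) = true := by decide +kernel
theorem rel141x5 : allFrom (chkRelF cfg relsL) (nat_lit 204) (nat_lit 231274) = true := by decide +kernel
theorem rel141x6 : allFrom (chkRelF cfg relsL) (nat_lit 204) (nat_lit 231478) = true := by decide +kernel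
theorem rel141x7 : allFrom (chkRelF cfg relsL) (nat_lit 204) (nat_lit 231682) = true := by decide +kernel
theorem rel141c1 : allFrom (chkRelF cfg relsL) (nat_lit 409) (nat_lit 230253) = true := join rel141x0 rel141x1 rfl rfl
theorem rel141c2 : allFrom (chkRelF cfg relsL) (nat_lit 613) (nat_lit 230253) = true := join rel141c1 rel141x2 rfl rfl
theorem rel141c3 : allFrom (chkRelF cfg relsL) (nat_lit 817) (nat_lit 230253) = true := join rel141c2 rel141x3 rfl rfl
theorem rel141c4 : allFrom (chkRelF cfg relsL) (nat_lit 1021) (nat_lit 230253) = true := join rel141c3 rel141x4 rfl rfl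
theorem rel141c5 : allFrom (chkRelF cfg relsL) (nat_lit 1225) (nat_lit 230253) = true := join rel141c4 rel141x5 rfl rfl
theorem rel141c6 : allFrom (chkRelF cfg relsL) (nat_lit 1429) (nat_lit 230253) = true := join rel141c5 rel141x6 rfl rfl
theorem rel141 : allFrom (chkRelF cfg relsL) (nat_lit 1633) (nat_lit 230253) = true := join rel141c6 rel141x7 rfl rfl

end Cfsg.Agent.Lib.Compute.TC.Fi24a
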