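-- Certificate checks for Fi24a.
import Cfsg.Agent.Lib.Compute.TC.Fi24a.Data
import Cfsg.Agent.Lib.Compute.TCSplit
set_option autoImplicit false
set_option Elab.async false
set_option maxRecDepth 1000000

open Cfsg.Agent.Lib.Compute.ToddCoxeterCore Cfsg.Agent.Lib.Compute.ToddCoxeterPresented Cfsg.Agent.Lib.Compute.TCFast

open Cfsg.Agent.Lib.Compute.TCSplit

namespace Cfsg.Agent.Lib.Compute.TC.Fi24a

theorem rel143x0 : allFrom (chkRelF cfg relsL) (nat_lit 205) (nat_lit 233519) = true := by decide +kernel
theorem rel143x1 : allFrom (chkRelF cfg relsL) (nat_lit 204) (nat_lit 233724) = true := by decide +kernel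
theorem rel143x2 : allFrom (chkRelF cfg relsL) (nat_lit 204) (nat_lit 233928) = true := by decide +kernel
theorem rel143x3 : allFrom (chkRelF cfg relsL) (nat_lit 204) (nat_lit 234132) = true := by decide +kernel
theorem rel143x4 : allFrom (chkRelF cfg relsL) (nat_lit 204) (nat_lit 234336) = true := by decide +kernel
theorem rel143x5 : allFrom (chkRelF cfg relsL) (nat_lit 204) (nat_lit 234540) = true := by decide +kernel
theorem rel143x6 : allFrom (chkRelF cfg relsL) (nat_lit 204) (nat_lit 234744) = true := by decide +kernel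
theorem rel143x7 : allFrom (chkRelF cfg relsL) (nat_lit 204) (nat_lit 234948) = true := by decide +kernel
theorem rel143c1 : allFrom (chkRelF cfg relsL) (nat_lit 409) (nat_lit 233519) = true := join rel143x0 rel143x1 rfl rfl
theorem rel143c2 : allFrom (chkRelF cfg relsL) (nat_lit 613) (nat_lit 233519) = true := join rel143c1 rel143x2 rfl rfl
theorem rel143c3 : allFrom (chkRelF cfg relsL) (nat_lit 817) (nat_lit 233519) = true := join rel143c2 rel143x3 rfl rfl
theorem rel143c4 : allFrom (chkRelF cfg relsL) (nat_lit 1021) (nat_lit 233519) = true := join rel143c3 rel143x4 rfl rfl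
theorem rel143c5 : allFrom (chkRelF cfg relsL) (nat_lit 1225) (nat_lit 233519) = true := join rel143c4 rel143x5 rfl rfl
theorem rel143c6 : allFrom (chkRelF cfg relsL) (nat_lit 1429) (nat_lit 233519) = true := join rel143c5 rel143x6 rfl rfl
theorem rel143 : allFrom (chkRelF cfg relsL) (nat_lit 1633) (nat_lit 233519) = true := join rel143c6 rel143x7 rfl rfl

end Cfsg.Agent.Lib.Compute.TC.Fi24a
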