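-- Certificate checks for Fi24a.
import Cfsg.Agent.Lib.Compute.TC.Fi24a.Data
import Cfsg.Agent.Lib.Compute.TCSplit
set_option autoImplicit false
set_option Elab.async false
set_option maxRecDepth 1000000

open Cfsg.Agent.Lib.Compute.ToddCoxeterCore Cfsg.Agent.Lib.Compute.ToddCoxeterPresented Cfsg.Agent.Lib.Compute.TCFast

open Cfsg.Agent.Lib.Compute.TCSplit

namespace Cfsg.Agent.Lib.Compute.TC.Fi24a

theorem rel144x0 : allFrom (chkRelF cfg relsL) (nat_lit 205) (nat_lit 235152) = true := by decide +kernel
theorem rel144x1 : allFrom (chkRelF cfg relsL) (nat_lit 204) (nat_lit 235357) = true := by decide +kernel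
theorem rel144x2 : allFrom (chkRelF cfg relsL) (nat_lit 204) (nat_lit 235561) = true := by decide +kernel
theorem rel144x3 : allFrom (chkRelF cfg relsL) (nat_lit 204) (nat_lit 235765) = true := by decide +kernel
theorem rel144x4 : allFrom (chkRelF cfg relsL) (nat_lit 204) (nat_lit 235969) = true := by decide +kernel
theorem rel144x5 : allFrom (chkRelF cfg relsL) (nat_lit 204) (nat_lit 236173) = true := by decide +kernel
theorem rel144x6 : allFrom (chkRelF cfg relsL) (nat_lit 204) (nat_lit 236377) = true := by decide +kernel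
theorem rel144x7 : allFrom (chkRelF cfg relsL) (nat_lit 204) (nat_lit 236581) = true := by decide +kernel
theorem rel144c1 : allFrom (chkRelF cfg relsL) (nat_lit 409) (nat_lit 235152) = true := join rel144x0 rel144x1 rfl rfl
theorem rel144c2 : allFrom (chkRelF cfg relsL) (nat_lit 613) (nat_lit 235152) = true := join rel144c1 rel144x2 rfl rfl
theorem rel144c3 : allFrom (chkRelF cfg relsL) (nat_lit 817) (nat_lit 235152) = true := join rel144c2 rel144x3 rfl rfl
theorem rel144c4 : allFrom (chkRelF cfg relsL) (nat_lit 1021) (nat_lit 235152) = true := join rel144c3 rel144x4 rfl rfl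
theorem rel144c5 : allFrom (chkRelF cfg relsL) (nat_lit 1225) (nat_lit 235152) = true := join rel144c4 rel144x5 rfl rfl
theorem rel144c6 : allFrom (chkRelF cfg relsL) (nat_lit 1429) (nat_lit 235152) = true := join rel144c5 rel144x6 rfl rfl
theorem rel144 : allFrom (chkRelF cfg relsL) (nat_lit 1633) (nat_lit 235152) = true := join rel144c6 rel144x7 rfl rfl

end Cfsg.Agent.Lib.Compute.TC.Fi24a
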