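-- Certificate checks for Fi24a.
import Cfsg.Agent.Lib.Compute.TC.Fi24a.Data
import Cfsg.Agent.Lib.Compute.TCSplit
set_option autoImplicit false
set_option Elab.async false
set_option maxRecDepth 1000000

open Cfsg.Agent.Lib.Compute.ToddCoxeterCore Cfsg.Agent.Lib.Compute.ToddCoxeterPresented Cfsg.Agent.Lib.Compute.TCFast

open Cfsg.Agent.Lib.Compute.TCSplit

namespace Cfsg.Agent.Lib.Compute.TC.Fi24a

theorem rel145x0 : allFrom (chkRelF cfg relsL) (nat_lit 205) (nat_lit 236785) = true := by decide +kernel
theorem rel145x1 : allFrom (chkRelF cfg relsL) (nat_lit 204) (nat_lit 236990) = true := by decide +kernel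
theorem rel145x2 : allFrom (chkRelF cfg relsL) (nat_lit 204) (nat_lit 237194) = true := by decide +kernel
theorem rel145x3 : allFrom (chkRelF cfg relsL) (nat_lit 204) (nat_lit 237398) = true := by decide +kernel
theorem rel145x4 : allFrom (chkRelF cfg relsL) (nat_lit 204) (nat_lit 237602) = true := by decide +kernel
theorem rel145x5 : allFrom (chkRelF cfg relsL) (nat_lit 204) (nat_lit 237806) = true := by decide +kernel
theorem rel145x6 : allFrom (chkRelF cfg relsL) (nat_lit 204) (nat_lit 238010) = true := by decide +kernel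
theorem rel145x7 : allFrom (chkRelF cfg relsL) (nat_lit 204) (nat_lit 238214) = true := by decide +kernel
theorem rel145c1 : allFrom (chkRelF cfg relsL) (nat_lit 409) (nat_lit 236785) = true := join rel145x0 rel145x1 rfl rfl
theorem rel145c2 : allFrom (chkRelF cfg relsL) (nat_lit 613) (nat_lit 236785) = true := join rel145c1 rel145x2 rfl rfl
theorem rel145c3 : allFrom (chkRelF cfg relsL) (nat_lit 817) (nat_lit 236785) = true := join rel145c2 rel145x3 rfl rfl
theorem rel145c4 : allFrom (chkRelF cfg relsL) (nat_lit 1021) (nat_lit 236785) = true := join rel145c3 rel145x4 rfl rfl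
theorem rel145c5 : allFrom (chkRelF cfg relsL) (nat_lit 1225) (nat_lit 236785) = true := join rel145c4 rel145x5 rfl rfl
theorem rel145c6 : allFrom (chkRelF cfg relsL) (nat_lit 1429) (nat_lit 236785) = true := join rel145c5 rel145x6 rfl rfl
theorem rel145 : allFrom (chkRelF cfg relsL) (nat_lit 1633) (nat_lit 236785) = true := join rel145c6 rel145x7 rfl rfl

end Cfsg.Agent.Lib.Compute.TC.Fi24a
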