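-- Certificate checks for Fi24a.
import Cfsg.Agent.Lib.Compute.TC.Fi24a.Data
import Cfsg.Agent.Lib.Compute.TCSplit
set_option autoImplicit false
set_option Elab.async false
set_option maxRecDepth 1000000

open Cfsg.Agent.Lib.Compute.ToddCoxeterCore Cfsg.Agent.Lib.Compute.ToddCoxeterPresented Cfsg.Agent.Lib.Compute.TCFast

open Cfsg.Agent.Lib.Compute.TCSplit

namespace Cfsg.Agent.Lib.Compute.TC.Fi24a

theorem rel146x0 : allFrom (chkRelF cfg relsL) (nat_lit 205) (nat_lit 238418) = true := by decide +kernel
theorem rel146x1 : allFrom (chkRelF cfg relsL) (nat_lit 204) (nat_lit 238623) = true := by decide +kernel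
theorem rel146x2 : allFrom (chkRelF cfg relsL) (nat_lit 204) (nat_lit 238827) = true := by decide +kernel
theorem rel146x3 : allFrom (chkRelF cfg relsL) (nat_lit 204) (nat_lit 239031) = true := by decide +kernel
theorem rel146x4 : allFrom (chkRelF cfg relsL) (nat_lit 204) (nat_lit 239235) = true := by decide +kernel
theorem rel146x5 : allFrom (chkRelF cfg relsL) (nat_lit 204) (nat_lit 239439) = true := by decide +kernel
theorem rel146x6 : allFrom (chkRelF cfg relsL) (nat_lit 204) (nat_lit 239643) = true := by decide +kernel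
theorem rel146x7 : allFrom (chkRelF cfg relsL) (nat_lit 204) (nat_lit 239847) = true := by decide +kernel
theorem rel146c1 : allFrom (chkRelF cfg relsL) (nat_lit 409) (nat_lit 238418) = true := join rel146x0 rel146x1 rfl rfl
theorem rel146c2 : allFrom (chkRelF cfg relsL) (nat_lit 613) (nat_lit 238418) = true := join rel146c1 rel146x2 rfl rfl
theorem rel146c3 : allFrom (chkRelF cfg relsL) (nat_lit 817) (nat_lit 238418) = true := join rel146c2 rel146x3 rfl rfl
theorem rel146c4 : allFrom (chkRelF cfg relsL) (nat_lit 1021) (nat_lit 238418) = true := join rel146c3 rel146x4 rfl rfl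
theorem rel146c5 : allFrom (chkRelF cfg relsL) (nat_lit 1225) (nat_lit 238418) = true := join rel146c4 rel146x5 rfl rfl
theorem rel146c6 : allFrom (chkRelF cfg relsL) (nat_lit 1429) (nat_lit 238418) = true := join rel146c5 rel146x6 rfl rfl
theorem rel146 : allFrom (chkRelF cfg relsL) (nat_lit 1633) (nat_lit 238418) = true := join rel146c6 rel146x7 rfl rfl

end Cfsg.Agent.Lib.Compute.TC.Fi24a
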