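-- Certificate checks for Fi24a.
import Cfsg.Agent.Lib.Compute.TC.Fi24a.Data
import Cfsg.Agent.Lib.Compute.TCSplit
set_option autoImplicit false
set_option Elab.async false
set_option maxRecDepth 1000000

open Cfsg.Agent.Lib.Compute.ToddCoxeterCore Cfsg.Agent.Lib.Compute.ToddCoxeterPresented Cfsg.Agent.Lib.Compute.TCFast

open Cfsg.Agent.Lib.Compute.TCSplit

namespace Cfsg.Agent.Lib.Compute.TC.Fi24a

theorem rel147x0 : allFrom (chkRelF cfg relsL) (nat_lit 205) (nat_lit 240051) = true := by decide +kernel
theorem rel147x1 : allFrom (chkRelF cfg relsL) (nat_lit 204) (nat_lit 240256) = true := by decide +kernel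
theorem rel147x2 : allFrom (chkRelF cfg relsL) (nat_lit 204) (nat_lit 240460) = true := by decide +kernel
theorem rel147x3 : allFrom (chkRelF cfg relsL) (nat_lit 204) (nat_lit 240664) = true := by decide +kernel
theorem rel147x4 : allFrom (chkRelF cfg relsL) (nat_lit 204) (nat_lit 240868) = true := by decide +kernel
theorem rel147x5 : allFrom (chkRelF cfg relsL) (nat_lit 204) (nat_lit 241072) = true := by decide +kernel
theorem rel147x6 : allFrom (chkRelF cfg relsL) (nat_lit 204) (nat_lit 241276) = true := by decide +kernel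
theorem rel147x7 : allFrom (chkRelF cfg relsL) (nat_lit 204) (nat_lit 241480) = true := by decide +kernel
theorem rel147c1 : allFrom (chkRelF cfg relsL) (nat_lit 409) (nat_lit 240051) = true := join rel147x0 rel147x1 rfl rfl
theorem rel147c2 : allFrom (chkRelF cfg relsL) (nat_lit 613) (nat_lit 240051) = true := join rel147c1 rel147x2 rfl rfl
theorem rel147c3 : allFrom (chkRelF cfg relsL) (nat_lit 817) (nat_lit 240051) = true := join rel147c2 rel147x3 rfl rfl
theorem rel147c4 : allFrom (chkRelF cfg relsL) (nat_lit 1021) (nat_lit 240051) = true := join rel147c3 rel147x4 rfl rfl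
theorem rel147c5 : allFrom (chkRelF cfg relsL) (nat_lit 1225) (nat_lit 240051) = true := join rel147c4 rel147x5 rfl rfl
theorem rel147c6 : allFrom (chkRelF cfg relsL) (nat_lit 1429) (nat_lit 240051) = true := join rel147c5 rel147x6 rfl rfl
theorem rel147 : allFrom (chkRelF cfg relsL) (nat_lit 1633) (nat_lit 240051) = true := join rel147c6 rel147x7 rfl rfl

end Cfsg.Agent.Lib.Compute.TC.Fi24a
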