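-- Certificate checks for Fi24a.
import Cfsg.Agent.Lib.Compute.TC.Fi24a.Data
import Cfsg.Agent.Lib.Compute.TCSplit
set_option autoImplicit false
set_option Elab.async false
set_option maxRecDepth 1000000

open Cfsg.Agent.Lib.Compute.ToddCoxeterCore Cfsg.Agent.Lib.Compute.ToddCoxeterPresented Cfsg.Agent.Lib.Compute.TCFast

open Cfsg.Agent.Lib.Compute.TCSplit

namespace Cfsg.Agent.Lib.Compute.TC.Fi24a

theorem rel148x0 : allFrom (chkRelF cfg relsL) (nat_lit 205) (nat_lit 241684) = true := by decide +kernel
theorem rel148x1 : allFrom (chkRelF cfg relsL) (nat_lit 204) (nat_lit 241889) = true := by decide +kernel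
theorem rel148x2 : allFrom (chkRelF cfg relsL) (nat_lit 204) (nat_lit 242093) = true := by decide +kernel
theorem rel148x3 : allFrom (chkRelF cfg relsL) (nat_lit 204) (nat_lit 242297) = true := by decide +kernel
theorem rel148x4 : allFrom (chkRelF cfg relsL) (nat_lit 204) (nat_lit 242501) = true := by decide +kernel
theorem rel148x5 : allFrom (chkRelF cfg relsL) (nat_lit 204) (nat_lit 242705) = true := by decide +kernel
theorem rel148x6 : allFrom (chkRelF cfg relsL) (nat_lit 204) (nat_lit 242909) = true := by decide +kernel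
theorem rel148x7 : allFrom (chkRelF cfg relsL) (nat_lit 204) (nat_lit 243113) = true := by decide +kernel
theorem rel148c1 : allFrom (chkRelF cfg relsL) (nat_lit 409) (nat_lit 241684) = true := join rel148x0 rel148x1 rfl rfl
theorem rel148c2 : allFrom (chkRelF cfg relsL) (nat_lit 613) (nat_lit 241684) = true := join rel148c1 rel148x2 rfl rfl
theorem rel148c3 : allFrom (chkRelF cfg relsL) (nat_lit 817) (nat_lit 241684) = true := join rel148c2 rel148x3 rfl rfl
theorem rel148c4 : allFrom (chkRelF cfg relsL) (nat_lit 1021) (nat_lit 241684) = true := join rel148c3 rel148x4 rfl rfl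
theorem rel148c5 : allFrom (chkRelF cfg relsL) (nat_lit 1225) (nat_lit 241684) = true := join rel148c4 rel148x5 rfl rfl
theorem rel148c6 : allFrom (chkRelF cfg relsL) (nat_lit 1429) (nat_lit 241684) = true := join rel148c5 rel148x6 rfl rfl
theorem rel148 : allFrom (chkRelF cfg relsL) (nat_lit 1633) (nat_lit 241684) = true := join rel148c6 rel148x7 rfl rfl

end Cfsg.Agent.Lib.Compute.TC.Fi24a
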