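-- Certificate checks for Fi24a.
import Cfsg.Agent.Lib.Compute.TC.Fi24a.Data
import Cfsg.Agent.Lib.Compute.TCSplit
set_option autoImplicit false
set_option Elab.async false
set_option maxRecDepth 1000000

open Cfsg.Agent.Lib.Compute.ToddCoxeterCore Cfsg.Agent.Lib.Compute.ToddCoxeterPresented Cfsg.Agent.Lib.Compute.TCFast

open Cfsg.Agent.Lib.Compute.TCSplit

namespace Cfsg.Agent.Lib.Compute.TC.Fi24a

theorem rel149x0 : allFrom (chkRelF cfg relsL) (nat_lit 205) (nat_lit 243317) = true := by decide +kernel
theorem rel149x1 : allFrom (chkRelF cfg relsL) (nat_lit 204) (nat_lit 243522) = true := by decide +kernel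
theorem rel149x2 : allFrom (chkRelF cfg relsL) (nat_lit 204) (nat_lit 243726) = true := by decide +kernel
theorem rel149x3 : allFrom (chkRelF cfg relsL) (nat_lit 204) (nat_lit 243930) = true := by decide +kernel
theorem rel149x4 : allFrom (chkRelF cfg relsL) (nat_lit 204) (nat_lit 244134) = true := by decide +kernel
theorem rel149x5 : allFrom (chkRelF cfg relsL) (nat_lit 204) (nat_lit 244338) = true := by decide +kernel
theorem rel149x6 : allFrom (chkRelF cfg relsL) (nat_lit 204) (nat_lit 244542) = true := by decide +kernel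
theorem rel149x7 : allFrom (chkRelF cfg relsL) (nat_lit 204) (nat_lit 244746) = true := by decide +kernel
theorem rel149c1 : allFrom (chkRelF cfg relsL) (nat_lit 409) (nat_lit 243317) = true := join rel149x0 rel149x1 rfl rfl
theorem rel149c2 : allFrom (chkRelF cfg relsL) (nat_lit 613) (nat_lit 243317) = true := join rel149c1 rel149x2 rfl rfl
theorem rel149c3 : allFrom (chkRelF cfg relsL) (nat_lit 817) (nat_lit 243317) = true := join rel149c2 rel149x3 rfl rfl
theorem rel149c4 : allFrom (chkRelF cfg relsL) (nat_lit 1021) (nat_lit 243317) = true := join rel149c3 rel149x4 rfl rfl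
theorem rel149c5 : allFrom (chkRelF cfg relsL) (nat_lit 1225) (nat_lit 243317) = true := join rel149c4 rel149x5 rfl rfl
theorem rel149c6 : allFrom (chkRelF cfg relsL) (nat_lit 1429) (nat_lit 243317) = true := join rel149c5 rel149x6 rfl rfl
theorem rel149 : allFrom (chkRelF cfg relsL) (nat_lit 1633) (nat_lit 243317) = true := join rel149c6 rel149x7 rfl rfl

end Cfsg.Agent.Lib.Compute.TC.Fi24a
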