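-- Certificate checks for Fi24a.
import Cfsg.Agent.Lib.Compute.TC.Fi24a.Data
import Cfsg.Agent.Lib.Compute.TCSplit
set_option autoImplicit false
set_option Elab.async false
set_option maxRecDepth 1000000

open Cfsg.Agent.Lib.Compute.ToddCoxeterCore Cfsg.Agent.Lib.Compute.ToddCoxeterPresented Cfsg.Agent.Lib.Compute.TCFast

open Cfsg.Agent.Lib.Compute.TCSplit

namespace Cfsg.Agent.Lib.Compute.TC.Fi24a

theorem rel15x0 : allFrom (chkRelF cfg relsL) (nat_lit 205) (nat_lit 24495) = true := by decide +kernel
theorem rel15x1 : allFrom (chkRelF cfg relsL) (nat_lit 204) (nat_lit 24700) = true := by decide +kernel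
theorem rel15x2 : allFrom (chkRelF cfg relsL) (nat_lit 204) (nat_lit 24904) = true := by decide +kernel
theorem rel15x3 : allFrom (chkRelF cfg relsL) (nat_lit 204) (nat_lit 25108) = true := by decide +kernel
theorem rel15x4 : allFrom (chkRelF cfg relsL) (nat_lit 204) (nat_lit 25312) = true := by decide +kernel
theorem rel15x5 : allFrom (chkRelF cfg relsL) (nat_lit 204) (nat_lit 25516) = true := by decide +kernel
theorem rel15x6 : allFrom (chkRelF cfg relsL) (nat_lit 204) (nat_lit 25720) = true := by decide +kernel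
theorem rel15x7 : allFrom (chkRelF cfg relsL) (nat_lit 204) (nat_lit 25924) = true := by decide +kernel
theorem rel15c1 : allFrom (chkRelF cfg relsL) (nat_lit 409) (nat_lit 24495) = true := join rel15x0 rel15x1 rfl rfl
theorem rel15c2 : allFrom (chkRelF cfg relsL) (nat_lit 613) (nat_lit 24495) = true := join rel15c1 rel15x2 rfl rfl
theorem rel15c3 : allFrom (chkRelF cfg relsL) (nat_lit 817) (nat_lit 24495) = true := join rel15c2 rel15x3 rfl rfl
theorem rel15c4 : allFrom (chkRelF cfg relsL) (nat_lit 1021) (nat_lit 24495) = true := join rel15c3 rel15x4 rfl rfl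
theorem rel15c5 : allFrom (chkRelF cfg relsL) (nat_lit 1225) (nat_lit 24495) = true := join rel15c4 rel15x5 rfl rfl
theorem rel15c6 : allFrom (chkRelF cfg relsL) (nat_lit 1429) (nat_lit 24495) = true := join rel15c5 rel15x6 rfl rfl
theorem rel15 : allFrom (chkRelF cfg relsL) (nat_lit 1633) (nat_lit 24495) = true := join rel15c6 rel15x7 rfl rfl

end Cfsg.Agent.Lib.Compute.TC.Fi24a
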