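-- Certificate checks for Fi24a.
import Cfsg.Agent.Lib.Compute.TC.Fi24a.Data
import Cfsg.Agent.Lib.Compute.TCSplit
set_option autoImplicit false
set_option Elab.async false
set_option maxRecDepth 1000000

open Cfsg.Agent.Lib.Compute.ToddCoxeterCore Cfsg.Agent.Lib.Compute.ToddCoxeterPresented Cfsg.Agent.Lib.Compute.TCFast

open Cfsg.Agent.Lib.Compute.TCSplit

namespace Cfsg.Agent.Lib.Compute.TC.Fi24a

theorem rel150x0 : allFrom (chkRelF cfg relsL) (nat_lit 205) (nat_lit 244950) = true := by decide +kernel
theorem rel150x1 : allFrom (chkRelF cfg relsL) (nat_lit 204) (nat_lit 245155) = true := by decide +kernel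
theorem rel150x2 : allFrom (chkRelF cfg relsL) (nat_lit 204) (nat_lit 245359) = true := by decide +kernel
theorem rel150x3 : allFrom (chkRelF cfg relsL) (nat_lit 204) (nat_lit 245563) = true := by decide +kernel
theorem rel150x4 : allFrom (chkRelF cfg relsL) (nat_lit 204) (nat_lit 245767) = true := by decide +kernel
theorem rel150x5 : allFrom (chkRelF cfg relsL) (nat_lit 204) (nat_lit 245971) = true := by decide +kernel
theorem rel150x6 : allFrom (chkRelF cfg relsL) (nat_lit 204) (nat_lit 246175) = true := by decide +kernel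
theorem rel150x7 : allFrom (chkRelF cfg relsL) (nat_lit 204) (nat_lit 246379) = true := by decide +kernel
theorem rel150c1 : allFrom (chkRelF cfg relsL) (nat_lit 409) (nat_lit 244950) = true := join rel150x0 rel150x1 rfl rfl
theorem rel150c2 : allFrom (chkRelF cfg relsL) (nat_lit 613) (nat_lit 244950) = true := join rel150c1 rel150x2 rfl rfl
theorem rel150c3 : allFrom (chkRelF cfg relsL) (nat_lit 817) (nat_lit 244950) = true := join rel150c2 rel150x3 rfl rfl
theorem rel150c4 : allFrom (chkRelF cfg relsL) (nat_lit 1021) (nat_lit 244950) = true := join rel150c3 rel150x4 rfl rfl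
theorem rel150c5 : allFrom (chkRelF cfg relsL) (nat_lit 1225) (nat_lit 244950) = true := join rel150c4 rel150x5 rfl rfl
theorem rel150c6 : allFrom (chkRelF cfg relsL) (nat_lit 1429) (nat_lit 244950) = true := join rel150c5 rel150x6 rfl rfl
theorem rel150 : allFrom (chkRelF cfg relsL) (nat_lit 1633) (nat_lit 244950) = true := join rel150c6 rel150x7 rfl rfl

end Cfsg.Agent.Lib.Compute.TC.Fi24a
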