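-- Certificate checks for Fi24a.
import Cfsg.Agent.Lib.Compute.TC.Fi24a.Data
import Cfsg.Agent.Lib.Compute.TCSplit
set_option autoImplicit false
set_option Elab.async false
set_option maxRecDepth 1000000

open Cfsg.Agent.Lib.Compute.ToddCoxeterCore Cfsg.Agent.Lib.Compute.ToddCoxeterPresented Cfsg.Agent.Lib.Compute.TCFast

open Cfsg.Agent.Lib.Compute.TCSplit

namespace Cfsg.Agent.Lib.Compute.TC.Fi24a

theorem rel151x0 : allFrom (chkRelF cfg relsL) (nat_lit 205) (nat_lit 246583) = true := by decide +kernel
theorem rel151x1 : allFrom (chkRelF cfg relsL) (nat_lit 204) (nat_lit 246788) = true := by decide +kernel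
theorem rel151x2 : allFrom (chkRelF cfg relsL) (nat_lit 204) (nat_lit 246992) = true := by decide +kernel
theorem rel151x3 : allFrom (chkRelF cfg relsL) (nat_lit 204) (nat_lit 247196) = true := by decide +kernel
theorem rel151x4 : allFrom (chkRelF cfg relsL) (nat_lit 204) (nat_lit 247400) = true := by decide +kernel
theorem rel151x5 : allFrom (chkRelF cfg relsL) (nat_lit 204) (nat_lit 247604) = true := by decide +kernel
theorem rel151x6 : allFrom (chkRelF cfg relsL) (nat_lit 204) (nat_lit 247808) = true := by decide +kernel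
theorem rel151x7 : allFrom (chkRelF cfg relsL) (nat_lit 204) (nat_lit 248012) = true := by decide +kernel
theorem rel151c1 : allFrom (chkRelF cfg relsL) (nat_lit 409) (nat_lit 246583) = true := join rel151x0 rel151x1 rfl rfl
theorem rel151c2 : allFrom (chkRelF cfg relsL) (nat_lit 613) (nat_lit 246583) = true := join rel151c1 rel151x2 rfl rfl
theorem rel151c3 : allFrom (chkRelF cfg relsL) (nat_lit 817) (nat_lit 246583) = true := join rel151c2 rel151x3 rfl rfl
theorem rel151c4 : allFrom (chkRelF cfg relsL) (nat_lit 1021) (nat_lit 246583) = true := join rel151c3 rel151x4 rfl rfl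
theorem rel151c5 : allFrom (chkRelF cfg relsL) (nat_lit 1225) (nat_lit 246583) = true := join rel151c4 rel151x5 rfl rfl
theorem rel151c6 : allFrom (chkRelF cfg relsL) (nat_lit 1429) (nat_lit 246583) = true := join rel151c5 rel151x6 rfl rfl
theorem rel151 : allFrom (chkRelF cfg relsL) (nat_lit 1633) (nat_lit 246583) = true := join rel151c6 rel151x7 rfl rfl

end Cfsg.Agent.Lib.Compute.TC.Fi24a
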