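-- Certificate checks for Fi24a.
import Cfsg.Agent.Lib.Compute.TC.Fi24a.Data
import Cfsg.Agent.Lib.Compute.TCSplit
set_option autoImplicit false
set_option Elab.async false
set_option maxRecDepth 1000000

open Cfsg.Agent.Lib.Compute.ToddCoxeterCore Cfsg.Agent.Lib.Compute.ToddCoxeterPresented Cfsg.Agent.Lib.Compute.TCFast

open Cfsg.Agent.Lib.Compute.TCSplit

namespace Cfsg.Agent.Lib.Compute.TC.Fi24a

theorem rel152x0 : allFrom (chkRelF cfg relsL) (nat_lit 205) (nat_lit 248216) = true := by decide +kernel
theorem rel152x1 : allFrom (chkRelF cfg relsL) (nat_lit 204) (nat_lit 248421) = true := by decide +kernel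
theorem rel152x2 : allFrom (chkRelF cfg relsL) (nat_lit 204) (nat_lit 248625) = true := by decide +kernel
theorem rel152x3 : allFrom (chkRelF cfg relsL) (nat_lit 204) (nat_lit 248829) = true := by decide +kernel
theorem rel152x4 : allFrom (chkRelF cfg relsL) (nat_lit 204) (nat_lit 249033) = true := by decide +kernel
theorem rel152x5 : allFrom (chkRelF cfg relsL) (nat_lit 204) (nat_lit 249237) = true := by decide +kernel
theorem rel152x6 : allFrom (chkRelF cfg relsL) (nat_lit 204) (nat_lit 249441) = true := by decide +kernel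
theorem rel152x7 : allFrom (chkRelF cfg relsL) (nat_lit 204) (nat_lit 249645) = true := by decide +kernel
theorem rel152c1 : allFrom (chkRelF cfg relsL) (nat_lit 409) (nat_lit 248216) = true := join rel152x0 rel152x1 rfl rfl
theorem rel152c2 : allFrom (chkRelF cfg relsL) (nat_lit 613) (nat_lit 248216) = true := join rel152c1 rel152x2 rfl rfl
theorem rel152c3 : allFrom (chkRelF cfg relsL) (nat_lit 817) (nat_lit 248216) = true := join rel152c2 rel152x3 rfl rfl
theorem rel152c4 : allFrom (chkRelF cfg relsL) (nat_lit 1021) (nat_lit 248216) = true := join rel152c3 rel152x4 rfl rfl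
theorem rel152c5 : allFrom (chkRelF cfg relsL) (nat_lit 1225) (nat_lit 248216) = true := join rel152c4 rel152x5 rfl rfl
theorem rel152c6 : allFrom (chkRelF cfg relsL) (nat_lit 1429) (nat_lit 248216) = true := join rel152c5 rel152x6 rfl rfl
theorem rel152 : allFrom (chkRelF cfg relsL) (nat_lit 1633) (nat_lit 248216) = true := join rel152c6 rel152x7 rfl rfl

end Cfsg.Agent.Lib.Compute.TC.Fi24a
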