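-- Certificate checks for Fi24a.
import Cfsg.Agent.Lib.Compute.TC.Fi24a.Data
import Cfsg.Agent.Lib.Compute.TCSplit
set_option autoImplicit false
set_option Elab.async false
set_option maxRecDepth 1000000

open Cfsg.Agent.Lib.Compute.ToddCoxeterCore Cfsg.Agent.Lib.Compute.ToddCoxeterPresented Cfsg.Agent.Lib.Compute.TCFast

open Cfsg.Agent.Lib.Compute.TCSplit

namespace Cfsg.Agent.Lib.Compute.TC.Fi24a

theorem rel154x0 : allFrom (chkRelF cfg relsL) (nat_lit 205) (nat_lit 251482) = true := by decide +kernel
theorem rel154x1 : allFrom (chkRelF cfg relsL) (nat_lit 204) (nat_lit 251687) = true := by decide +kernel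
theorem rel154x2 : allFrom (chkRelF cfg relsL) (nat_lit 204) (nat_lit 251891) = true := by decide +kernel
theorem rel154x3 : allFrom (chkRelF cfg relsL) (nat_lit 204) (nat_lit 252095) = true := by decide +kernel
theorem rel154x4 : allFrom (chkRelF cfg relsL) (nat_lit 204) (nat_lit 252299) = true := by decide +kernel
theorem rel154x5 : allFrom (chkRelF cfg relsL) (nat_lit 204) (nat_lit 252503) = true := by decide +kernel
theorem rel154x6 : allFrom (chkRelF cfg relsL) (nat_lit 204) (nat_lit 252707) = true := by decide +kernel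
theorem rel154x7 : allFrom (chkRelF cfg relsL) (nat_lit 204) (nat_lit 252911) = true := by decide +kernel
theorem rel154c1 : allFrom (chkRelF cfg relsL) (nat_lit 409) (nat_lit 251482) = true := join rel154x0 rel154x1 rfl rfl
theorem rel154c2 : allFrom (chkRelF cfg relsL) (nat_lit 613) (nat_lit 251482) = true := join rel154c1 rel154x2 rfl rfl
theorem rel154c3 : allFrom (chkRelF cfg relsL) (nat_lit 817) (nat_lit 251482) = true := join rel154c2 rel154x3 rfl rfl
theorem rel154c4 : allFrom (chkRelF cfg relsL) (nat_lit 1021) (nat_lit 251482) = true := join rel154c3 rel154x4 rfl rfl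
theorem rel154c5 : allFrom (chkRelF cfg relsL) (nat_lit 1225) (nat_lit 251482) = true := join rel154c4 rel154x5 rfl rfl
theorem rel154c6 : allFrom (chkRelF cfg relsL) (nat_lit 1429) (nat_lit 251482) = true := join rel154c5 rel154x6 rfl rfl
theorem rel154 : allFrom (chkRelF cfg relsL) (nat_lit 1633) (nat_lit 251482) = true := join rel154c6 rel154x7 rfl rfl

end Cfsg.Agent.Lib.Compute.TC.Fi24a
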