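-- Certificate checks for Fi24a.
import Cfsg.Agent.Lib.Compute.TC.Fi24a.Data
import Cfsg.Agent.Lib.Compute.TCSplit
set_option autoImplicit false
set_option Elab.async false
set_option maxRecDepth 1000000

open Cfsg.Agent.Lib.Compute.ToddCoxeterCore Cfsg.Agent.Lib.Compute.ToddCoxeterPresented Cfsg.Agent.Lib.Compute.TCFast

open Cfsg.Agent.Lib.Compute.TCSplit

namespace Cfsg.Agent.Lib.Compute.TC.Fi24a

theorem rel155x0 : allFrom (chkRelF cfg relsL) (nat_lit 205) (nat_lit 253115) = true := by decide +kernel
theorem rel155x1 : allFrom (chkRelF cfg relsL) (nat_lit 204) (nat_lit 253320) = true := by decide +kernel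
theorem rel155x2 : allFrom (chkRelF cfg relsL) (nat_lit 204) (nat_lit 253524) = true := by decide +kernel
theorem rel155x3 : allFrom (chkRelF cfg relsL) (nat_lit 204) (nat_lit 253728) = true := by decide +kernel
theorem rel155x4 : allFrom (chkRelF cfg relsL) (nat_lit 204) (nat_lit 253932) = true := by decide +kernel
theorem rel155x5 : allFrom (chkRelF cfg relsL) (nat_lit 204) (nat_lit 254136) = true := by decide +kernel
theorem rel155x6 : allFrom (chkRelF cfg relsL) (nat_lit 204) (nat_lit 254340) = true := by decide +kernel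
theorem rel155x7 : allFrom (chkRelF cfg relsL) (nat_lit 204) (nat_lit 254544) = true := by decide +kernel
theorem rel155c1 : allFrom (chkRelF cfg relsL) (nat_lit 409) (nat_lit 253115) = true := join rel155x0 rel155x1 rfl rfl
theorem rel155c2 : allFrom (chkRelF cfg relsL) (nat_lit 613) (nat_lit 253115) = true := join rel155c1 rel155x2 rfl rfl
theorem rel155c3 : allFrom (chkRelF cfg relsL) (nat_lit 817) (nat_lit 253115) = true := join rel155c2 rel155x3 rfl rfl
theorem rel155c4 : allFrom (chkRelF cfg relsL) (nat_lit 1021) (nat_lit 253115) = true := join rel155c3 rel155x4 rfl rfl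
theorem rel155c5 : allFrom (chkRelF cfg relsL) (nat_lit 1225) (nat_lit 253115) = true := join rel155c4 rel155x5 rfl rfl
theorem rel155c6 : allFrom (chkRelF cfg relsL) (nat_lit 1429) (nat_lit 253115) = true := join rel155c5 rel155x6 rfl rfl
theorem rel155 : allFrom (chkRelF cfg relsL) (nat_lit 1633) (nat_lit 253115) = true := join rel155c6 rel155x7 rfl rfl

end Cfsg.Agent.Lib.Compute.TC.Fi24a
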