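-- Certificate checks for Fi24a.
import Cfsg.Agent.Lib.Compute.TC.Fi24a.Data
import Cfsg.Agent.Lib.Compute.TCSplit
set_option autoImplicit false
set_option Elab.async false
set_option maxRecDepth 1000000

open Cfsg.Agent.Lib.Compute.ToddCoxeterCore Cfsg.Agent.Lib.Compute.ToddCoxeterPresented Cfsg.Agent.Lib.Compute.TCFast

open Cfsg.Agent.Lib.Compute.TCSplit

namespace Cfsg.Agent.Lib.Compute.TC.Fi24a

theorem rel156x0 : allFrom (chkRelF cfg relsL) (nat_lit 205) (nat_lit 254748) = true := by decide +kernel
theorem rel156x1 : allFrom (chkRelF cfg relsL) (nat_lit 204) (nat_lit 254953) = true := by decide +kernel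
theorem rel156x2 : allFrom (chkRelF cfg relsL) (nat_lit 204) (nat_lit 255157) = true := by decide +kernel
theorem rel156x3 : allFrom (chkRelF cfg relsL) (nat_lit 204) (nat_lit 255361) = true := by decide +kernel
theorem rel156x4 : allFrom (chkRelF cfg relsL) (nat_lit 204) (nat_lit 255565) = true := by decide +kernel
theorem rel156x5 : allFrom (chkRelF cfg relsL) (nat_lit 204) (nat_lit 255769) = true := by decide +kernel
theorem rel156x6 : allFrom (chkRelF cfg relsL) (nat_lit 204) (nat_lit 255973) = true := by decide +kernel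
theorem rel156x7 : allFrom (chkRelF cfg relsL) (nat_lit 204) (nat_lit 256177) = true := by decide +kernel
theorem rel156c1 : allFrom (chkRelF cfg relsL) (nat_lit 409) (nat_lit 254748) = true := join rel156x0 rel156x1 rfl rfl
theorem rel156c2 : allFrom (chkRelF cfg relsL) (nat_lit 613) (nat_lit 254748) = true := join rel156c1 rel156x2 rfl rfl
theorem rel156c3 : allFrom (chkRelF cfg relsL) (nat_lit 817) (nat_lit 254748) = true := join rel156c2 rel156x3 rfl rfl
theorem rel156c4 : allFrom (chkRelF cfg relsL) (nat_lit 1021) (nat_lit 254748) = true := join rel156c3 rel156x4 rfl rfl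
theorem rel156c5 : allFrom (chkRelF cfg relsL) (nat_lit 1225) (nat_lit 254748) = true := join rel156c4 rel156x5 rfl rfl
theorem rel156c6 : allFrom (chkRelF cfg relsL) (nat_lit 1429) (nat_lit 254748) = true := join rel156c5 rel156x6 rfl rfl
theorem rel156 : allFrom (chkRelF cfg relsL) (nat_lit 1633) (nat_lit 254748) = true := join rel156c6 rel156x7 rfl rfl

end Cfsg.Agent.Lib.Compute.TC.Fi24a
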