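-- Certificate checks for Fi24a.
import Cfsg.Agent.Lib.Compute.TC.Fi24a.Data
import Cfsg.Agent.Lib.Compute.TCSplit
set_option autoImplicit false
set_option Elab.async false
set_option maxRecDepth 1000000

open Cfsg.Agent.Lib.Compute.ToddCoxeterCore Cfsg.Agent.Lib.Compute.ToddCoxeterPresented Cfsg.Agent.Lib.Compute.TCFast

open Cfsg.Agent.Lib.Compute.TCSplit

namespace Cfsg.Agent.Lib.Compute.TC.Fi24a

theorem rel157x0 : allFrom (chkRelF cfg relsL) (nat_lit 205) (nat_lit 256381) = true := by decide +kernel
theorem rel157x1 : allFrom (chkRelF cfg relsL) (nat_lit 204) (nat_lit 256586) = true := by decide +kernel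
theorem rel157x2 : allFrom (chkRelF cfg relsL) (nat_lit 204) (nat_lit 256790) = true := by decide +kernel
theorem rel157x3 : allFrom (chkRelF cfg relsL) (nat_lit 204) (nat_lit 256994) = true := by decide +kernel
theorem rel157x4 : allFrom (chkRelF cfg relsL) (nat_lit 204) (nat_lit 257198) = true := by decide +kernel
theorem rel157x5 : allFrom (chkRelF cfg relsL) (nat_lit 204) (nat_lit 257402) = true := by decide +kernel
theorem rel157x6 : allFrom (chkRelF cfg relsL) (nat_lit 204) (nat_lit 257606) = true := by decide +kernel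
theorem rel157x7 : allFrom (chkRelF cfg relsL) (nat_lit 204) (nat_lit 257810) = true := by decide +kernel
theorem rel157c1 : allFrom (chkRelF cfg relsL) (nat_lit 409) (nat_lit 256381) = true := join rel157x0 rel157x1 rfl rfl
theorem rel157c2 : allFrom (chkRelF cfg relsL) (nat_lit 613) (nat_lit 256381) = true := join rel157c1 rel157x2 rfl rfl
theorem rel157c3 : allFrom (chkRelF cfg relsL) (nat_lit 817) (nat_lit 256381) = true := join rel157c2 rel157x3 rfl rfl
theorem rel157c4 : allFrom (chkRelF cfg relsL) (nat_lit 1021) (nat_lit 256381) = true := join rel157c3 rel157x4 rfl rfl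
theorem rel157c5 : allFrom (chkRelF cfg relsL) (nat_lit 1225) (nat_lit 256381) = true := join rel157c4 rel157x5 rfl rfl
theorem rel157c6 : allFrom (chkRelF cfg relsL) (nat_lit 1429) (nat_lit 256381) = true := join rel157c5 rel157x6 rfl rfl
theorem rel157 : allFrom (chkRelF cfg relsL) (nat_lit 1633) (nat_lit 256381) = true := join rel157c6 rel157x7 rfl rfl

end Cfsg.Agent.Lib.Compute.TC.Fi24a
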