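-- Certificate checks for Fi24a.
import Cfsg.Agent.Lib.Compute.TC.Fi24a.Data
import Cfsg.Agent.Lib.Compute.TCSplit
set_option autoImplicit false
set_option Elab.async false
set_option maxRecDepth 1000000

open Cfsg.Agent.Lib.Compute.ToddCoxeterCore Cfsg.Agent.Lib.Compute.ToddCoxeterPresented Cfsg.Agent.Lib.Compute.TCFast

open Cfsg.Agent.Lib.Compute.TCSplit

namespace Cfsg.Agent.Lib.Compute.TC.Fi24a

theorem rel158x0 : allFrom (chkRelF cfg relsL) (nat_lit 205) (nat_lit 258014) = true := by decide +kernel
theorem rel158x1 : allFrom (chkRelF cfg relsL) (nat_lit 204) (nat_lit 258219) = true := by decide +kernel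
theorem rel158x2 : allFrom (chkRelF cfg relsL) (nat_lit 204) (nat_lit 258423) = true := by decide +kernel
theorem rel158x3 : allFrom (chkRelF cfg relsL) (nat_lit 204) (nat_lit 258627) = true := by decide +kernel
theorem rel158x4 : allFrom (chkRelF cfg relsL) (nat_lit 204) (nat_lit 258831) = true := by decide +kernel
theorem rel158x5 : allFrom (chkRelF cfg relsL) (nat_lit 204) (nat_lit 259035) = true := by decide +kernel
theorem rel158x6 : allFrom (chkRelF cfg relsL) (nat_lit 204) (nat_lit 259239) = true := by decide +kernel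
theorem rel158x7 : allFrom (chkRelF cfg relsL) (nat_lit 204) (nat_lit 259443) = true := by decide +kernel
theorem rel158c1 : allFrom (chkRelF cfg relsL) (nat_lit 409) (nat_lit 258014) = true := join rel158x0 rel158x1 rfl rfl
theorem rel158c2 : allFrom (chkRelF cfg relsL) (nat_lit 613) (nat_lit 258014) = true := join rel158c1 rel158x2 rfl rfl
theorem rel158c3 : allFrom (chkRelF cfg relsL) (nat_lit 817) (nat_lit 258014) = true := join rel158c2 rel158x3 rfl rfl
theorem rel158c4 : allFrom (chkRelF cfg relsL) (nat_lit 1021) (nat_lit 258014) = true := join rel158c3 rel158x4 rfl rfl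
theorem rel158c5 : allFrom (chkRelF cfg relsL) (nat_lit 1225) (nat_lit 258014) = true := join rel158c4 rel158x5 rfl rfl
theorem rel158c6 : allFrom (chkRelF cfg relsL) (nat_lit 1429) (nat_lit 258014) = true := join rel158c5 rel158x6 rfl rfl
theorem rel158 : allFrom (chkRelF cfg relsL) (nat_lit 1633) (nat_lit 258014) = true := join rel158c6 rel158x7 rfl rfl

end Cfsg.Agent.Lib.Compute.TC.Fi24a
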