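-- Certificate checks for Fi24a.
import Cfsg.Agent.Lib.Compute.TC.Fi24a.Data
import Cfsg.Agent.Lib.Compute.TCSplit
set_option autoImplicit false
set_option Elab.async false
set_option maxRecDepth 1000000

open Cfsg.Agent.Lib.Compute.ToddCoxeterCore Cfsg.Agent.Lib.Compute.ToddCoxeterPresented Cfsg.Agent.Lib.Compute.TCFast

open Cfsg.Agent.Lib.Compute.TCSplit

namespace Cfsg.Agent.Lib.Compute.TC.Fi24a

theorem rel159x0 : allFrom (chkRelF cfg relsL) (nat_lit 205) (nat_lit 259647) = true := by decide +kernel
theorem rel159x1 : allFrom (chkRelF cfg relsL) (nat_lit 204) (nat_lit 259852) = true := by decide +kernel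
theorem rel159x2 : allFrom (chkRelF cfg relsL) (nat_lit 204) (nat_lit 260056) = true := by decide +kernel
theorem rel159x3 : allFrom (chkRelF cfg relsL) (nat_lit 204) (nat_lit 260260) = true := by decide +kernel
theorem rel159x4 : allFrom (chkRelF cfg relsL) (nat_lit 204) (nat_lit 260464) = true := by decide +kernel
theorem rel159x5 : allFrom (chkRelF cfg relsL) (nat_lit 204) (nat_lit 260668) = true := by decide +kernel
theorem rel159x6 : allFrom (chkRelF cfg relsL) (nat_lit 204) (nat_lit 260872) = true := by decide +kernel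
theorem rel159x7 : allFrom (chkRelF cfg relsL) (nat_lit 204) (nat_lit 261076) = true := by decide +kernel
theorem rel159c1 : allFrom (chkRelF cfg relsL) (nat_lit 409) (nat_lit 259647) = true := join rel159x0 rel159x1 rfl rfl
theorem rel159c2 : allFrom (chkRelF cfg relsL) (nat_lit 613) (nat_lit 259647) = true := join rel159c1 rel159x2 rfl rfl
theorem rel159c3 : allFrom (chkRelF cfg relsL) (nat_lit 817) (nat_lit 259647) = true := join rel159c2 rel159x3 rfl rfl
theorem rel159c4 : allFrom (chkRelF cfg relsL) (nat_lit 1021) (nat_lit 259647) = true := join rel159c3 rel159x4 rfl rfl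
theorem rel159c5 : allFrom (chkRelF cfg relsL) (nat_lit 1225) (nat_lit 259647) = true := join rel159c4 rel159x5 rfl rfl
theorem rel159c6 : allFrom (chkRelF cfg relsL) (nat_lit 1429) (nat_lit 259647) = true := join rel159c5 rel159x6 rfl rfl
theorem rel159 : allFrom (chkRelF cfg relsL) (nat_lit 1633) (nat_lit 259647) = true := join rel159c6 rel159x7 rfl rfl

end Cfsg.Agent.Lib.Compute.TC.Fi24a
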