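-- Certificate checks for Fi24a.
import Cfsg.Agent.Lib.Compute.TC.Fi24a.Data
import Cfsg.Agent.Lib.Compute.TCSplit
set_option autoImplicit false
set_option Elab.async false
set_option maxRecDepth 1000000

open Cfsg.Agent.Lib.Compute.ToddCoxeterCore Cfsg.Agent.Lib.Compute.ToddCoxeterPresented Cfsg.Agent.Lib.Compute.TCFast

open Cfsg.Agent.Lib.Compute.TCSplit

namespace Cfsg.Agent.Lib.Compute.TC.Fi24a

theorem rel16x0 : allFrom (chkRelF cfg relsL) (nat_lit 205) (nat_lit 26128) = true := by decide +kernel
theorem rel16x1 : allFrom (chkRelF cfg relsL) (nat_lit 204) (nat_lit 26333) = true := by decide +kernel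
theorem rel16x2 : allFrom (chkRelF cfg relsL) (nat_lit 204) (nat_lit 26537) = true := by decide +kernel
theorem rel16x3 : allFrom (chkRelF cfg relsL) (nat_lit 204) (nat_lit 26741) = true := by decide +kernel
theorem rel16x4 : allFrom (chkRelF cfg relsL) (nat_lit 204) (nat_lit 26945) = true := by decide +kernel
theorem rel16x5 : allFrom (chkRelF cfg relsL) (nat_lit 204) (nat_lit 27149) = true := by decide +kernel
theorem rel16x6 : allFrom (chkRelF cfg relsL) (nat_lit 204) (nat_lit 27353) = true := by decide +kernel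
theorem rel16x7 : allFrom (chkRelF cfg relsL) (nat_lit 204) (nat_lit 27557) = true := by decide +kernel
theorem rel16c1 : allFrom (chkRelF cfg relsL) (nat_lit 409) (nat_lit 26128) = true := join rel16x0 rel16x1 rfl rfl
theorem rel16c2 : allFrom (chkRelF cfg relsL) (nat_lit 613) (nat_lit 26128) = true := join rel16c1 rel16x2 rfl rfl
theorem rel16c3 : allFrom (chkRelF cfg relsL) (nat_lit 817) (nat_lit 26128) = true := join rel16c2 rel16x3 rfl rfl
theorem rel16c4 : allFrom (chkRelF cfg relsL) (nat_lit 1021) (nat_lit 26128) = true := join rel16c3 rel16x4 rfl rfl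
theorem rel16c5 : allFrom (chkRelF cfg relsL) (nat_lit 1225) (nat_lit 26128) = true := join rel16c4 rel16x5 rfl rfl
theorem rel16c6 : allFrom (chkRelF cfg relsL) (nat_lit 1429) (nat_lit 26128) = true := join rel16c5 rel16x6 rfl rfl
theorem rel16 : allFrom (chkRelF cfg relsL) (nat_lit 1633) (nat_lit 26128) = true := join rel16c6 rel16x7 rfl rfl

end Cfsg.Agent.Lib.Compute.TC.Fi24a
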