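-- Certificate checks for Fi24a.
import Cfsg.Agent.Lib.Compute.TC.Fi24a.Data
import Cfsg.Agent.Lib.Compute.TCSplit
set_option autoImplicit false
set_option Elab.async false
set_option maxRecDepth 1000000

open Cfsg.Agent.Lib.Compute.ToddCoxeterCore Cfsg.Agent.Lib.Compute.ToddCoxeterPresented Cfsg.Agent.Lib.Compute.TCFast

open Cfsg.Agent.Lib.Compute.TCSplit

namespace Cfsg.Agent.Lib.Compute.TC.Fi24a

theorem rel160x0 : allFrom (chkRelF cfg relsL) (nat_lit 205) (nat_lit 261280) = true := by decide +kernel
theorem rel160x1 : allFrom (chkRelF cfg relsL) (nat_lit 204) (nat_lit 261485) = true := by decide +kernel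
theorem rel160x2 : allFrom (chkRelF cfg relsL) (nat_lit 204) (nat_lit 261689) = true := by decide +kernel
theorem rel160x3 : allFrom (chkRelF cfg relsL) (nat_lit 204) (nat_lit 261893) = true := by decide +kernel
theorem rel160x4 : allFrom (chkRelF cfg relsL) (nat_lit 204) (nat_lit 262097) = true := by decide +kernel
theorem rel160x5 : allFrom (chkRelF cfg relsL) (nat_lit 204) (nat_lit 262301) = true := by decide +kernel
theorem rel160x6 : allFrom (chkRelF cfg relsL) (nat_lit 204) (nat_lit 262505) = true := by decide +kernel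
theorem rel160x7 : allFrom (chkRelF cfg relsL) (nat_lit 204) (nat_lit 262709) = true := by decide +kernel
theorem rel160c1 : allFrom (chkRelF cfg relsL) (nat_lit 409) (nat_lit 261280) = true := join rel160x0 rel160x1 rfl rfl
theorem rel160c2 : allFrom (chkRelF cfg relsL) (nat_lit 613) (nat_lit 261280) = true := join rel160c1 rel160x2 rfl rfl
theorem rel160c3 : allFrom (chkRelF cfg relsL) (nat_lit 817) (nat_lit 261280) = true := join rel160c2 rel160x3 rfl rfl
theorem rel160c4 : allFrom (chkRelF cfg relsL) (nat_lit 1021) (nat_lit 261280) = true := join rel160c3 rel160x4 rfl rfl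
theorem rel160c5 : allFrom (chkRelF cfg relsL) (nat_lit 1225) (nat_lit 261280) = true := join rel160c4 rel160x5 rfl rfl
theorem rel160c6 : allFrom (chkRelF cfg relsL) (nat_lit 1429) (nat_lit 261280) = true := join rel160c5 rel160x6 rfl rfl
theorem rel160 : allFrom (chkRelF cfg relsL) (nat_lit 1633) (nat_lit 261280) = true := join rel160c6 rel160x7 rfl rfl

end Cfsg.Agent.Lib.Compute.TC.Fi24a
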