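-- Certificate checks for Fi24a.
import Cfsg.Agent.Lib.Compute.TC.Fi24a.Data
import Cfsg.Agent.Lib.Compute.TCSplit
set_option autoImplicit false
set_option Elab.async false
set_option maxRecDepth 1000000

open Cfsg.Agent.Lib.Compute.ToddCoxeterCore Cfsg.Agent.Lib.Compute.ToddCoxeterPresented Cfsg.Agent.Lib.Compute.TCFast

open Cfsg.Agent.Lib.Compute.TCSplit

namespace Cfsg.Agent.Lib.Compute.TC.Fi24a

theorem rel161x0 : allFrom (chkRelF cfg relsL) (nat_lit 205) (nat_lit 262913) = true := by decide +kernel
theorem rel161x1 : allFrom (chkRelF cfg relsL) (nat_lit 204) (nat_lit 263118) = true := by decide +kernel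
theorem rel161x2 : allFrom (chkRelF cfg relsL) (nat_lit 204) (nat_lit 263322) = true := by decide +kernel
theorem rel161x3 : allFrom (chkRelF cfg relsL) (nat_lit 204) (nat_lit 263526) = true := by decide +kernel
theorem rel161x4 : allFrom (chkRelF cfg relsL) (nat_lit 204) (nat_lit 263730) = true := by decide +kernel
theorem rel161x5 : allFrom (chkRelF cfg relsL) (nat_lit 204) (nat_lit 263934) = true := by decide +kernel
theorem rel161x6 : allFrom (chkRelF cfg relsL) (nat_lit 204) (nat_lit 264138) = true := by decide +kernel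
theorem rel161x7 : allFrom (chkRelF cfg relsL) (nat_lit 204) (nat_lit 264342) = true := by decide +kernel
theorem rel161c1 : allFrom (chkRelF cfg relsL) (nat_lit 409) (nat_lit 262913) = true := join rel161x0 rel161x1 rfl rfl
theorem rel161c2 : allFrom (chkRelF cfg relsL) (nat_lit 613) (nat_lit 262913) = true := join rel161c1 rel161x2 rfl rfl
theorem rel161c3 : allFrom (chkRelF cfg relsL) (nat_lit 817) (nat_lit 262913) = true := join rel161c2 rel161x3 rfl rfl
theorem rel161c4 : allFrom (chkRelF cfg relsL) (nat_lit 1021) (nat_lit 262913) = true := join rel161c3 rel161x4 rfl rfl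
theorem rel161c5 : allFrom (chkRelF cfg relsL) (nat_lit 1225) (nat_lit 262913) = true := join rel161c4 rel161x5 rfl rfl
theorem rel161c6 : allFrom (chkRelF cfg relsL) (nat_lit 1429) (nat_lit 262913) = true := join rel161c5 rel161x6 rfl rfl
theorem rel161 : allFrom (chkRelF cfg relsL) (nat_lit 1633) (nat_lit 262913) = true := join rel161c6 rel161x7 rfl rfl

end Cfsg.Agent.Lib.Compute.TC.Fi24a
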