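-- Certificate checks for Fi24a.
import Cfsg.Agent.Lib.Compute.TC.Fi24a.Data
import Cfsg.Agent.Lib.Compute.TCSplit
set_option autoImplicit false
set_option Elab.async false
set_option maxRecDepth 1000000

open Cfsg.Agent.Lib.Compute.ToddCoxeterCore Cfsg.Agent.Lib.Compute.ToddCoxeterPresented Cfsg.Agent.Lib.Compute.TCFast

open Cfsg.Agent.Lib.Compute.TCSplit

namespace Cfsg.Agent.Lib.Compute.TC.Fi24a

theorem rel162x0 : allFrom (chkRelF cfg relsL) (nat_lit 205) (nat_lit 264546) = true := by decide +kernel
theorem rel162x1 : allFrom (chkRelF cfg relsL) (nat_lit 204) (nat_lit 264751) = true := by decide +kernel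
theorem rel162x2 : allFrom (chkRelF cfg relsL) (nat_lit 204) (nat_lit 264955) = true := by decide +kernel
theorem rel162x3 : allFrom (chkRelF cfg relsL) (nat_lit 204) (nat_lit 265159) = true := by decide +kernel
theorem rel162x4 : allFrom (chkRelF cfg relsL) (nat_lit 204) (nat_lit 265363) = true := by decide +kernel
theorem rel162x5 : allFrom (chkRelF cfg relsL) (nat_lit 204) (nat_lit 265567) = true := by decide +kernel
theorem rel162x6 : allFrom (chkRelF cfg relsL) (nat_lit 204) (nat_lit 265771) = true := by decide +kernel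
theorem rel162x7 : allFrom (chkRelF cfg relsL) (nat_lit 204) (nat_lit 265975) = true := by decide +kernel
theorem rel162c1 : allFrom (chkRelF cfg relsL) (nat_lit 409) (nat_lit 264546) = true := join rel162x0 rel162x1 rfl rfl
theorem rel162c2 : allFrom (chkRelF cfg relsL) (nat_lit 613) (nat_lit 264546) = true := join rel162c1 rel162x2 rfl rfl
theorem rel162c3 : allFrom (chkRelF cfg relsL) (nat_lit 817) (nat_lit 264546) = true := join rel162c2 rel162x3 rfl rfl
theorem rel162c4 : allFrom (chkRelF cfg relsL) (nat_lit 1021) (nat_lit 264546) = true := join rel162c3 rel162x4 rfl rfl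
theorem rel162c5 : allFrom (chkRelF cfg relsL) (nat_lit 1225) (nat_lit 264546) = true := join rel162c4 rel162x5 rfl rfl
theorem rel162c6 : allFrom (chkRelF cfg relsL) (nat_lit 1429) (nat_lit 264546) = true := join rel162c5 rel162x6 rfl rfl
theorem rel162 : allFrom (chkRelF cfg relsL) (nat_lit 1633) (nat_lit 264546) = true := join rel162c6 rel162x7 rfl rfl

end Cfsg.Agent.Lib.Compute.TC.Fi24a
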