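-- Certificate checks for Fi24a.
import Cfsg.Agent.Lib.Compute.TC.Fi24a.Data
import Cfsg.Agent.Lib.Compute.TCSplit
set_option autoImplicit false
set_option Elab.async false
set_option maxRecDepth 1000000

open Cfsg.Agent.Lib.Compute.ToddCoxeterCore Cfsg.Agent.Lib.Compute.ToddCoxeterPresented Cfsg.Agent.Lib.Compute.TCFast

open Cfsg.Agent.Lib.Compute.TCSplit

namespace Cfsg.Agent.Lib.Compute.TC.Fi24a

theorem rel163x0 : allFrom (chkRelF cfg relsL) (nat_lit 205) (nat_lit 266179) = true := by decide +kernel
theorem rel163x1 : allFrom (chkRelF cfg relsL) (nat_lit 204) (nat_lit 266384) = true := by decide +kernel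
theorem rel163x2 : allFrom (chkRelF cfg relsL) (nat_lit 204) (nat_lit 266588) = true := by decide +kernel
theorem rel163x3 : allFrom (chkRelF cfg relsL) (nat_lit 204) (nat_lit 266792) = true := by decide +kernel
theorem rel163x4 : allFrom (chkRelF cfg relsL) (nat_lit 204) (nat_lit 266996) = true := by decide +kernel
theorem rel163x5 : allFrom (chkRelF cfg relsL) (nat_lit 204) (nat_lit 267200) = true := by decide +kernel
theorem rel163x6 : allFrom (chkRelF cfg relsL) (nat_lit 204) (nat_lit 267404) = true := by decide +kernel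
theorem rel163x7 : allFrom (chkRelF cfg relsL) (nat_lit 204) (nat_lit 267608) = true := by decide +kernel
theorem rel163c1 : allFrom (chkRelF cfg relsL) (nat_lit 409) (nat_lit 266179) = true := join rel163x0 rel163x1 rfl rfl
theorem rel163c2 : allFrom (chkRelF cfg relsL) (nat_lit 613) (nat_lit 266179) = true := join rel163c1 rel163x2 rfl rfl
theorem rel163c3 : allFrom (chkRelF cfg relsL) (nat_lit 817) (nat_lit 266179) = true := join rel163c2 rel163x3 rfl rfl
theorem rel163c4 : allFrom (chkRelF cfg relsL) (nat_lit 1021) (nat_lit 266179) = true := join rel163c3 rel163x4 rfl rfl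
theorem rel163c5 : allFrom (chkRelF cfg relsL) (nat_lit 1225) (nat_lit 266179) = true := join rel163c4 rel163x5 rfl rfl
theorem rel163c6 : allFrom (chkRelF cfg relsL) (nat_lit 1429) (nat_lit 266179) = true := join rel163c5 rel163x6 rfl rfl
theorem rel163 : allFrom (chkRelF cfg relsL) (nat_lit 1633) (nat_lit 266179) = true := join rel163c6 rel163x7 rfl rfl

end Cfsg.Agent.Lib.Compute.TC.Fi24a
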