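-- Certificate checks for Fi24a.
import Cfsg.Agent.Lib.Compute.TC.Fi24a.Data
import Cfsg.Agent.Lib.Compute.TCSplit
set_option autoImplicit false
set_option Elab.async false
set_option maxRecDepth 1000000

open Cfsg.Agent.Lib.Compute.ToddCoxeterCore Cfsg.Agent.Lib.Compute.ToddCoxeterPresented Cfsg.Agent.Lib.Compute.TCFast

open Cfsg.Agent.Lib.Compute.TCSplit

namespace Cfsg.Agent.Lib.Compute.TC.Fi24a

theorem rel165x0 : allFrom (chkRelF cfg relsL) (nat_lit 205) (nat_lit 269445) = true := by decide +kernel
theorem rel165x1 : allFrom (chkRelF cfg relsL) (nat_lit 204) (nat_lit 269650) = true := by decide +kernel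
theorem rel165x2 : allFrom (chkRelF cfg relsL) (nat_lit 204) (nat_lit 269854) = true := by decide +kernel
theorem rel165x3 : allFrom (chkRelF cfg relsL) (nat_lit 204) (nat_lit 270058) = true := by decide +kernel
theorem rel165x4 : allFrom (chkRelF cfg relsL) (nat_lit 204) (nat_lit 270262) = true := by decide +kernel
theorem rel165x5 : allFrom (chkRelF cfg relsL) (nat_lit 204) (nat_lit 270466) = true := by decide +kernel
theorem rel165x6 : allFrom (chkRelF cfg relsL) (nat_lit 204) (nat_lit 270670) = true := by decide +kernel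
theorem rel165x7 : allFrom (chkRelF cfg relsL) (nat_lit 204) (nat_lit 270874) = true := by decide +kernel
theorem rel165c1 : allFrom (chkRelF cfg relsL) (nat_lit 409) (nat_lit 269445) = true := join rel165x0 rel165x1 rfl rfl
theorem rel165c2 : allFrom (chkRelF cfg relsL) (nat_lit 613) (nat_lit 269445) = true := join rel165c1 rel165x2 rfl rfl
theorem rel165c3 : allFrom (chkRelF cfg relsL) (nat_lit 817) (nat_lit 269445) = true := join rel165c2 rel165x3 rfl rfl
theorem rel165c4 : allFrom (chkRelF cfg relsL) (nat_lit 1021) (nat_lit 269445) = true := join rel165c3 rel165x4 rfl rfl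
theorem rel165c5 : allFrom (chkRelF cfg relsL) (nat_lit 1225) (nat_lit 269445) = true := join rel165c4 rel165x5 rfl rfl
theorem rel165c6 : allFrom (chkRelF cfg relsL) (nat_lit 1429) (nat_lit 269445) = true := join rel165c5 rel165x6 rfl rfl
theorem rel165 : allFrom (chkRelF cfg relsL) (nat_lit 1633) (nat_lit 269445) = true := join rel165c6 rel165x7 rfl rfl

end Cfsg.Agent.Lib.Compute.TC.Fi24a
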