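-- Certificate checks for Fi24a.
import Cfsg.Agent.Lib.Compute.TC.Fi24a.Data
import Cfsg.Agent.Lib.Compute.TCSplit
set_option autoImplicit false
set_option Elab.async false
set_option maxRecDepth 1000000

open Cfsg.Agent.Lib.Compute.ToddCoxeterCore Cfsg.Agent.Lib.Compute.ToddCoxeterPresented Cfsg.Agent.Lib.Compute.TCFast

open Cfsg.Agent.Lib.Compute.TCSplit

namespace Cfsg.Agent.Lib.Compute.TC.Fi24a

theorem rel166x0 : allFrom (chkRelF cfg relsL) (nat_lit 205) (nat_lit 271078) = true := by decide +kernel
theorem rel166x1 : allFrom (chkRelF cfg relsL) (nat_lit 204) (nat_lit 271283) = true := by decide +kernel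
theorem rel166x2 : allFrom (chkRelF cfg relsL) (nat_lit 204) (nat_lit 271487) = true := by decide +kernel
theorem rel166x3 : allFrom (chkRelF cfg relsL) (nat_lit 204) (nat_lit 271691) = true := by decide +kernel
theorem rel166x4 : allFrom (chkRelF cfg relsL) (nat_lit 204) (nat_lit 271895) = true := by decide +kernel
theorem rel166x5 : allFrom (chkRelF cfg relsL) (nat_lit 204) (nat_lit 272099) = true := by decide +kernel
theorem rel166x6 : allFrom (chkRelF cfg relsL) (nat_lit 204) (nat_lit 272303) = true := by decide +kernel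
theorem rel166x7 : allFrom (chkRelF cfg relsL) (nat_lit 204) (nat_lit 272507) = true := by decide +kernel
theorem rel166c1 : allFrom (chkRelF cfg relsL) (nat_lit 409) (nat_lit 271078) = true := join rel166x0 rel166x1 rfl rfl
theorem rel166c2 : allFrom (chkRelF cfg relsL) (nat_lit 613) (nat_lit 271078) = true := join rel166c1 rel166x2 rfl rfl
theorem rel166c3 : allFrom (chkRelF cfg relsL) (nat_lit 817) (nat_lit 271078) = true := join rel166c2 rel166x3 rfl rfl
theorem rel166c4 : allFrom (chkRelF cfg relsL) (nat_lit 1021) (nat_lit 271078) = true := join rel166c3 rel166x4 rfl rfl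
theorem rel166c5 : allFrom (chkRelF cfg relsL) (nat_lit 1225) (nat_lit 271078) = true := join rel166c4 rel166x5 rfl rfl
theorem rel166c6 : allFrom (chkRelF cfg relsL) (nat_lit 1429) (nat_lit 271078) = true := join rel166c5 rel166x6 rfl rfl
theorem rel166 : allFrom (chkRelF cfg relsL) (nat_lit 1633) (nat_lit 271078) = true := join rel166c6 rel166x7 rfl rfl

end Cfsg.Agent.Lib.Compute.TC.Fi24a
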