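-- Certificate checks for Fi24a.
import Cfsg.Agent.Lib.Compute.TC.Fi24a.Data
import Cfsg.Agent.Lib.Compute.TCSplit
set_option autoImplicit false
set_option Elab.async false
set_option maxRecDepth 1000000

open Cfsg.Agent.Lib.Compute.ToddCoxeterCore Cfsg.Agent.Lib.Compute.ToddCoxeterPresented Cfsg.Agent.Lib.Compute.TCFast

open Cfsg.Agent.Lib.Compute.TCSplit

namespace Cfsg.Agent.Lib.Compute.TC.Fi24a

theorem rel167x0 : allFrom (chkRelF cfg relsL) (nat_lit 205) (nat_lit 272711) = true := by decide +kernel
theorem rel167x1 : allFrom (chkRelF cfg relsL) (nat_lit 204) (nat_lit 272916) = true := by decide +kernel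
theorem rel167x2 : allFrom (chkRelF cfg relsL) (nat_lit 204) (nat_lit 273120) = true := by decide +kernel
theorem rel167x3 : allFrom (chkRelF cfg relsL) (nat_lit 204) (nat_lit 273324) = true := by decide +kernel
theorem rel167x4 : allFrom (chkRelF cfg relsL) (nat_lit 204) (nat_lit 273528) = true := by decide +kernel
theorem rel167x5 : allFrom (chkRelF cfg relsL) (nat_lit 204) (nat_lit 273732) = true := by decide +kernel
theorem rel167x6 : allFrom (chkRelF cfg relsL) (nat_lit 204) (nat_lit 273936) = true := by decide +kernel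
theorem rel167x7 : allFrom (chkRelF cfg relsL) (nat_lit 204) (nat_lit 274140) = true := by decide +kernel
theorem rel167c1 : allFrom (chkRelF cfg relsL) (nat_lit 409) (nat_lit 272711) = true := join rel167x0 rel167x1 rfl rfl
theorem rel167c2 : allFrom (chkRelF cfg relsL) (nat_lit 613) (nat_lit 272711) = true := join rel167c1 rel167x2 rfl rfl
theorem rel167c3 : allFrom (chkRelF cfg relsL) (nat_lit 817) (nat_lit 272711) = true := join rel167c2 rel167x3 rfl rfl
theorem rel167c4 : allFrom (chkRelF cfg relsL) (nat_lit 1021) (nat_lit 272711) = true := join rel167c3 rel167x4 rfl rfl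
theorem rel167c5 : allFrom (chkRelF cfg relsL) (nat_lit 1225) (nat_lit 272711) = true := join rel167c4 rel167x5 rfl rfl
theorem rel167c6 : allFrom (chkRelF cfg relsL) (nat_lit 1429) (nat_lit 272711) = true := join rel167c5 rel167x6 rfl rfl
theorem rel167 : allFrom (chkRelF cfg relsL) (nat_lit 1633) (nat_lit 272711) = true := join rel167c6 rel167x7 rfl rfl

end Cfsg.Agent.Lib.Compute.TC.Fi24a
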