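-- Certificate checks for Fi24a.
import Cfsg.Agent.Lib.Compute.TC.Fi24a.Data
import Cfsg.Agent.Lib.Compute.TCSplit
set_option autoImplicit false
set_option Elab.async false
set_option maxRecDepth 1000000

open Cfsg.Agent.Lib.Compute.ToddCoxeterCore Cfsg.Agent.Lib.Compute.ToddCoxeterPresented Cfsg.Agent.Lib.Compute.TCFast

open Cfsg.Agent.Lib.Compute.TCSplit

namespace Cfsg.Agent.Lib.Compute.TC.Fi24a

theorem rel168x0 : allFrom (chkRelF cfg relsL) (nat_lit 205) (nat_lit 274344) = true := by decide +kernel
theorem rel168x1 : allFrom (chkRelF cfg relsL) (nat_lit 204) (nat_lit 274549) = true := by decide +kernel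
theorem rel168x2 : allFrom (chkRelF cfg relsL) (nat_lit 204) (nat_lit 274753) = true := by decide +kernel
theorem rel168x3 : allFrom (chkRelF cfg relsL) (nat_lit 204) (nat_lit 274957) = true := by decide +kernel
theorem rel168x4 : allFrom (chkRelF cfg relsL) (nat_lit 204) (nat_lit 275161) = true := by decide +kernel
theorem rel168x5 : allFrom (chkRelF cfg relsL) (nat_lit 204) (nat_lit 275365) = true := by decide +kernel
theorem rel168x6 : allFrom (chkRelF cfg relsL) (nat_lit 204) (nat_lit 275569) = true := by decide +kernel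
theorem rel168x7 : allFrom (chkRelF cfg relsL) (nat_lit 204) (nat_lit 275773) = true := by decide +kernel
theorem rel168c1 : allFrom (chkRelF cfg relsL) (nat_lit 409) (nat_lit 274344) = true := join rel168x0 rel168x1 rfl rfl
theorem rel168c2 : allFrom (chkRelF cfg relsL) (nat_lit 613) (nat_lit 274344) = true := join rel168c1 rel168x2 rfl rfl
theorem rel168c3 : allFrom (chkRelF cfg relsL) (nat_lit 817) (nat_lit 274344) = true := join rel168c2 rel168x3 rfl rfl
theorem rel168c4 : allFrom (chkRelF cfg relsL) (nat_lit 1021) (nat_lit 274344) = true := join rel168c3 rel168x4 rfl rfl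
theorem rel168c5 : allFrom (chkRelF cfg relsL) (nat_lit 1225) (nat_lit 274344) = true := join rel168c4 rel168x5 rfl rfl
theorem rel168c6 : allFrom (chkRelF cfg relsL) (nat_lit 1429) (nat_lit 274344) = true := join rel168c5 rel168x6 rfl rfl
theorem rel168 : allFrom (chkRelF cfg relsL) (nat_lit 1633) (nat_lit 274344) = true := join rel168c6 rel168x7 rfl rfl

end Cfsg.Agent.Lib.Compute.TC.Fi24a
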