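-- Certificate checks for Fi24a.
import Cfsg.Agent.Lib.Compute.TC.Fi24a.Data
import Cfsg.Agent.Lib.Compute.TCSplit
set_option autoImplicit false
set_option Elab.async false
set_option maxRecDepth 1000000

open Cfsg.Agent.Lib.Compute.ToddCoxeterCore Cfsg.Agent.Lib.Compute.ToddCoxeterPresented Cfsg.Agent.Lib.Compute.TCFast

open Cfsg.Agent.Lib.Compute.TCSplit

namespace Cfsg.Agent.Lib.Compute.TC.Fi24a

theorem rel169x0 : allFrom (chkRelF cfg relsL) (nat_lit 205) (nat_lit 275977) = true := by decide +kernel
theorem rel169x1 : allFrom (chkRelF cfg relsL) (nat_lit 204) (nat_lit 276182) = true := by decide +kernel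
theorem rel169x2 : allFrom (chkRelF cfg relsL) (nat_lit 204) (nat_lit 276386) = true := by decide +kernel
theorem rel169x3 : allFrom (chkRelF cfg relsL) (nat_lit 204) (nat_lit 276590) = true := by decide +kernel
theorem rel169x4 : allFrom (chkRelF cfg relsL) (nat_lit 204) (nat_lit 276794) = true := by decide +kernel
theorem rel169x5 : allFrom (chkRelF cfg relsL) (nat_lit 204) (nat_lit 276998) = true := by decide +kernel
theorem rel169x6 : allFrom (chkRelF cfg relsL) (nat_lit 204) (nat_lit 277202) = true := by decide +kernel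
theorem rel169x7 : allFrom (chkRelF cfg relsL) (nat_lit 204) (nat_lit 277406) = true := by decide +kernel
theorem rel169c1 : allFrom (chkRelF cfg relsL) (nat_lit 409) (nat_lit 275977) = true := join rel169x0 rel169x1 rfl rfl
theorem rel169c2 : allFrom (chkRelF cfg relsL) (nat_lit 613) (nat_lit 275977) = true := join rel169c1 rel169x2 rfl rfl
theorem rel169c3 : allFrom (chkRelF cfg relsL) (nat_lit 817) (nat_lit 275977) = true := join rel169c2 rel169x3 rfl rfl
theorem rel169c4 : allFrom (chkRelF cfg relsL) (nat_lit 1021) (nat_lit 275977) = true := join rel169c3 rel169x4 rfl rfl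
theorem rel169c5 : allFrom (chkRelF cfg relsL) (nat_lit 1225) (nat_lit 275977) = true := join rel169c4 rel169x5 rfl rfl
theorem rel169c6 : allFrom (chkRelF cfg relsL) (nat_lit 1429) (nat_lit 275977) = true := join rel169c5 rel169x6 rfl rfl
theorem rel169 : allFrom (chkRelF cfg relsL) (nat_lit 1633) (nat_lit 275977) = true := join rel169c6 rel169x7 rfl rfl

end Cfsg.Agent.Lib.Compute.TC.Fi24a
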