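-- Certificate checks for Fi24a.
import Cfsg.Agent.Lib.Compute.TC.Fi24a.Data
import Cfsg.Agent.Lib.Compute.TCSplit
set_option autoImplicit false
set_option Elab.async false
set_option maxRecDepth 1000000

open Cfsg.Agent.Lib.Compute.ToddCoxeterCore Cfsg.Agent.Lib.Compute.ToddCoxeterPresented Cfsg.Agent.Lib.Compute.TCFast

open Cfsg.Agent.Lib.Compute.TCSplit

namespace Cfsg.Agent.Lib.Compute.TC.Fi24a

theorem rel17x0 : allFrom (chkRelF cfg relsL) (nat_lit 205) (nat_lit 27761) = true := by decide +kernel
theorem rel17x1 : allFrom (chkRelF cfg relsL) (nat_lit 204) (nat_lit 27966) = true := by decide +kernel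
theorem rel17x2 : allFrom (chkRelF cfg relsL) (nat_lit 204) (nat_lit 28170) = true := by decide +kernel
theorem rel17x3 : allFrom (chkRelF cfg relsL) (nat_lit 204) (nat_lit 28374) = true := by decide +kernel
theorem rel17x4 : allFrom (chkRelF cfg relsL) (nat_lit 204) (nat_lit 28578) = true := by decide +kernel
theorem rel17x5 : allFrom (chkRelF cfg relsL) (nat_lit 204) (nat_lit 28782) = true := by decide +kernel
theorem rel17x6 : allFrom (chkRelF cfg relsL) (nat_lit 204) (nat_lit 28986) = true := by decide +kernel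
theorem rel17x7 : allFrom (chkRelF cfg relsL) (nat_lit 204) (nat_lit 29190) = true := by decide +kernel
theorem rel17c1 : allFrom (chkRelF cfg relsL) (nat_lit 409) (nat_lit 27761) = true := join rel17x0 rel17x1 rfl rfl
theorem rel17c2 : allFrom (chkRelF cfg relsL) (nat_lit 613) (nat_lit 27761) = true := join rel17c1 rel17x2 rfl rfl
theorem rel17c3 : allFrom (chkRelF cfg relsL) (nat_lit 817) (nat_lit 27761) = true := join rel17c2 rel17x3 rfl rfl
theorem rel17c4 : allFrom (chkRelF cfg relsL) (nat_lit 1021) (nat_lit 27761) = true := join rel17c3 rel17x4 rfl rfl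
theorem rel17c5 : allFrom (chkRelF cfg relsL) (nat_lit 1225) (nat_lit 27761) = true := join rel17c4 rel17x5 rfl rfl
theorem rel17c6 : allFrom (chkRelF cfg relsL) (nat_lit 1429) (nat_lit 27761) = true := join rel17c5 rel17x6 rfl rfl
theorem rel17 : allFrom (chkRelF cfg relsL) (nat_lit 1633) (nat_lit 27761) = true := join rel17c6 rel17x7 rfl rfl

end Cfsg.Agent.Lib.Compute.TC.Fi24a
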