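-- Certificate checks for Fi24a.
import Cfsg.Agent.Lib.Compute.TC.Fi24a.Data
import Cfsg.Agent.Lib.Compute.TCSplit
set_option autoImplicit false
set_option Elab.async false
set_option maxRecDepth 1000000

open Cfsg.Agent.Lib.Compute.ToddCoxeterCore Cfsg.Agent.Lib.Compute.ToddCoxeterPresented Cfsg.Agent.Lib.Compute.TCFast

open Cfsg.Agent.Lib.Compute.TCSplit

namespace Cfsg.Agent.Lib.Compute.TC.Fi24a

theorem rel170x0 : allFrom (chkRelF cfg relsL) (nat_lit 205) (nat_lit 277610) = true := by decide +kernel
theorem rel170x1 : allFrom (chkRelF cfg relsL) (nat_lit 204) (nat_lit 277815) = true := by decide +kernel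
theorem rel170x2 : allFrom (chkRelF cfg relsL) (nat_lit 204) (nat_lit 278019) = true := by decide +kernel
theorem rel170x3 : allFrom (chkRelF cfg relsL) (nat_lit 204) (nat_lit 278223) = true := by decide +kernel
theorem rel170x4 : allFrom (chkRelF cfg relsL) (nat_lit 204) (nat_lit 278427) = true := by decide +kernel
theorem rel170x5 : allFrom (chkRelF cfg relsL) (nat_lit 204) (nat_lit 278631) = true := by decide +kernel
theorem rel170x6 : allFrom (chkRelF cfg relsL) (nat_lit 204) (nat_lit 278835) = true := by decide +kernel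
theorem rel170x7 : allFrom (chkRelF cfg relsL) (nat_lit 204) (nat_lit 279039) = true := by decide +kernel
theorem rel170c1 : allFrom (chkRelF cfg relsL) (nat_lit 409) (nat_lit 277610) = true := join rel170x0 rel170x1 rfl rfl
theorem rel170c2 : allFrom (chkRelF cfg relsL) (nat_lit 613) (nat_lit 277610) = true := join rel170c1 rel170x2 rfl rfl
theorem rel170c3 : allFrom (chkRelF cfg relsL) (nat_lit 817) (nat_lit 277610) = true := join rel170c2 rel170x3 rfl rfl
theorem rel170c4 : allFrom (chkRelF cfg relsL) (nat_lit 1021) (nat_lit 277610) = true := join rel170c3 rel170x4 rfl rfl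
theorem rel170c5 : allFrom (chkRelF cfg relsL) (nat_lit 1225) (nat_lit 277610) = true := join rel170c4 rel170x5 rfl rfl
theorem rel170c6 : allFrom (chkRelF cfg relsL) (nat_lit 1429) (nat_lit 277610) = true := join rel170c5 rel170x6 rfl rfl
theorem rel170 : allFrom (chkRelF cfg relsL) (nat_lit 1633) (nat_lit 277610) = true := join rel170c6 rel170x7 rfl rfl

end Cfsg.Agent.Lib.Compute.TC.Fi24a
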