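-- Certificate checks for Fi24a.
import Cfsg.Agent.Lib.Compute.TC.Fi24a.Data
import Cfsg.Agent.Lib.Compute.TCSplit
set_option autoImplicit false
set_option Elab.async false
set_option maxRecDepth 1000000

open Cfsg.Agent.Lib.Compute.ToddCoxeterCore Cfsg.Agent.Lib.Compute.ToddCoxeterPresented Cfsg.Agent.Lib.Compute.TCFast

open Cfsg.Agent.Lib.Compute.TCSplit

namespace Cfsg.Agent.Lib.Compute.TC.Fi24a

theorem rel171x0 : allFrom (chkRelF cfg relsL) (nat_lit 205) (nat_lit 279243) = true := by decide +kernel
theorem rel171x1 : allFrom (chkRelF cfg relsL) (nat_lit 204) (nat_lit 279448) = true := by decide +kernel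
theorem rel171x2 : allFrom (chkRelF cfg relsL) (nat_lit 204) (nat_lit 279652) = true := by decide +kernel
theorem rel171x3 : allFrom (chkRelF cfg relsL) (nat_lit 204) (nat_lit 279856) = true := by decide +kernel
theorem rel171x4 : allFrom (chkRelF cfg relsL) (nat_lit 204) (nat_lit 280060) = true := by decide +kernel
theorem rel171x5 : allFrom (chkRelF cfg relsL) (nat_lit 204) (nat_lit 280264) = true := by decide +kernel
theorem rel171x6 : allFrom (chkRelF cfg relsL) (nat_lit 204) (nat_lit 280468) = true := by decide +kernel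
theorem rel171x7 : allFrom (chkRelF cfg relsL) (nat_lit 204) (nat_lit 280672) = true := by decide +kernel
theorem rel171c1 : allFrom (chkRelF cfg relsL) (nat_lit 409) (nat_lit 279243) = true := join rel171x0 rel171x1 rfl rfl
theorem rel171c2 : allFrom (chkRelF cfg relsL) (nat_lit 613) (nat_lit 279243) = true := join rel171c1 rel171x2 rfl rfl
theorem rel171c3 : allFrom (chkRelF cfg relsL) (nat_lit 817) (nat_lit 279243) = true := join rel171c2 rel171x3 rfl rfl
theorem rel171c4 : allFrom (chkRelF cfg relsL) (nat_lit 1021) (nat_lit 279243) = true := join rel171c3 rel171x4 rfl rfl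
theorem rel171c5 : allFrom (chkRelF cfg relsL) (nat_lit 1225) (nat_lit 279243) = true := join rel171c4 rel171x5 rfl rfl
theorem rel171c6 : allFrom (chkRelF cfg relsL) (nat_lit 1429) (nat_lit 279243) = true := join rel171c5 rel171x6 rfl rfl
theorem rel171 : allFrom (chkRelF cfg relsL) (nat_lit 1633) (nat_lit 279243) = true := join rel171c6 rel171x7 rfl rfl

end Cfsg.Agent.Lib.Compute.TC.Fi24a
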