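-- Certificate checks for Fi24a.
import Cfsg.Agent.Lib.Compute.TC.Fi24a.Data
import Cfsg.Agent.Lib.Compute.TCSplit
set_option autoImplicit false
set_option Elab.async false
set_option maxRecDepth 1000000

open Cfsg.Agent.Lib.Compute.ToddCoxeterCore Cfsg.Agent.Lib.Compute.ToddCoxeterPresented Cfsg.Agent.Lib.Compute.TCFast

open Cfsg.Agent.Lib.Compute.TCSplit

namespace Cfsg.Agent.Lib.Compute.TC.Fi24a

theorem rel172x0 : allFrom (chkRelF cfg relsL) (nat_lit 205) (nat_lit 280876) = true := by decide +kernel
theorem rel172x1 : allFrom (chkRelF cfg relsL) (nat_lit 204) (nat_lit 281081) = true := by decide +kernel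
theorem rel172x2 : allFrom (chkRelF cfg relsL) (nat_lit 204) (nat_lit 281285) = true := by decide +kernel
theorem rel172x3 : allFrom (chkRelF cfg relsL) (nat_lit 204) (nat_lit 281489) = true := by decide +kernel
theorem rel172x4 : allFrom (chkRelF cfg relsL) (nat_lit 204) (nat_lit 281693) = true := by decide +kernel
theorem rel172x5 : allFrom (chkRelF cfg relsL) (nat_lit 204) (nat_lit 281897) = true := by decide +kernel
theorem rel172x6 : allFrom (chkRelF cfg relsL) (nat_lit 204) (nat_lit 282101) = true := by decide +kernel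
theorem rel172x7 : allFrom (chkRelF cfg relsL) (nat_lit 204) (nat_lit 282305) = true := by decide +kernel
theorem rel172c1 : allFrom (chkRelF cfg relsL) (nat_lit 409) (nat_lit 280876) = true := join rel172x0 rel172x1 rfl rfl
theorem rel172c2 : allFrom (chkRelF cfg relsL) (nat_lit 613) (nat_lit 280876) = true := join rel172c1 rel172x2 rfl rfl
theorem rel172c3 : allFrom (chkRelF cfg relsL) (nat_lit 817) (nat_lit 280876) = true := join rel172c2 rel172x3 rfl rfl
theorem rel172c4 : allFrom (chkRelF cfg relsL) (nat_lit 1021) (nat_lit 280876) = true := join rel172c3 rel172x4 rfl rfl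
theorem rel172c5 : allFrom (chkRelF cfg relsL) (nat_lit 1225) (nat_lit 280876) = true := join rel172c4 rel172x5 rfl rfl
theorem rel172c6 : allFrom (chkRelF cfg relsL) (nat_lit 1429) (nat_lit 280876) = true := join rel172c5 rel172x6 rfl rfl
theorem rel172 : allFrom (chkRelF cfg relsL) (nat_lit 1633) (nat_lit 280876) = true := join rel172c6 rel172x7 rfl rfl

end Cfsg.Agent.Lib.Compute.TC.Fi24a
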