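-- Certificate checks for Fi24a.
import Cfsg.Agent.Lib.Compute.TC.Fi24a.Data
import Cfsg.Agent.Lib.Compute.TCSplit
set_option autoImplicit false
set_option Elab.async false
set_option maxRecDepth 1000000

open Cfsg.Agent.Lib.Compute.ToddCoxeterCore Cfsg.Agent.Lib.Compute.ToddCoxeterPresented Cfsg.Agent.Lib.Compute.TCFast

open Cfsg.Agent.Lib.Compute.TCSplit

namespace Cfsg.Agent.Lib.Compute.TC.Fi24a

theorem rel173x0 : allFrom (chkRelF cfg relsL) (nat_lit 205) (nat_lit 282509) = true := by decide +kernel
theorem rel173x1 : allFrom (chkRelF cfg relsL) (nat_lit 204) (nat_lit 282714) = true := by decide +kernel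
theorem rel173x2 : allFrom (chkRelF cfg relsL) (nat_lit 204) (nat_lit 282918) = true := by decide +kernel
theorem rel173x3 : allFrom (chkRelF cfg relsL) (nat_lit 204) (nat_lit 283122) = true := by decide +kernel
theorem rel173x4 : allFrom (chkRelF cfg relsL) (nat_lit 204) (nat_lit 283326) = true := by decide +kernel
theorem rel173x5 : allFrom (chkRelF cfg relsL) (nat_lit 204) (nat_lit 283530) = true := by decide +kernel
theorem rel173x6 : allFrom (chkRelF cfg relsL) (nat_lit 204) (nat_lit 283734) = true := by decide +kernel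
theorem rel173x7 : allFrom (chkRelF cfg relsL) (nat_lit 204) (nat_lit 283938) = true := by decide +kernel
theorem rel173c1 : allFrom (chkRelF cfg relsL) (nat_lit 409) (nat_lit 282509) = true := join rel173x0 rel173x1 rfl rfl
theorem rel173c2 : allFrom (chkRelF cfg relsL) (nat_lit 613) (nat_lit 282509) = true := join rel173c1 rel173x2 rfl rfl
theorem rel173c3 : allFrom (chkRelF cfg relsL) (nat_lit 817) (nat_lit 282509) = true := join rel173c2 rel173x3 rfl rfl
theorem rel173c4 : allFrom (chkRelF cfg relsL) (nat_lit 1021) (nat_lit 282509) = true := join rel173c3 rel173x4 rfl rfl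
theorem rel173c5 : allFrom (chkRelF cfg relsL) (nat_lit 1225) (nat_lit 282509) = true := join rel173c4 rel173x5 rfl rfl
theorem rel173c6 : allFrom (chkRelF cfg relsL) (nat_lit 1429) (nat_lit 282509) = true := join rel173c5 rel173x6 rfl rfl
theorem rel173 : allFrom (chkRelF cfg relsL) (nat_lit 1633) (nat_lit 282509) = true := join rel173c6 rel173x7 rfl rfl

end Cfsg.Agent.Lib.Compute.TC.Fi24a
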