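-- Certificate checks for Fi24a.
import Cfsg.Agent.Lib.Compute.TC.Fi24a.Data
import Cfsg.Agent.Lib.Compute.TCSplit
set_option autoImplicit false
set_option Elab.async false
set_option maxRecDepth 1000000

open Cfsg.Agent.Lib.Compute.ToddCoxeterCore Cfsg.Agent.Lib.Compute.ToddCoxeterPresented Cfsg.Agent.Lib.Compute.TCFast

open Cfsg.Agent.Lib.Compute.TCSplit

namespace Cfsg.Agent.Lib.Compute.TC.Fi24a

theorem rel174x0 : allFrom (chkRelF cfg relsL) (nat_lit 205) (nat_lit 284142) = true := by decide +kernel
theorem rel174x1 : allFrom (chkRelF cfg relsL) (nat_lit 204) (nat_lit 284347) = true := by decide +kernel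
theorem rel174x2 : allFrom (chkRelF cfg relsL) (nat_lit 204) (nat_lit 284551) = true := by decide +kernel
theorem rel174x3 : allFrom (chkRelF cfg relsL) (nat_lit 204) (nat_lit 284755) = true := by decide +kernel
theorem rel174x4 : allFrom (chkRelF cfg relsL) (nat_lit 204) (nat_lit 284959) = true := by decide +kernel
theorem rel174x5 : allFrom (chkRelF cfg relsL) (nat_lit 204) (nat_lit 285163) = true := by decide +kernel
theorem rel174x6 : allFrom (chkRelF cfg relsL) (nat_lit 204) (nat_lit 285367) = true := by decide +kernel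
theorem rel174x7 : allFrom (chkRelF cfg relsL) (nat_lit 204) (nat_lit 285571) = true := by decide +kernel
theorem rel174c1 : allFrom (chkRelF cfg relsL) (nat_lit 409) (nat_lit 284142) = true := join rel174x0 rel174x1 rfl rfl
theorem rel174c2 : allFrom (chkRelF cfg relsL) (nat_lit 613) (nat_lit 284142) = true := join rel174c1 rel174x2 rfl rfl
theorem rel174c3 : allFrom (chkRelF cfg relsL) (nat_lit 817) (nat_lit 284142) = true := join rel174c2 rel174x3 rfl rfl
theorem rel174c4 : allFrom (chkRelF cfg relsL) (nat_lit 1021) (nat_lit 284142) = true := join rel174c3 rel174x4 rfl rfl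
theorem rel174c5 : allFrom (chkRelF cfg relsL) (nat_lit 1225) (nat_lit 284142) = true := join rel174c4 rel174x5 rfl rfl
theorem rel174c6 : allFrom (chkRelF cfg relsL) (nat_lit 1429) (nat_lit 284142) = true := join rel174c5 rel174x6 rfl rfl
theorem rel174 : allFrom (chkRelF cfg relsL) (nat_lit 1633) (nat_lit 284142) = true := join rel174c6 rel174x7 rfl rfl

end Cfsg.Agent.Lib.Compute.TC.Fi24a
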