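-- Certificate checks for Fi24a.
import Cfsg.Agent.Lib.Compute.TC.Fi24a.Data
import Cfsg.Agent.Lib.Compute.TCSplit
set_option autoImplicit false
set_option Elab.async false
set_option maxRecDepth 1000000

open Cfsg.Agent.Lib.Compute.ToddCoxeterCore Cfsg.Agent.Lib.Compute.ToddCoxeterPresented Cfsg.Agent.Lib.Compute.TCFast

open Cfsg.Agent.Lib.Compute.TCSplit

namespace Cfsg.Agent.Lib.Compute.TC.Fi24a

theorem rel176x0 : allFrom (chkRelF cfg relsL) (nat_lit 205) (nat_lit 287408) = true := by decide +kernel
theorem rel176x1 : allFrom (chkRelF cfg relsL) (nat_lit 204) (nat_lit 287613) = true := by decide +kernel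
theorem rel176x2 : allFrom (chkRelF cfg relsL) (nat_lit 204) (nat_lit 287817) = true := by decide +kernel
theorem rel176x3 : allFrom (chkRelF cfg relsL) (nat_lit 204) (nat_lit 288021) = true := by decide +kernel
theorem rel176x4 : allFrom (chkRelF cfg relsL) (nat_lit 204) (nat_lit 288225) = true := by decide +kernel
theorem rel176x5 : allFrom (chkRelF cfg relsL) (nat_lit 204) (nat_lit 288429) = true := by decide +kernel
theorem rel176x6 : allFrom (chkRelF cfg relsL) (nat_lit 204) (nat_lit 288633) = true := by decide +kernel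
theorem rel176x7 : allFrom (chkRelF cfg relsL) (nat_lit 204) (nat_lit 288837) = true := by decide +kernel
theorem rel176c1 : allFrom (chkRelF cfg relsL) (nat_lit 409) (nat_lit 287408) = true := join rel176x0 rel176x1 rfl rfl
theorem rel176c2 : allFrom (chkRelF cfg relsL) (nat_lit 613) (nat_lit 287408) = true := join rel176c1 rel176x2 rfl rfl
theorem rel176c3 : allFrom (chkRelF cfg relsL) (nat_lit 817) (nat_lit 287408) = true := join rel176c2 rel176x3 rfl rfl
theorem rel176c4 : allFrom (chkRelF cfg relsL) (nat_lit 1021) (nat_lit 287408) = true := join rel176c3 rel176x4 rfl rfl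
theorem rel176c5 : allFrom (chkRelF cfg relsL) (nat_lit 1225) (nat_lit 287408) = true := join rel176c4 rel176x5 rfl rfl
theorem rel176c6 : allFrom (chkRelF cfg relsL) (nat_lit 1429) (nat_lit 287408) = true := join rel176c5 rel176x6 rfl rfl
theorem rel176 : allFrom (chkRelF cfg relsL) (nat_lit 1633) (nat_lit 287408) = true := join rel176c6 rel176x7 rfl rfl

end Cfsg.Agent.Lib.Compute.TC.Fi24a
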