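-- Certificate checks for Fi24a.
import Cfsg.Agent.Lib.Compute.TC.Fi24a.Data
import Cfsg.Agent.Lib.Compute.TCSplit
set_option autoImplicit false
set_option Elab.async false
set_option maxRecDepth 1000000

open Cfsg.Agent.Lib.Compute.ToddCoxeterCore Cfsg.Agent.Lib.Compute.ToddCoxeterPresented Cfsg.Agent.Lib.Compute.TCFast

open Cfsg.Agent.Lib.Compute.TCSplit

namespace Cfsg.Agent.Lib.Compute.TC.Fi24a

theorem rel177x0 : allFrom (chkRelF cfg relsL) (nat_lit 205) (nat_lit 289041) = true := by decide +kernel
theorem rel177x1 : allFrom (chkRelF cfg relsL) (nat_lit 204) (nat_lit 289246) = true := by decide +kernel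
theorem rel177x2 : allFrom (chkRelF cfg relsL) (nat_lit 204) (nat_lit 289450) = true := by decide +kernel
theorem rel177x3 : allFrom (chkRelF cfg relsL) (nat_lit 204) (nat_lit 289654) = true := by decide +kernel
theorem rel177x4 : allFrom (chkRelF cfg relsL) (nat_lit 204) (nat_lit 289858) = true := by decide +kernel
theorem rel177x5 : allFrom (chkRelF cfg relsL) (nat_lit 204) (nat_lit 290062) = true := by decide +kernel
theorem rel177x6 : allFrom (chkRelF cfg relsL) (nat_lit 204) (nat_lit 290266) = true := by decide +kernel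
theorem rel177x7 : allFrom (chkRelF cfg relsL) (nat_lit 204) (nat_lit 290470) = true := by decide +kernel
theorem rel177c1 : allFrom (chkRelF cfg relsL) (nat_lit 409) (nat_lit 289041) = true := join rel177x0 rel177x1 rfl rfl
theorem rel177c2 : allFrom (chkRelF cfg relsL) (nat_lit 613) (nat_lit 289041) = true := join rel177c1 rel177x2 rfl rfl
theorem rel177c3 : allFrom (chkRelF cfg relsL) (nat_lit 817) (nat_lit 289041) = true := join rel177c2 rel177x3 rfl rfl
theorem rel177c4 : allFrom (chkRelF cfg relsL) (nat_lit 1021) (nat_lit 289041) = true := join rel177c3 rel177x4 rfl rfl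
theorem rel177c5 : allFrom (chkRelF cfg relsL) (nat_lit 1225) (nat_lit 289041) = true := join rel177c4 rel177x5 rfl rfl
theorem rel177c6 : allFrom (chkRelF cfg relsL) (nat_lit 1429) (nat_lit 289041) = true := join rel177c5 rel177x6 rfl rfl
theorem rel177 : allFrom (chkRelF cfg relsL) (nat_lit 1633) (nat_lit 289041) = true := join rel177c6 rel177x7 rfl rfl

end Cfsg.Agent.Lib.Compute.TC.Fi24a
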