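-- Certificate checks for Fi24a.
import Cfsg.Agent.Lib.Compute.TC.Fi24a.Data
import Cfsg.Agent.Lib.Compute.TCSplit
set_option autoImplicit false
set_option Elab.async false
set_option maxRecDepth 1000000

open Cfsg.Agent.Lib.Compute.ToddCoxeterCore Cfsg.Agent.Lib.Compute.ToddCoxeterPresented Cfsg.Agent.Lib.Compute.TCFast

open Cfsg.Agent.Lib.Compute.TCSplit

namespace Cfsg.Agent.Lib.Compute.TC.Fi24a

theorem rel178x0 : allFrom (chkRelF cfg relsL) (nat_lit 205) (nat_lit 290674) = true := by decide +kernel
theorem rel178x1 : allFrom (chkRelF cfg relsL) (nat_lit 204) (nat_lit 290879) = true := by decide +kernel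
theorem rel178x2 : allFrom (chkRelF cfg relsL) (nat_lit 204) (nat_lit 291083) = true := by decide +kernel
theorem rel178x3 : allFrom (chkRelF cfg relsL) (nat_lit 204) (nat_lit 291287) = true := by decide +kernel
theorem rel178x4 : allFrom (chkRelF cfg relsL) (nat_lit 204) (nat_lit 291491) = true := by decide +kernel
theorem rel178x5 : allFrom (chkRelF cfg relsL) (nat_lit 204) (nat_lit 291695) = true := by decide +kernel
theorem rel178x6 : allFrom (chkRelF cfg relsL) (nat_lit 204) (nat_lit 291899) = true := by decide +kernel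
theorem rel178x7 : allFrom (chkRelF cfg relsL) (nat_lit 204) (nat_lit 292103) = true := by decide +kernel
theorem rel178c1 : allFrom (chkRelF cfg relsL) (nat_lit 409) (nat_lit 290674) = true := join rel178x0 rel178x1 rfl rfl
theorem rel178c2 : allFrom (chkRelF cfg relsL) (nat_lit 613) (nat_lit 290674) = true := join rel178c1 rel178x2 rfl rfl
theorem rel178c3 : allFrom (chkRelF cfg relsL) (nat_lit 817) (nat_lit 290674) = true := join rel178c2 rel178x3 rfl rfl
theorem rel178c4 : allFrom (chkRelF cfg relsL) (nat_lit 1021) (nat_lit 290674) = true := join rel178c3 rel178x4 rfl rfl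
theorem rel178c5 : allFrom (chkRelF cfg relsL) (nat_lit 1225) (nat_lit 290674) = true := join rel178c4 rel178x5 rfl rfl
theorem rel178c6 : allFrom (chkRelF cfg relsL) (nat_lit 1429) (nat_lit 290674) = true := join rel178c5 rel178x6 rfl rfl
theorem rel178 : allFrom (chkRelF cfg relsL) (nat_lit 1633) (nat_lit 290674) = true := join rel178c6 rel178x7 rfl rfl

end Cfsg.Agent.Lib.Compute.TC.Fi24a
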