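-- Certificate checks for Fi24a.
import Cfsg.Agent.Lib.Compute.TC.Fi24a.Data
import Cfsg.Agent.Lib.Compute.TCSplit
set_option autoImplicit false
set_option Elab.async false
set_option maxRecDepth 1000000

open Cfsg.Agent.Lib.Compute.ToddCoxeterCore Cfsg.Agent.Lib.Compute.ToddCoxeterPresented Cfsg.Agent.Lib.Compute.TCFast

open Cfsg.Agent.Lib.Compute.TCSplit

namespace Cfsg.Agent.Lib.Compute.TC.Fi24a

theorem rel179x0 : allFrom (chkRelF cfg relsL) (nat_lit 205) (nat_lit 292307) = true := by decide +kernel
theorem rel179x1 : allFrom (chkRelF cfg relsL) (nat_lit 204) (nat_lit 292512) = true := by decide +kernel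
theorem rel179x2 : allFrom (chkRelF cfg relsL) (nat_lit 204) (nat_lit 292716) = true := by decide +kernel
theorem rel179x3 : allFrom (chkRelF cfg relsL) (nat_lit 204) (nat_lit 292920) = true := by decide +kernel
theorem rel179x4 : allFrom (chkRelF cfg relsL) (nat_lit 204) (nat_lit 293124) = true := by decide +kernel
theorem rel179x5 : allFrom (chkRelF cfg relsL) (nat_lit 204) (nat_lit 293328) = true := by decide +kernel
theorem rel179x6 : allFrom (chkRelF cfg relsL) (nat_lit 204) (nat_lit 293532) = true := by decide +kernel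
theorem rel179x7 : allFrom (chkRelF cfg relsL) (nat_lit 204) (nat_lit 293736) = true := by decide +kernel
theorem rel179c1 : allFrom (chkRelF cfg relsL) (nat_lit 409) (nat_lit 292307) = true := join rel179x0 rel179x1 rfl rfl
theorem rel179c2 : allFrom (chkRelF cfg relsL) (nat_lit 613) (nat_lit 292307) = true := join rel179c1 rel179x2 rfl rfl
theorem rel179c3 : allFrom (chkRelF cfg relsL) (nat_lit 817) (nat_lit 292307) = true := join rel179c2 rel179x3 rfl rfl
theorem rel179c4 : allFrom (chkRelF cfg relsL) (nat_lit 1021) (nat_lit 292307) = true := join rel179c3 rel179x4 rfl rfl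
theorem rel179c5 : allFrom (chkRelF cfg relsL) (nat_lit 1225) (nat_lit 292307) = true := join rel179c4 rel179x5 rfl rfl
theorem rel179c6 : allFrom (chkRelF cfg relsL) (nat_lit 1429) (nat_lit 292307) = true := join rel179c5 rel179x6 rfl rfl
theorem rel179 : allFrom (chkRelF cfg relsL) (nat_lit 1633) (nat_lit 292307) = true := join rel179c6 rel179x7 rfl rfl

end Cfsg.Agent.Lib.Compute.TC.Fi24a
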