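-- Certificate checks for Fi24a.
import Cfsg.Agent.Lib.Compute.TC.Fi24a.Data
import Cfsg.Agent.Lib.Compute.TCSplit
set_option autoImplicit false
set_option Elab.async false
set_option maxRecDepth 1000000

open Cfsg.Agent.Lib.Compute.ToddCoxeterCore Cfsg.Agent.Lib.Compute.ToddCoxeterPresented Cfsg.Agent.Lib.Compute.TCFast

open Cfsg.Agent.Lib.Compute.TCSplit

namespace Cfsg.Agent.Lib.Compute.TC.Fi24a

theorem rel18x0 : allFrom (chkRelF cfg relsL) (nat_lit 205) (nat_lit 29394) = true := by decide +kernel
theorem rel18x1 : allFrom (chkRelF cfg relsL) (nat_lit 204) (nat_lit 29599) = true := by decide +kernel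
theorem rel18x2 : allFrom (chkRelF cfg relsL) (nat_lit 204) (nat_lit 29803) = true := by decide +kernel
theorem rel18x3 : allFrom (chkRelF cfg relsL) (nat_lit 204) (nat_lit 30007) = true := by decide +kernel
theorem rel18x4 : allFrom (chkRelF cfg relsL) (nat_lit 204) (nat_lit 30211) = true := by decide +kernel
theorem rel18x5 : allFrom (chkRelF cfg relsL) (nat_lit 204) (nat_lit 30415) = true := by decide +kernel
theorem rel18x6 : allFrom (chkRelF cfg relsL) (nat_lit 204) (nat_lit 30619) = true := by decide +kernel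
theorem rel18x7 : allFrom (chkRelF cfg relsL) (nat_lit 204) (nat_lit 30823) = true := by decide +kernel
theorem rel18c1 : allFrom (chkRelF cfg relsL) (nat_lit 409) (nat_lit 29394) = true := join rel18x0 rel18x1 rfl rfl
theorem rel18c2 : allFrom (chkRelF cfg relsL) (nat_lit 613) (nat_lit 29394) = true := join rel18c1 rel18x2 rfl rfl
theorem rel18c3 : allFrom (chkRelF cfg relsL) (nat_lit 817) (nat_lit 29394) = true := join rel18c2 rel18x3 rfl rfl
theorem rel18c4 : allFrom (chkRelF cfg relsL) (nat_lit 1021) (nat_lit 29394) = true := join rel18c3 rel18x4 rfl rfl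
theorem rel18c5 : allFrom (chkRelF cfg relsL) (nat_lit 1225) (nat_lit 29394) = true := join rel18c4 rel18x5 rfl rfl
theorem rel18c6 : allFrom (chkRelF cfg relsL) (nat_lit 1429) (nat_lit 29394) = true := join rel18c5 rel18x6 rfl rfl
theorem rel18 : allFrom (chkRelF cfg relsL) (nat_lit 1633) (nat_lit 29394) = true := join rel18c6 rel18x7 rfl rfl

end Cfsg.Agent.Lib.Compute.TC.Fi24a
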