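-- Certificate checks for Fi24a.
import Cfsg.Agent.Lib.Compute.TC.Fi24a.Data
import Cfsg.Agent.Lib.Compute.TCSplit
set_option autoImplicit false
set_option Elab.async false
set_option maxRecDepth 1000000

open Cfsg.Agent.Lib.Compute.ToddCoxeterCore Cfsg.Agent.Lib.Compute.ToddCoxeterPresented Cfsg.Agent.Lib.Compute.TCFast

open Cfsg.Agent.Lib.Compute.TCSplit

namespace Cfsg.Agent.Lib.Compute.TC.Fi24a

theorem rel180x0 : allFrom (chkRelF cfg relsL) (nat_lit 205) (nat_lit 293940) = true := by decide +kernel
theorem rel180x1 : allFrom (chkRelF cfg relsL) (nat_lit 204) (nat_lit 294145) = true := by decide +kernel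
theorem rel180x2 : allFrom (chkRelF cfg relsL) (nat_lit 204) (nat_lit 294349) = true := by decide +kernel
theorem rel180x3 : allFrom (chkRelF cfg relsL) (nat_lit 204) (nat_lit 294553) = true := by decide +kernel
theorem rel180x4 : allFrom (chkRelF cfg relsL) (nat_lit 204) (nat_lit 294757) = true := by decide +kernel
theorem rel180x5 : allFrom (chkRelF cfg relsL) (nat_lit 204) (nat_lit 294961) = true := by decide +kernel
theorem rel180x6 : allFrom (chkRelF cfg relsL) (nat_lit 204) (nat_lit 295165) = true := by decide +kernel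
theorem rel180x7 : allFrom (chkRelF cfg relsL) (nat_lit 204) (nat_lit 295369) = true := by decide +kernel
theorem rel180c1 : allFrom (chkRelF cfg relsL) (nat_lit 409) (nat_lit 293940) = true := join rel180x0 rel180x1 rfl rfl
theorem rel180c2 : allFrom (chkRelF cfg relsL) (nat_lit 613) (nat_lit 293940) = true := join rel180c1 rel180x2 rfl rfl
theorem rel180c3 : allFrom (chkRelF cfg relsL) (nat_lit 817) (nat_lit 293940) = true := join rel180c2 rel180x3 rfl rfl
theorem rel180c4 : allFrom (chkRelF cfg relsL) (nat_lit 1021) (nat_lit 293940) = true := join rel180c3 rel180x4 rfl rfl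
theorem rel180c5 : allFrom (chkRelF cfg relsL) (nat_lit 1225) (nat_lit 293940) = true := join rel180c4 rel180x5 rfl rfl
theorem rel180c6 : allFrom (chkRelF cfg relsL) (nat_lit 1429) (nat_lit 293940) = true := join rel180c5 rel180x6 rfl rfl
theorem rel180 : allFrom (chkRelF cfg relsL) (nat_lit 1633) (nat_lit 293940) = true := join rel180c6 rel180x7 rfl rfl

end Cfsg.Agent.Lib.Compute.TC.Fi24a
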