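-- Certificate checks for Fi24a.
import Cfsg.Agent.Lib.Compute.TC.Fi24a.Data
import Cfsg.Agent.Lib.Compute.TCSplit
set_option autoImplicit false
set_option Elab.async false
set_option maxRecDepth 1000000

open Cfsg.Agent.Lib.Compute.ToddCoxeterCore Cfsg.Agent.Lib.Compute.ToddCoxeterPresented Cfsg.Agent.Lib.Compute.TCFast

open Cfsg.Agent.Lib.Compute.TCSplit

namespace Cfsg.Agent.Lib.Compute.TC.Fi24a

theorem rel181x0 : allFrom (chkRelF cfg relsL) (nat_lit 205) (nat_lit 295573) = true := by decide +kernel
theorem rel181x1 : allFrom (chkRelF cfg relsL) (nat_lit 204) (nat_lit 295778) = true := by decide +kernel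
theorem rel181x2 : allFrom (chkRelF cfg relsL) (nat_lit 204) (nat_lit 295982) = true := by decide +kernel
theorem rel181x3 : allFrom (chkRelF cfg relsL) (nat_lit 204) (nat_lit 296186) = true := by decide +kernel
theorem rel181x4 : allFrom (chkRelF cfg relsL) (nat_lit 204) (nat_lit 296390) = true := by decide +kernel
theorem rel181x5 : allFrom (chkRelF cfg relsL) (nat_lit 204) (nat_lit 296594) = true := by decide +kernel
theorem rel181x6 : allFrom (chkRelF cfg relsL) (nat_lit 204) (nat_lit 296798) = true := by decide +kernel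
theorem rel181x7 : allFrom (chkRelF cfg relsL) (nat_lit 204) (nat_lit 297002) = true := by decide +kernel
theorem rel181c1 : allFrom (chkRelF cfg relsL) (nat_lit 409) (nat_lit 295573) = true := join rel181x0 rel181x1 rfl rfl
theorem rel181c2 : allFrom (chkRelF cfg relsL) (nat_lit 613) (nat_lit 295573) = true := join rel181c1 rel181x2 rfl rfl
theorem rel181c3 : allFrom (chkRelF cfg relsL) (nat_lit 817) (nat_lit 295573) = true := join rel181c2 rel181x3 rfl rfl
theorem rel181c4 : allFrom (chkRelF cfg relsL) (nat_lit 1021) (nat_lit 295573) = true := join rel181c3 rel181x4 rfl rfl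
theorem rel181c5 : allFrom (chkRelF cfg relsL) (nat_lit 1225) (nat_lit 295573) = true := join rel181c4 rel181x5 rfl rfl
theorem rel181c6 : allFrom (chkRelF cfg relsL) (nat_lit 1429) (nat_lit 295573) = true := join rel181c5 rel181x6 rfl rfl
theorem rel181 : allFrom (chkRelF cfg relsL) (nat_lit 1633) (nat_lit 295573) = true := join rel181c6 rel181x7 rfl rfl

end Cfsg.Agent.Lib.Compute.TC.Fi24a
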