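-- Certificate checks for Fi24a.
import Cfsg.Agent.Lib.Compute.TC.Fi24a.Data
import Cfsg.Agent.Lib.Compute.TCSplit
set_option autoImplicit false
set_option Elab.async false
set_option maxRecDepth 1000000

open Cfsg.Agent.Lib.Compute.ToddCoxeterCore Cfsg.Agent.Lib.Compute.ToddCoxeterPresented Cfsg.Agent.Lib.Compute.TCFast

open Cfsg.Agent.Lib.Compute.TCSplit

namespace Cfsg.Agent.Lib.Compute.TC.Fi24a

theorem rel182x0 : allFrom (chkRelF cfg relsL) (nat_lit 205) (nat_lit 297206) = true := by decide +kernel
theorem rel182x1 : allFrom (chkRelF cfg relsL) (nat_lit 204) (nat_lit 297411) = true := by decide +kernel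
theorem rel182x2 : allFrom (chkRelF cfg relsL) (nat_lit 204) (nat_lit 297615) = true := by decide +kernel
theorem rel182x3 : allFrom (chkRelF cfg relsL) (nat_lit 204) (nat_lit 297819) = true := by decide +kernel
theorem rel182x4 : allFrom (chkRelF cfg relsL) (nat_lit 204) (nat_lit 298023) = true := by decide +kernel
theorem rel182x5 : allFrom (chkRelF cfg relsL) (nat_lit 204) (nat_lit 298227) = true := by decide +kernel
theorem rel182x6 : allFrom (chkRelF cfg relsL) (nat_lit 204) (nat_lit 298431) = true := by decide +kernel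
theorem rel182x7 : allFrom (chkRelF cfg relsL) (nat_lit 204) (nat_lit 298635) = true := by decide +kernel
theorem rel182c1 : allFrom (chkRelF cfg relsL) (nat_lit 409) (nat_lit 297206) = true := join rel182x0 rel182x1 rfl rfl
theorem rel182c2 : allFrom (chkRelF cfg relsL) (nat_lit 613) (nat_lit 297206) = true := join rel182c1 rel182x2 rfl rfl
theorem rel182c3 : allFrom (chkRelF cfg relsL) (nat_lit 817) (nat_lit 297206) = true := join rel182c2 rel182x3 rfl rfl
theorem rel182c4 : allFrom (chkRelF cfg relsL) (nat_lit 1021) (nat_lit 297206) = true := join rel182c3 rel182x4 rfl rfl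
theorem rel182c5 : allFrom (chkRelF cfg relsL) (nat_lit 1225) (nat_lit 297206) = true := join rel182c4 rel182x5 rfl rfl
theorem rel182c6 : allFrom (chkRelF cfg relsL) (nat_lit 1429) (nat_lit 297206) = true := join rel182c5 rel182x6 rfl rfl
theorem rel182 : allFrom (chkRelF cfg relsL) (nat_lit 1633) (nat_lit 297206) = true := join rel182c6 rel182x7 rfl rfl

end Cfsg.Agent.Lib.Compute.TC.Fi24a
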