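-- Certificate checks for Fi24a.
import Cfsg.Agent.Lib.Compute.TC.Fi24a.Data
import Cfsg.Agent.Lib.Compute.TCSplit
set_option autoImplicit false
set_option Elab.async false
set_option maxRecDepth 1000000

open Cfsg.Agent.Lib.Compute.ToddCoxeterCore Cfsg.Agent.Lib.Compute.ToddCoxeterPresented Cfsg.Agent.Lib.Compute.TCFast

open Cfsg.Agent.Lib.Compute.TCSplit

namespace Cfsg.Agent.Lib.Compute.TC.Fi24a

theorem rel183x0 : allFrom (chkRelF cfg relsL) (nat_lit 205) (nat_lit 298839) = true := by decide +kernel
theorem rel183x1 : allFrom (chkRelF cfg relsL) (nat_lit 204) (nat_lit 299044) = true := by decide +kernel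
theorem rel183x2 : allFrom (chkRelF cfg relsL) (nat_lit 204) (nat_lit 299248) = true := by decide +kernel
theorem rel183x3 : allFrom (chkRelF cfg relsL) (nat_lit 204) (nat_lit 299452) = true := by decide +kernel
theorem rel183x4 : allFrom (chkRelF cfg relsL) (nat_lit 204) (nat_lit 299656) = true := by decide +kernel
theorem rel183x5 : allFrom (chkRelF cfg relsL) (nat_lit 204) (nat_lit 299860) = true := by decide +kernel
theorem rel183x6 : allFrom (chkRelF cfg relsL) (nat_lit 204) (nat_lit 300064) = true := by decide +kernel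
theorem rel183x7 : allFrom (chkRelF cfg relsL) (nat_lit 204) (nat_lit 300268) = true := by decide +kernel
theorem rel183c1 : allFrom (chkRelF cfg relsL) (nat_lit 409) (nat_lit 298839) = true := join rel183x0 rel183x1 rfl rfl
theorem rel183c2 : allFrom (chkRelF cfg relsL) (nat_lit 613) (nat_lit 298839) = true := join rel183c1 rel183x2 rfl rfl
theorem rel183c3 : allFrom (chkRelF cfg relsL) (nat_lit 817) (nat_lit 298839) = true := join rel183c2 rel183x3 rfl rfl
theorem rel183c4 : allFrom (chkRelF cfg relsL) (nat_lit 1021) (nat_lit 298839) = true := join rel183c3 rel183x4 rfl rfl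
theorem rel183c5 : allFrom (chkRelF cfg relsL) (nat_lit 1225) (nat_lit 298839) = true := join rel183c4 rel183x5 rfl rfl
theorem rel183c6 : allFrom (chkRelF cfg relsL) (nat_lit 1429) (nat_lit 298839) = true := join rel183c5 rel183x6 rfl rfl
theorem rel183 : allFrom (chkRelF cfg relsL) (nat_lit 1633) (nat_lit 298839) = true := join rel183c6 rel183x7 rfl rfl

end Cfsg.Agent.Lib.Compute.TC.Fi24a
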