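-- Certificate checks for Fi24a.
import Cfsg.Agent.Lib.Compute.TC.Fi24a.Data
import Cfsg.Agent.Lib.Compute.TCSplit
set_option autoImplicit false
set_option Elab.async false
set_option maxRecDepth 1000000

open Cfsg.Agent.Lib.Compute.ToddCoxeterCore Cfsg.Agent.Lib.Compute.ToddCoxeterPresented Cfsg.Agent.Lib.Compute.TCFast

open Cfsg.Agent.Lib.Compute.TCSplit

namespace Cfsg.Agent.Lib.Compute.TC.Fi24a

theorem rel184x0 : allFrom (chkRelF cfg relsL) (nat_lit 205) (nat_lit 300472) = true := by decide +kernel
theorem rel184x1 : allFrom (chkRelF cfg relsL) (nat_lit 204) (nat_lit 300677) = true := by decide +kernel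
theorem rel184x2 : allFrom (chkRelF cfg relsL) (nat_lit 204) (nat_lit 300881) = true := by decide +kernel
theorem rel184x3 : allFrom (chkRelF cfg relsL) (nat_lit 204) (nat_lit 301085) = true := by decide +kernel
theorem rel184x4 : allFrom (chkRelF cfg relsL) (nat_lit 204) (nat_lit 301289) = true := by decide +kernel
theorem rel184x5 : allFrom (chkRelF cfg relsL) (nat_lit 204) (nat_lit 301493) = true := by decide +kernel
theorem rel184x6 : allFrom (chkRelF cfg relsL) (nat_lit 204) (nat_lit 301697) = true := by decide +kernel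
theorem rel184x7 : allFrom (chkRelF cfg relsL) (nat_lit 204) (nat_lit 301901) = true := by decide +kernel
theorem rel184c1 : allFrom (chkRelF cfg relsL) (nat_lit 409) (nat_lit 300472) = true := join rel184x0 rel184x1 rfl rfl
theorem rel184c2 : allFrom (chkRelF cfg relsL) (nat_lit 613) (nat_lit 300472) = true := join rel184c1 rel184x2 rfl rfl
theorem rel184c3 : allFrom (chkRelF cfg relsL) (nat_lit 817) (nat_lit 300472) = true := join rel184c2 rel184x3 rfl rfl
theorem rel184c4 : allFrom (chkRelF cfg relsL) (nat_lit 1021) (nat_lit 300472) = true := join rel184c3 rel184x4 rfl rfl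
theorem rel184c5 : allFrom (chkRelF cfg relsL) (nat_lit 1225) (nat_lit 300472) = true := join rel184c4 rel184x5 rfl rfl
theorem rel184c6 : allFrom (chkRelF cfg relsL) (nat_lit 1429) (nat_lit 300472) = true := join rel184c5 rel184x6 rfl rfl
theorem rel184 : allFrom (chkRelF cfg relsL) (nat_lit 1633) (nat_lit 300472) = true := join rel184c6 rel184x7 rfl rfl

end Cfsg.Agent.Lib.Compute.TC.Fi24a
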