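-- Certificate checks for Fi24a.
import Cfsg.Agent.Lib.Compute.TC.Fi24a.Data
import Cfsg.Agent.Lib.Compute.TCSplit
set_option autoImplicit false
set_option Elab.async false
set_option maxRecDepth 1000000

open Cfsg.Agent.Lib.Compute.ToddCoxeterCore Cfsg.Agent.Lib.Compute.ToddCoxeterPresented Cfsg.Agent.Lib.Compute.TCFast

open Cfsg.Agent.Lib.Compute.TCSplit

namespace Cfsg.Agent.Lib.Compute.TC.Fi24a

theorem rel185x0 : allFrom (chkRelF cfg relsL) (nat_lit 205) (nat_lit 302105) = true := by decide +kernel
theorem rel185x1 : allFrom (chkRelF cfg relsL) (nat_lit 204) (nat_lit 302310) = true := by decide +kernel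
theorem rel185x2 : allFrom (chkRelF cfg relsL) (nat_lit 204) (nat_lit 302514) = true := by decide +kernel
theorem rel185x3 : allFrom (chkRelF cfg relsL) (nat_lit 204) (nat_lit 302718) = true := by decide +kernel
theorem rel185x4 : allFrom (chkRelF cfg relsL) (nat_lit 204) (nat_lit 302922) = true := by decide +kernel
theorem rel185x5 : allFrom (chkRelF cfg relsL) (nat_lit 204) (nat_lit 303126) = true := by decide +kernel
theorem rel185x6 : allFrom (chkRelF cfg relsL) (nat_lit 204) (nat_lit 303330) = true := by decide +kernel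
theorem rel185x7 : allFrom (chkRelF cfg relsL) (nat_lit 204) (nat_lit 303534) = true := by decide +kernel
theorem rel185c1 : allFrom (chkRelF cfg relsL) (nat_lit 409) (nat_lit 302105) = true := join rel185x0 rel185x1 rfl rfl
theorem rel185c2 : allFrom (chkRelF cfg relsL) (nat_lit 613) (nat_lit 302105) = true := join rel185c1 rel185x2 rfl rfl
theorem rel185c3 : allFrom (chkRelF cfg relsL) (nat_lit 817) (nat_lit 302105) = true := join rel185c2 rel185x3 rfl rfl
theorem rel185c4 : allFrom (chkRelF cfg relsL) (nat_lit 1021) (nat_lit 302105) = true := join rel185c3 rel185x4 rfl rfl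
theorem rel185c5 : allFrom (chkRelF cfg relsL) (nat_lit 1225) (nat_lit 302105) = true := join rel185c4 rel185x5 rfl rfl
theorem rel185c6 : allFrom (chkRelF cfg relsL) (nat_lit 1429) (nat_lit 302105) = true := join rel185c5 rel185x6 rfl rfl
theorem rel185 : allFrom (chkRelF cfg relsL) (nat_lit 1633) (nat_lit 302105) = true := join rel185c6 rel185x7 rfl rfl

end Cfsg.Agent.Lib.Compute.TC.Fi24a
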