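-- Certificate checks for Fi24a.
import Cfsg.Agent.Lib.Compute.TC.Fi24a.Data
import Cfsg.Agent.Lib.Compute.TCSplit
set_option autoImplicit false
set_option Elab.async false
set_option maxRecDepth 1000000

open Cfsg.Agent.Lib.Compute.ToddCoxeterCore Cfsg.Agent.Lib.Compute.ToddCoxeterPresented Cfsg.Agent.Lib.Compute.TCFast

open Cfsg.Agent.Lib.Compute.TCSplit

namespace Cfsg.Agent.Lib.Compute.TC.Fi24a

theorem rel187x0 : allFrom (chkRelF cfg relsL) (nat_lit 196) (nat_lit 305371) = true := by decide +kernel
theorem rel187x1 : allFrom (chkRelF cfg relsL) (nat_lit 196) (nat_lit 305567) = true := by decide +kernel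
theorem rel187x2 : allFrom (chkRelF cfg relsL) (nat_lit 196) (nat_lit 305763) = true := by decide +kernel
theorem rel187x3 : allFrom (chkRelF cfg relsL) (nat_lit 196) (nat_lit 305959) = true := by decide +kernel
theorem rel187x4 : allFrom (chkRelF cfg relsL) (nat_lit 196) (nat_lit 306155) = true := by decide +kernel
theorem rel187x5 : allFrom (chkRelF cfg relsL) (nat_lit 195) (nat_lit 306351) = true := by decide +kernel
theorem rel187x6 : allFrom (chkRelF cfg relsL) (nat_lit 195) (nat_lit 306546) = true := by decide +kernel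
theorem rel187x7 : allFrom (chkRelF cfg relsL) (nat_lit 195) (nat_lit 306741) = true := by decide +kernel
theorem rel187c1 : allFrom (chkRelF cfg relsL) (nat_lit 392) (nat_lit 305371) = true := join rel187x0 rel187x1 rfl rfl
theorem rel187c2 : allFrom (chkRelF cfg relsL) (nat_lit 588) (nat_lit 305371) = true := join rel187c1 rel187x2 rfl rfl
theorem rel187c3 : allFrom (chkRelF cfg relsL) (nat_lit 784) (nat_lit 305371) = true := join rel187c2 rel187x3 rfl rfl
theorem rel187c4 : allFrom (chkRelF cfg relsL) (nat_lit 980) (nat_lit 305371) = true := join rel187c3 rel187x4 rfl rfl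
theorem rel187c5 : allFrom (chkRelF cfg relsL) (nat_lit 1175) (nat_lit 305371) = true := join rel187c4 rel187x5 rfl rfl
theorem rel187c6 : allFrom (chkRelF cfg relsL) (nat_lit 1370) (nat_lit 305371) = true := join rel187c5 rel187x6 rfl rfl
theorem rel187 : allFrom (chkRelF cfg relsL) (nat_lit 1565) (nat_lit 305371) = true := join rel187c6 rel187x7 rfl rfl

end Cfsg.Agent.Lib.Compute.TC.Fi24a
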