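-- Certificate checks for Fi24a.
import Cfsg.Agent.Lib.Compute.TC.Fi24a.Data
import Cfsg.Agent.Lib.Compute.TCSplit
set_option autoImplicit false
set_option Elab.async false
set_option maxRecDepth 1000000

open Cfsg.Agent.Lib.Compute.ToddCoxeterCore Cfsg.Agent.Lib.Compute.ToddCoxeterPresented Cfsg.Agent.Lib.Compute.TCFast

open Cfsg.Agent.Lib.Compute.TCSplit

namespace Cfsg.Agent.Lib.Compute.TC.Fi24a

theorem rel19x0 : allFrom (chkRelF cfg relsL) (nat_lit 205) (nat_lit 31027) = true := by decide +kernel
theorem rel19x1 : allFrom (chkRelF cfg relsL) (nat_lit 204) (nat_lit 31232) = true := by decide +kernel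
theorem rel19x2 : allFrom (chkRelF cfg relsL) (nat_lit 204) (nat_lit 31436) = true := by decide +kernel
theorem rel19x3 : allFrom (chkRelF cfg relsL) (nat_lit 204) (nat_lit 31640) = true := by decide +kernel
theorem rel19x4 : allFrom (chkRelF cfg relsL) (nat_lit 204) (nat_lit 31844) = true := by decide +kernel
theorem rel19x5 : allFrom (chkRelF cfg relsL) (nat_lit 204) (nat_lit 32048) = true := by decide +kernel
theorem rel19x6 : allFrom (chkRelF cfg relsL) (nat_lit 204) (nat_lit 32252) = true := by decide +kernel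
theorem rel19x7 : allFrom (chkRelF cfg relsL) (nat_lit 204) (nat_lit 32456) = true := by decide +kernel
theorem rel19c1 : allFrom (chkRelF cfg relsL) (nat_lit 409) (nat_lit 31027) = true := join rel19x0 rel19x1 rfl rfl
theorem rel19c2 : allFrom (chkRelF cfg relsL) (nat_lit 613) (nat_lit 31027) = true := join rel19c1 rel19x2 rfl rfl
theorem rel19c3 : allFrom (chkRelF cfg relsL) (nat_lit 817) (nat_lit 31027) = true := join rel19c2 rel19x3 rfl rfl
theorem rel19c4 : allFrom (chkRelF cfg relsL) (nat_lit 1021) (nat_lit 31027) = true := join rel19c3 rel19x4 rfl rfl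
theorem rel19c5 : allFrom (chkRelF cfg relsL) (nat_lit 1225) (nat_lit 31027) = true := join rel19c4 rel19x5 rfl rfl
theorem rel19c6 : allFrom (chkRelF cfg relsL) (nat_lit 1429) (nat_lit 31027) = true := join rel19c5 rel19x6 rfl rfl
theorem rel19 : allFrom (chkRelF cfg relsL) (nat_lit 1633) (nat_lit 31027) = true := join rel19c6 rel19x7 rfl rfl

end Cfsg.Agent.Lib.Compute.TC.Fi24a
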