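-- Certificate checks for Fi24a.
import Cfsg.Agent.Lib.Compute.TC.Fi24a.Data
import Cfsg.Agent.Lib.Compute.TCSplit
set_option autoImplicit false
set_option Elab.async false
set_option maxRecDepth 1000000

open Cfsg.Agent.Lib.Compute.ToddCoxeterCore Cfsg.Agent.Lib.Compute.ToddCoxeterPresented Cfsg.Agent.Lib.Compute.TCFast

open Cfsg.Agent.Lib.Compute.TCSplit

namespace Cfsg.Agent.Lib.Compute.TC.Fi24a

theorem rel2x0 : allFrom (chkRelF cfg relsL) (nat_lit 205) (nat_lit 3266) = true := by decide +kernel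
theorem rel2x1 : allFrom (chkRelF cfg relsL) (nat_lit 204) (nat_lit 3471) = true := by decide +kernel
theorem rel2x2 : allFrom (chkRelF cfg relsL) (nat_lit 204) (nat_lit 3675) = true := by decide +kernel
theorem rel2x3 : allFrom (chkRelF cfg relsL) (nat_lit 204) (nat_lit 3879) = true := by decide +kernel
theorem rel2x4 : allFrom (chkRelF cfg relsL) (nat_lit 204) (nat_lit 4083) = true := by decide +kernel
theorem rel2x5 : allFrom (chkRelF cfg relsL) (nat_lit 204) (nat_lit 4287) = true := by decide +kernel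
theorem rel2x6 : allFrom (chkRelF cfg relsL) (nat_lit 204) (nat_lit 4491) = true := by decide +kernel
theorem rel2x7 : allFrom (chkRelF cfg relsL) (nat_lit 204) (nat_lit 4695) = true := by decide +kernel
theorem rel2c1 : allFrom (chkRelF cfg relsL) (nat_lit 409) (nat_lit 3266) = true := join rel2x0 rel2x1 rfl rfl
theorem rel2c2 : allFrom (chkRelF cfg relsL) (nat_lit 613) (nat_lit 3266) = true := join rel2c1 rel2x2 rfl rfl
theorem rel2c3 : allFrom (chkRelF cfg relsL) (nat_lit 817) (nat_lit 3266) = true := join rel2c2 rel2x3 rfl rfl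
theorem rel2c4 : allFrom (chkRelF cfg relsL) (nat_lit 1021) (nat_lit 3266) = true := join rel2c3 rel2x4 rfl rfl
theorem rel2c5 : allFrom (chkRelF cfg relsL) (nat_lit 1225) (nat_lit 3266) = true := join rel2c4 rel2x5 rfl rfl
theorem rel2c6 : allFrom (chkRelF cfg relsL) (nat_lit 1429) (nat_lit 3266) = true := join rel2c5 rel2x6 rfl rfl
theorem rel2 : allFrom (chkRelF cfg relsL) (nat_lit 1633) (nat_lit 3266) = true := join rel2c6 rel2x7 rfl rfl

end Cfsg.Agent.Lib.Compute.TC.Fi24a
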