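-- Certificate checks for Fi24a.
import Cfsg.Agent.Lib.Compute.TC.Fi24a.Data
import Cfsg.Agent.Lib.Compute.TCSplit
set_option autoImplicit false
set_option Elab.async false
set_option maxRecDepth 1000000

open Cfsg.Agent.Lib.Compute.ToddCoxeterCore Cfsg.Agent.Lib.Compute.ToddCoxeterPresented Cfsg.Agent.Lib.Compute.TCFast

open Cfsg.Agent.Lib.Compute.TCSplit

namespace Cfsg.Agent.Lib.Compute.TC.Fi24a

theorem rel20x0 : allFrom (chkRelF cfg relsL) (nat_lit 205) (nat_lit 32660) = true := by decide +kernel
theorem rel20x1 : allFrom (chkRelF cfg relsL) (nat_lit 204) (nat_lit 32865) = true := by decide +kernel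
theorem rel20x2 : allFrom (chkRelF cfg relsL) (nat_lit 204) (nat_lit 33069) = true := by decide +kernel
theorem rel20x3 : allFrom (chkRelF cfg relsL) (nat_lit 204) (nat_lit 33273) = true := by decide +kernel
theorem rel20x4 : allFrom (chkRelF cfg relsL) (nat_lit 204) (nat_lit 33477) = true := by decide +kernel
theorem rel20x5 : allFrom (chkRelF cfg relsL) (nat_lit 204) (nat_lit 33681) = true := by decide +kernel
theorem rel20x6 : allFrom (chkRelF cfg relsL) (nat_lit 204) (nat_lit 33885) = true := by decide +kernel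
theorem rel20x7 : allFrom (chkRelF cfg relsL) (nat_lit 204) (nat_lit 34089) = true := by decide +kernel
theorem rel20c1 : allFrom (chkRelF cfg relsL) (nat_lit 409) (nat_lit 32660) = true := join rel20x0 rel20x1 rfl rfl
theorem rel20c2 : allFrom (chkRelF cfg relsL) (nat_lit 613) (nat_lit 32660) = true := join rel20c1 rel20x2 rfl rfl
theorem rel20c3 : allFrom (chkRelF cfg relsL) (nat_lit 817) (nat_lit 32660) = true := join rel20c2 rel20x3 rfl rfl
theorem rel20c4 : allFrom (chkRelF cfg relsL) (nat_lit 1021) (nat_lit 32660) = true := join rel20c3 rel20x4 rfl rfl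
theorem rel20c5 : allFrom (chkRelF cfg relsL) (nat_lit 1225) (nat_lit 32660) = true := join rel20c4 rel20x5 rfl rfl
theorem rel20c6 : allFrom (chkRelF cfg relsL) (nat_lit 1429) (nat_lit 32660) = true := join rel20c5 rel20x6 rfl rfl
theorem rel20 : allFrom (chkRelF cfg relsL) (nat_lit 1633) (nat_lit 32660) = true := join rel20c6 rel20x7 rfl rfl

end Cfsg.Agent.Lib.Compute.TC.Fi24a
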