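-- Certificate checks for Fi24a.
import Cfsg.Agent.Lib.Compute.TC.Fi24a.Data
import Cfsg.Agent.Lib.Compute.TCSplit
set_option autoImplicit false
set_option Elab.async false
set_option maxRecDepth 1000000

open Cfsg.Agent.Lib.Compute.ToddCoxeterCore Cfsg.Agent.Lib.Compute.ToddCoxeterPresented Cfsg.Agent.Lib.Compute.TCFast

open Cfsg.Agent.Lib.Compute.TCSplit

namespace Cfsg.Agent.Lib.Compute.TC.Fi24a

theorem rel22x0 : allFrom (chkRelF cfg relsL) (nat_lit 205) (nat_lit 35926) = true := by decide +kernel
theorem rel22x1 : allFrom (chkRelF cfg relsL) (nat_lit 204) (nat_lit 36131) = true := by decide +kernel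
theorem rel22x2 : allFrom (chkRelF cfg relsL) (nat_lit 204) (nat_lit 36335) = true := by decide +kernel
theorem rel22x3 : allFrom (chkRelF cfg relsL) (nat_lit 204) (nat_lit 36539) = true := by decide +kernel
theorem rel22x4 : allFrom (chkRelF cfg relsL) (nat_lit 204) (nat_lit 36743) = true := by decide +kernel
theorem rel22x5 : allFrom (chkRelF cfg relsL) (nat_lit 204) (nat_lit 36947) = true := by decide +kernel
theorem rel22x6 : allFrom (chkRelF cfg relsL) (nat_lit 204) (nat_lit 37151) = true := by decide +kernel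
theorem rel22x7 : allFrom (chkRelF cfg relsL) (nat_lit 204) (nat_lit 37355) = true := by decide +kernel
theorem rel22c1 : allFrom (chkRelF cfg relsL) (nat_lit 409) (nat_lit 35926) = true := join rel22x0 rel22x1 rfl rfl
theorem rel22c2 : allFrom (chkRelF cfg relsL) (nat_lit 613) (nat_lit 35926) = true := join rel22c1 rel22x2 rfl rfl
theorem rel22c3 : allFrom (chkRelF cfg relsL) (nat_lit 817) (nat_lit 35926) = true := join rel22c2 rel22x3 rfl rfl
theorem rel22c4 : allFrom (chkRelF cfg relsL) (nat_lit 1021) (nat_lit 35926) = true := join rel22c3 rel22x4 rfl rfl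
theorem rel22c5 : allFrom (chkRelF cfg relsL) (nat_lit 1225) (nat_lit 35926) = true := join rel22c4 rel22x5 rfl rfl
theorem rel22c6 : allFrom (chkRelF cfg relsL) (nat_lit 1429) (nat_lit 35926) = true := join rel22c5 rel22x6 rfl rfl
theorem rel22 : allFrom (chkRelF cfg relsL) (nat_lit 1633) (nat_lit 35926) = true := join rel22c6 rel22x7 rfl rfl

end Cfsg.Agent.Lib.Compute.TC.Fi24a
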