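-- Certificate checks for Fi24a.
import Cfsg.Agent.Lib.Compute.TC.Fi24a.Data
import Cfsg.Agent.Lib.Compute.TCSplit
set_option autoImplicit false
set_option Elab.async false
set_option maxRecDepth 1000000

open Cfsg.Agent.Lib.Compute.ToddCoxeterCore Cfsg.Agent.Lib.Compute.ToddCoxeterPresented Cfsg.Agent.Lib.Compute.TCFast

open Cfsg.Agent.Lib.Compute.TCSplit

namespace Cfsg.Agent.Lib.Compute.TC.Fi24a

theorem rel23x0 : allFrom (chkRelF cfg relsL) (nat_lit 205) (nat_lit 37559) = true := by decide +kernel
theorem rel23x1 : allFrom (chkRelF cfg relsL) (nat_lit 204) (nat_lit 37764) = true := by decide +kernel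
theorem rel23x2 : allFrom (chkRelF cfg relsL) (nat_lit 204) (nat_lit 37968) = true := by decide +kernel
theorem rel23x3 : allFrom (chkRelF cfg relsL) (nat_lit 204) (nat_lit 38172) = true := by decide +kernel
theorem rel23x4 : allFrom (chkRelF cfg relsL) (nat_lit 204) (nat_lit 38376) = true := by decide +kernel
theorem rel23x5 : allFrom (chkRelF cfg relsL) (nat_lit 204) (nat_lit 38580) = true := by decide +kernel
theorem rel23x6 : allFrom (chkRelF cfg relsL) (nat_lit 204) (nat_lit 38784) = true := by decide +kernel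
theorem rel23x7 : allFrom (chkRelF cfg relsL) (nat_lit 204) (nat_lit 38988) = true := by decide +kernel
theorem rel23c1 : allFrom (chkRelF cfg relsL) (nat_lit 409) (nat_lit 37559) = true := join rel23x0 rel23x1 rfl rfl
theorem rel23c2 : allFrom (chkRelF cfg relsL) (nat_lit 613) (nat_lit 37559) = true := join rel23c1 rel23x2 rfl rfl
theorem rel23c3 : allFrom (chkRelF cfg relsL) (nat_lit 817) (nat_lit 37559) = true := join rel23c2 rel23x3 rfl rfl
theorem rel23c4 : allFrom (chkRelF cfg relsL) (nat_lit 1021) (nat_lit 37559) = true := join rel23c3 rel23x4 rfl rfl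
theorem rel23c5 : allFrom (chkRelF cfg relsL) (nat_lit 1225) (nat_lit 37559) = true := join rel23c4 rel23x5 rfl rfl
theorem rel23c6 : allFrom (chkRelF cfg relsL) (nat_lit 1429) (nat_lit 37559) = true := join rel23c5 rel23x6 rfl rfl
theorem rel23 : allFrom (chkRelF cfg relsL) (nat_lit 1633) (nat_lit 37559) = true := join rel23c6 rel23x7 rfl rfl

end Cfsg.Agent.Lib.Compute.TC.Fi24a
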