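-- Certificate checks for Fi24a.
import Cfsg.Agent.Lib.Compute.TC.Fi24a.Data
import Cfsg.Agent.Lib.Compute.TCSplit
set_option autoImplicit false
set_option Elab.async false
set_option maxRecDepth 1000000

open Cfsg.Agent.Lib.Compute.ToddCoxeterCore Cfsg.Agent.Lib.Compute.ToddCoxeterPresented Cfsg.Agent.Lib.Compute.TCFast

open Cfsg.Agent.Lib.Compute.TCSplit

namespace Cfsg.Agent.Lib.Compute.TC.Fi24a

theorem rel24x0 : allFrom (chkRelF cfg relsL) (nat_lit 205) (nat_lit 39192) = true := by decide +kernel
theorem rel24x1 : allFrom (chkRelF cfg relsL) (nat_lit 204) (nat_lit 39397) = true := by decide +kernel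
theorem rel24x2 : allFrom (chkRelF cfg relsL) (nat_lit 204) (nat_lit 39601) = true := by decide +kernel
theorem rel24x3 : allFrom (chkRelF cfg relsL) (nat_lit 204) (nat_lit 39805) = true := by decide +kernel
theorem rel24x4 : allFrom (chkRelF cfg relsL) (nat_lit 204) (nat_lit 40009) = true := by decide +kernel
theorem rel24x5 : allFrom (chkRelF cfg relsL) (nat_lit 204) (nat_lit 40213) = true := by decide +kernel
theorem rel24x6 : allFrom (chkRelF cfg relsL) (nat_lit 204) (nat_lit 40417) = true := by decide +kernel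
theorem rel24x7 : allFrom (chkRelF cfg relsL) (nat_lit 204) (nat_lit 40621) = true := by decide +kernel
theorem rel24c1 : allFrom (chkRelF cfg relsL) (nat_lit 409) (nat_lit 39192) = true := join rel24x0 rel24x1 rfl rfl
theorem rel24c2 : allFrom (chkRelF cfg relsL) (nat_lit 613) (nat_lit 39192) = true := join rel24c1 rel24x2 rfl rfl
theorem rel24c3 : allFrom (chkRelF cfg relsL) (nat_lit 817) (nat_lit 39192) = true := join rel24c2 rel24x3 rfl rfl
theorem rel24c4 : allFrom (chkRelF cfg relsL) (nat_lit 1021) (nat_lit 39192) = true := join rel24c3 rel24x4 rfl rfl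
theorem rel24c5 : allFrom (chkRelF cfg relsL) (nat_lit 1225) (nat_lit 39192) = true := join rel24c4 rel24x5 rfl rfl
theorem rel24c6 : allFrom (chkRelF cfg relsL) (nat_lit 1429) (nat_lit 39192) = true := join rel24c5 rel24x6 rfl rfl
theorem rel24 : allFrom (chkRelF cfg relsL) (nat_lit 1633) (nat_lit 39192) = true := join rel24c6 rel24x7 rfl rfl

end Cfsg.Agent.Lib.Compute.TC.Fi24a
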