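-- Certificate checks for Fi24a.
import Cfsg.Agent.Lib.Compute.TC.Fi24a.Data
import Cfsg.Agent.Lib.Compute.TCSplit
set_option autoImplicit false
set_option Elab.async false
set_option maxRecDepth 1000000

open Cfsg.Agent.Lib.Compute.ToddCoxeterCore Cfsg.Agent.Lib.Compute.ToddCoxeterPresented Cfsg.Agent.Lib.Compute.TCFast

open Cfsg.Agent.Lib.Compute.TCSplit

namespace Cfsg.Agent.Lib.Compute.TC.Fi24a

theorem rel25x0 : allFrom (chkRelF cfg relsL) (nat_lit 205) (nat_lit 40825) = true := by decide +kernel
theorem rel25x1 : allFrom (chkRelF cfg relsL) (nat_lit 204) (nat_lit 41030) = true := by decide +kernel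
theorem rel25x2 : allFrom (chkRelF cfg relsL) (nat_lit 204) (nat_lit 41234) = true := by decide +kernel
theorem rel25x3 : allFrom (chkRelF cfg relsL) (nat_lit 204) (nat_lit 41438) = true := by decide +kernel
theorem rel25x4 : allFrom (chkRelF cfg relsL) (nat_lit 204) (nat_lit 41642) = true := by decide +kernel
theorem rel25x5 : allFrom (chkRelF cfg relsL) (nat_lit 204) (nat_lit 41846) = true := by decide +kernel
theorem rel25x6 : allFrom (chkRelF cfg relsL) (nat_lit 204) (nat_lit 42050) = true := by decide +kernel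
theorem rel25x7 : allFrom (chkRelF cfg relsL) (nat_lit 204) (nat_lit 42254) = true := by decide +kernel
theorem rel25c1 : allFrom (chkRelF cfg relsL) (nat_lit 409) (nat_lit 40825) = true := join rel25x0 rel25x1 rfl rfl
theorem rel25c2 : allFrom (chkRelF cfg relsL) (nat_lit 613) (nat_lit 40825) = true := join rel25c1 rel25x2 rfl rfl
theorem rel25c3 : allFrom (chkRelF cfg relsL) (nat_lit 817) (nat_lit 40825) = true := join rel25c2 rel25x3 rfl rfl
theorem rel25c4 : allFrom (chkRelF cfg relsL) (nat_lit 1021) (nat_lit 40825) = true := join rel25c3 rel25x4 rfl rfl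
theorem rel25c5 : allFrom (chkRelF cfg relsL) (nat_lit 1225) (nat_lit 40825) = true := join rel25c4 rel25x5 rfl rfl
theorem rel25c6 : allFrom (chkRelF cfg relsL) (nat_lit 1429) (nat_lit 40825) = true := join rel25c5 rel25x6 rfl rfl
theorem rel25 : allFrom (chkRelF cfg relsL) (nat_lit 1633) (nat_lit 40825) = true := join rel25c6 rel25x7 rfl rfl

end Cfsg.Agent.Lib.Compute.TC.Fi24a
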