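-- Certificate checks for Fi24a.
import Cfsg.Agent.Lib.Compute.TC.Fi24a.Data
import Cfsg.Agent.Lib.Compute.TCSplit
set_option autoImplicit false
set_option Elab.async false
set_option maxRecDepth 1000000

open Cfsg.Agent.Lib.Compute.ToddCoxeterCore Cfsg.Agent.Lib.Compute.ToddCoxeterPresented Cfsg.Agent.Lib.Compute.TCFast

open Cfsg.Agent.Lib.Compute.TCSplit

namespace Cfsg.Agent.Lib.Compute.TC.Fi24a

theorem rel26x0 : allFrom (chkRelF cfg relsL) (nat_lit 205) (nat_lit 42458) = true := by decide +kernel
theorem rel26x1 : allFrom (chkRelF cfg relsL) (nat_lit 204) (nat_lit 42663) = true := by decide +kernel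
theorem rel26x2 : allFrom (chkRelF cfg relsL) (nat_lit 204) (nat_lit 42867) = true := by decide +kernel
theorem rel26x3 : allFrom (chkRelF cfg relsL) (nat_lit 204) (nat_lit 43071) = true := by decide +kernel
theorem rel26x4 : allFrom (chkRelF cfg relsL) (nat_lit 204) (nat_lit 43275) = true := by decide +kernel
theorem rel26x5 : allFrom (chkRelF cfg relsL) (nat_lit 204) (nat_lit 43479) = true := by decide +kernel
theorem rel26x6 : allFrom (chkRelF cfg relsL) (nat_lit 204) (nat_lit 43683) = true := by decide +kernel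
theorem rel26x7 : allFrom (chkRelF cfg relsL) (nat_lit 204) (nat_lit 43887) = true := by decide +kernel
theorem rel26c1 : allFrom (chkRelF cfg relsL) (nat_lit 409) (nat_lit 42458) = true := join rel26x0 rel26x1 rfl rfl
theorem rel26c2 : allFrom (chkRelF cfg relsL) (nat_lit 613) (nat_lit 42458) = true := join rel26c1 rel26x2 rfl rfl
theorem rel26c3 : allFrom (chkRelF cfg relsL) (nat_lit 817) (nat_lit 42458) = true := join rel26c2 rel26x3 rfl rfl
theorem rel26c4 : allFrom (chkRelF cfg relsL) (nat_lit 1021) (nat_lit 42458) = true := join rel26c3 rel26x4 rfl rfl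
theorem rel26c5 : allFrom (chkRelF cfg relsL) (nat_lit 1225) (nat_lit 42458) = true := join rel26c4 rel26x5 rfl rfl
theorem rel26c6 : allFrom (chkRelF cfg relsL) (nat_lit 1429) (nat_lit 42458) = true := join rel26c5 rel26x6 rfl rfl
theorem rel26 : allFrom (chkRelF cfg relsL) (nat_lit 1633) (nat_lit 42458) = true := join rel26c6 rel26x7 rfl rfl

end Cfsg.Agent.Lib.Compute.TC.Fi24a
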