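-- Certificate checks for Fi24a.
import Cfsg.Agent.Lib.Compute.TC.Fi24a.Data
import Cfsg.Agent.Lib.Compute.TCSplit
set_option autoImplicit false
set_option Elab.async false
set_option maxRecDepth 1000000

open Cfsg.Agent.Lib.Compute.ToddCoxeterCore Cfsg.Agent.Lib.Compute.ToddCoxeterPresented Cfsg.Agent.Lib.Compute.TCFast

open Cfsg.Agent.Lib.Compute.TCSplit

namespace Cfsg.Agent.Lib.Compute.TC.Fi24a

theorem rel27x0 : allFrom (chkRelF cfg relsL) (nat_lit 205) (nat_lit 44091) = true := by decide +kernel
theorem rel27x1 : allFrom (chkRelF cfg relsL) (nat_lit 204) (nat_lit 44296) = true := by decide +kernel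
theorem rel27x2 : allFrom (chkRelF cfg relsL) (nat_lit 204) (nat_lit 44500) = true := by decide +kernel
theorem rel27x3 : allFrom (chkRelF cfg relsL) (nat_lit 204) (nat_lit 44704) = true := by decide +kernel
theorem rel27x4 : allFrom (chkRelF cfg relsL) (nat_lit 204) (nat_lit 44908) = true := by decide +kernel
theorem rel27x5 : allFrom (chkRelF cfg relsL) (nat_lit 204) (nat_lit 45112) = true := by decide +kernel
theorem rel27x6 : allFrom (chkRelF cfg relsL) (nat_lit 204) (nat_lit 45316) = true := by decide +kernel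
theorem rel27x7 : allFrom (chkRelF cfg relsL) (nat_lit 204) (nat_lit 45520) = true := by decide +kernel
theorem rel27c1 : allFrom (chkRelF cfg relsL) (nat_lit 409) (nat_lit 44091) = true := join rel27x0 rel27x1 rfl rfl
theorem rel27c2 : allFrom (chkRelF cfg relsL) (nat_lit 613) (nat_lit 44091) = true := join rel27c1 rel27x2 rfl rfl
theorem rel27c3 : allFrom (chkRelF cfg relsL) (nat_lit 817) (nat_lit 44091) = true := join rel27c2 rel27x3 rfl rfl
theorem rel27c4 : allFrom (chkRelF cfg relsL) (nat_lit 1021) (nat_lit 44091) = true := join rel27c3 rel27x4 rfl rfl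
theorem rel27c5 : allFrom (chkRelF cfg relsL) (nat_lit 1225) (nat_lit 44091) = true := join rel27c4 rel27x5 rfl rfl
theorem rel27c6 : allFrom (chkRelF cfg relsL) (nat_lit 1429) (nat_lit 44091) = true := join rel27c5 rel27x6 rfl rfl
theorem rel27 : allFrom (chkRelF cfg relsL) (nat_lit 1633) (nat_lit 44091) = true := join rel27c6 rel27x7 rfl rfl

end Cfsg.Agent.Lib.Compute.TC.Fi24a
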