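-- Certificate checks for Fi24a.
import Cfsg.Agent.Lib.Compute.TC.Fi24a.Data
import Cfsg.Agent.Lib.Compute.TCSplit
set_option autoImplicit false
set_option Elab.async false
set_option maxRecDepth 1000000

open Cfsg.Agent.Lib.Compute.ToddCoxeterCore Cfsg.Agent.Lib.Compute.ToddCoxeterPresented Cfsg.Agent.Lib.Compute.TCFast

open Cfsg.Agent.Lib.Compute.TCSplit

namespace Cfsg.Agent.Lib.Compute.TC.Fi24a

theorem rel28x0 : allFrom (chkRelF cfg relsL) (nat_lit 205) (nat_lit 45724) = true := by decide +kernel
theorem rel28x1 : allFrom (chkRelF cfg relsL) (nat_lit 204) (nat_lit 45929) = true := by decide +kernel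
theorem rel28x2 : allFrom (chkRelF cfg relsL) (nat_lit 204) (nat_lit 46133) = true := by decide +kernel
theorem rel28x3 : allFrom (chkRelF cfg relsL) (nat_lit 204) (nat_lit 46337) = true := by decide +kernel
theorem rel28x4 : allFrom (chkRelF cfg relsL) (nat_lit 204) (nat_lit 46541) = true := by decide +kernel
theorem rel28x5 : allFrom (chkRelF cfg relsL) (nat_lit 204) (nat_lit 46745) = true := by decide +kernel
theorem rel28x6 : allFrom (chkRelF cfg relsL) (nat_lit 204) (nat_lit 46949) = true := by decide +kernel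
theorem rel28x7 : allFrom (chkRelF cfg relsL) (nat_lit 204) (nat_lit 47153) = true := by decide +kernel
theorem rel28c1 : allFrom (chkRelF cfg relsL) (nat_lit 409) (nat_lit 45724) = true := join rel28x0 rel28x1 rfl rfl
theorem rel28c2 : allFrom (chkRelF cfg relsL) (nat_lit 613) (nat_lit 45724) = true := join rel28c1 rel28x2 rfl rfl
theorem rel28c3 : allFrom (chkRelF cfg relsL) (nat_lit 817) (nat_lit 45724) = true := join rel28c2 rel28x3 rfl rfl
theorem rel28c4 : allFrom (chkRelF cfg relsL) (nat_lit 1021) (nat_lit 45724) = true := join rel28c3 rel28x4 rfl rfl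
theorem rel28c5 : allFrom (chkRelF cfg relsL) (nat_lit 1225) (nat_lit 45724) = true := join rel28c4 rel28x5 rfl rfl
theorem rel28c6 : allFrom (chkRelF cfg relsL) (nat_lit 1429) (nat_lit 45724) = true := join rel28c5 rel28x6 rfl rfl
theorem rel28 : allFrom (chkRelF cfg relsL) (nat_lit 1633) (nat_lit 45724) = true := join rel28c6 rel28x7 rfl rfl

end Cfsg.Agent.Lib.Compute.TC.Fi24a
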