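-- Certificate checks for Fi24a.
import Cfsg.Agent.Lib.Compute.TC.Fi24a.Data
import Cfsg.Agent.Lib.Compute.TCSplit
set_option autoImplicit false
set_option Elab.async false
set_option maxRecDepth 1000000

open Cfsg.Agent.Lib.Compute.ToddCoxeterCore Cfsg.Agent.Lib.Compute.ToddCoxeterPresented Cfsg.Agent.Lib.Compute.TCFast

open Cfsg.Agent.Lib.Compute.TCSplit

namespace Cfsg.Agent.Lib.Compute.TC.Fi24a

theorem rel29x0 : allFrom (chkRelF cfg relsL) (nat_lit 205) (nat_lit 47357) = true := by decide +kernel
theorem rel29x1 : allFrom (chkRelF cfg relsL) (nat_lit 204) (nat_lit 47562) = true := by decide +kernel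
theorem rel29x2 : allFrom (chkRelF cfg relsL) (nat_lit 204) (nat_lit 47766) = true := by decide +kernel
theorem rel29x3 : allFrom (chkRelF cfg relsL) (nat_lit 204) (nat_lit 47970) = true := by decide +kernel
theorem rel29x4 : allFrom (chkRelF cfg relsL) (nat_lit 204) (nat_lit 48174) = true := by decide +kernel
theorem rel29x5 : allFrom (chkRelF cfg relsL) (nat_lit 204) (nat_lit 48378) = true := by decide +kernel
theorem rel29x6 : allFrom (chkRelF cfg relsL) (nat_lit 204) (nat_lit 48582) = true := by decide +kernel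
theorem rel29x7 : allFrom (chkRelF cfg relsL) (nat_lit 204) (nat_lit 48786) = true := by decide +kernel
theorem rel29c1 : allFrom (chkRelF cfg relsL) (nat_lit 409) (nat_lit 47357) = true := join rel29x0 rel29x1 rfl rfl
theorem rel29c2 : allFrom (chkRelF cfg relsL) (nat_lit 613) (nat_lit 47357) = true := join rel29c1 rel29x2 rfl rfl
theorem rel29c3 : allFrom (chkRelF cfg relsL) (nat_lit 817) (nat_lit 47357) = true := join rel29c2 rel29x3 rfl rfl
theorem rel29c4 : allFrom (chkRelF cfg relsL) (nat_lit 1021) (nat_lit 47357) = true := join rel29c3 rel29x4 rfl rfl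
theorem rel29c5 : allFrom (chkRelF cfg relsL) (nat_lit 1225) (nat_lit 47357) = true := join rel29c4 rel29x5 rfl rfl
theorem rel29c6 : allFrom (chkRelF cfg relsL) (nat_lit 1429) (nat_lit 47357) = true := join rel29c5 rel29x6 rfl rfl
theorem rel29 : allFrom (chkRelF cfg relsL) (nat_lit 1633) (nat_lit 47357) = true := join rel29c6 rel29x7 rfl rfl

end Cfsg.Agent.Lib.Compute.TC.Fi24a
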