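-- Certificate checks for Fi24a.
import Cfsg.Agent.Lib.Compute.TC.Fi24a.Data
import Cfsg.Agent.Lib.Compute.TCSplit
set_option autoImplicit false
set_option Elab.async false
set_option maxRecDepth 1000000

open Cfsg.Agent.Lib.Compute.ToddCoxeterCore Cfsg.Agent.Lib.Compute.ToddCoxeterPresented Cfsg.Agent.Lib.Compute.TCFast

open Cfsg.Agent.Lib.Compute.TCSplit

namespace Cfsg.Agent.Lib.Compute.TC.Fi24a

theorem rel3x0 : allFrom (chkRelF cfg relsL) (nat_lit 205) (nat_lit 4899) = true := by decide +kernel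
theorem rel3x1 : allFrom (chkRelF cfg relsL) (nat_lit 204) (nat_lit 5104) = true := by decide +kernel
theorem rel3x2 : allFrom (chkRelF cfg relsL) (nat_lit 204) (nat_lit 5308) = true := by decide +kernel
theorem rel3x3 : allFrom (chkRelF cfg relsL) (nat_lit 204) (nat_lit 5512) = true := by decide +kernel
theorem rel3x4 : allFrom (chkRelF cfg relsL) (nat_lit 204) (nat_lit 5716) = true := by decide +kernel
theorem rel3x5 : allFrom (chkRelF cfg relsL) (nat_lit 204) (nat_lit 5920) = true := by decide +kernel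
theorem rel3x6 : allFrom (chkRelF cfg relsL) (nat_lit 204) (nat_lit 6124) = true := by decide +kernel
theorem rel3x7 : allFrom (chkRelF cfg relsL) (nat_lit 204) (nat_lit 6328) = true := by decide +kernel
theorem rel3c1 : allFrom (chkRelF cfg relsL) (nat_lit 409) (nat_lit 4899) = true := join rel3x0 rel3x1 rfl rfl
theorem rel3c2 : allFrom (chkRelF cfg relsL) (nat_lit 613) (nat_lit 4899) = true := join rel3c1 rel3x2 rfl rfl
theorem rel3c3 : allFrom (chkRelF cfg relsL) (nat_lit 817) (nat_lit 4899) = true := join rel3c2 rel3x3 rfl rfl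
theorem rel3c4 : allFrom (chkRelF cfg relsL) (nat_lit 1021) (nat_lit 4899) = true := join rel3c3 rel3x4 rfl rfl
theorem rel3c5 : allFrom (chkRelF cfg relsL) (nat_lit 1225) (nat_lit 4899) = true := join rel3c4 rel3x5 rfl rfl
theorem rel3c6 : allFrom (chkRelF cfg relsL) (nat_lit 1429) (nat_lit 4899) = true := join rel3c5 rel3x6 rfl rfl
theorem rel3 : allFrom (chkRelF cfg relsL) (nat_lit 1633) (nat_lit 4899) = true := join rel3c6 rel3x7 rfl rfl

end Cfsg.Agent.Lib.Compute.TC.Fi24a
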