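-- Certificate checks for Fi24a.
import Cfsg.Agent.Lib.Compute.TC.Fi24a.Data
import Cfsg.Agent.Lib.Compute.TCSplit
set_option autoImplicit false
set_option Elab.async false
set_option maxRecDepth 1000000

open Cfsg.Agent.Lib.Compute.ToddCoxeterCore Cfsg.Agent.Lib.Compute.ToddCoxeterPresented Cfsg.Agent.Lib.Compute.TCFast

open Cfsg.Agent.Lib.Compute.TCSplit

namespace Cfsg.Agent.Lib.Compute.TC.Fi24a

theorem rel30x0 : allFrom (chkRelF cfg relsL) (nat_lit 205) (nat_lit 48990) = true := by decide +kernel
theorem rel30x1 : allFrom (chkRelF cfg relsL) (nat_lit 204) (nat_lit 49195) = true := by decide +kernel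
theorem rel30x2 : allFrom (chkRelF cfg relsL) (nat_lit 204) (nat_lit 49399) = true := by decide +kernel
theorem rel30x3 : allFrom (chkRelF cfg relsL) (nat_lit 204) (nat_lit 49603) = true := by decide +kernel
theorem rel30x4 : allFrom (chkRelF cfg relsL) (nat_lit 204) (nat_lit 49807) = true := by decide +kernel
theorem rel30x5 : allFrom (chkRelF cfg relsL) (nat_lit 204) (nat_lit 50011) = true := by decide +kernel
theorem rel30x6 : allFrom (chkRelF cfg relsL) (nat_lit 204) (nat_lit 50215) = true := by decide +kernel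
theorem rel30x7 : allFrom (chkRelF cfg relsL) (nat_lit 204) (nat_lit 50419) = true := by decide +kernel
theorem rel30c1 : allFrom (chkRelF cfg relsL) (nat_lit 409) (nat_lit 48990) = true := join rel30x0 rel30x1 rfl rfl
theorem rel30c2 : allFrom (chkRelF cfg relsL) (nat_lit 613) (nat_lit 48990) = true := join rel30c1 rel30x2 rfl rfl
theorem rel30c3 : allFrom (chkRelF cfg relsL) (nat_lit 817) (nat_lit 48990) = true := join rel30c2 rel30x3 rfl rfl
theorem rel30c4 : allFrom (chkRelF cfg relsL) (nat_lit 1021) (nat_lit 48990) = true := join rel30c3 rel30x4 rfl rfl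
theorem rel30c5 : allFrom (chkRelF cfg relsL) (nat_lit 1225) (nat_lit 48990) = true := join rel30c4 rel30x5 rfl rfl
theorem rel30c6 : allFrom (chkRelF cfg relsL) (nat_lit 1429) (nat_lit 48990) = true := join rel30c5 rel30x6 rfl rfl
theorem rel30 : allFrom (chkRelF cfg relsL) (nat_lit 1633) (nat_lit 48990) = true := join rel30c6 rel30x7 rfl rfl

end Cfsg.Agent.Lib.Compute.TC.Fi24a
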