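-- Certificate checks for Fi24a.
import Cfsg.Agent.Lib.Compute.TC.Fi24a.Data
import Cfsg.Agent.Lib.Compute.TCSplit
set_option autoImplicit false
set_option Elab.async false
set_option maxRecDepth 1000000

open Cfsg.Agent.Lib.Compute.ToddCoxeterCore Cfsg.Agent.Lib.Compute.ToddCoxeterPresented Cfsg.Agent.Lib.Compute.TCFast

open Cfsg.Agent.Lib.Compute.TCSplit

namespace Cfsg.Agent.Lib.Compute.TC.Fi24a

theorem rel31x0 : allFrom (chkRelF cfg relsL) (nat_lit 205) (nat_lit 50623) = true := by decide +kernel
theorem rel31x1 : allFrom (chkRelF cfg relsL) (nat_lit 204) (nat_lit 50828) = true := by decide +kernel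
theorem rel31x2 : allFrom (chkRelF cfg relsL) (nat_lit 204) (nat_lit 51032) = true := by decide +kernel
theorem rel31x3 : allFrom (chkRelF cfg relsL) (nat_lit 204) (nat_lit 51236) = true := by decide +kernel
theorem rel31x4 : allFrom (chkRelF cfg relsL) (nat_lit 204) (nat_lit 51440) = true := by decide +kernel
theorem rel31x5 : allFrom (chkRelF cfg relsL) (nat_lit 204) (nat_lit 51644) = true := by decide +kernel
theorem rel31x6 : allFrom (chkRelF cfg relsL) (nat_lit 204) (nat_lit 51848) = true := by decide +kernel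
theorem rel31x7 : allFrom (chkRelF cfg relsL) (nat_lit 204) (nat_lit 52052) = true := by decide +kernel
theorem rel31c1 : allFrom (chkRelF cfg relsL) (nat_lit 409) (nat_lit 50623) = true := join rel31x0 rel31x1 rfl rfl
theorem rel31c2 : allFrom (chkRelF cfg relsL) (nat_lit 613) (nat_lit 50623) = true := join rel31c1 rel31x2 rfl rfl
theorem rel31c3 : allFrom (chkRelF cfg relsL) (nat_lit 817) (nat_lit 50623) = true := join rel31c2 rel31x3 rfl rfl
theorem rel31c4 : allFrom (chkRelF cfg relsL) (nat_lit 1021) (nat_lit 50623) = true := join rel31c3 rel31x4 rfl rfl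
theorem rel31c5 : allFrom (chkRelF cfg relsL) (nat_lit 1225) (nat_lit 50623) = true := join rel31c4 rel31x5 rfl rfl
theorem rel31c6 : allFrom (chkRelF cfg relsL) (nat_lit 1429) (nat_lit 50623) = true := join rel31c5 rel31x6 rfl rfl
theorem rel31 : allFrom (chkRelF cfg relsL) (nat_lit 1633) (nat_lit 50623) = true := join rel31c6 rel31x7 rfl rfl

end Cfsg.Agent.Lib.Compute.TC.Fi24a
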