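-- Certificate checks for Fi24a.
import Cfsg.Agent.Lib.Compute.TC.Fi24a.Data
import Cfsg.Agent.Lib.Compute.TCSplit
set_option autoImplicit false
set_option Elab.async false
set_option maxRecDepth 1000000

open Cfsg.Agent.Lib.Compute.ToddCoxeterCore Cfsg.Agent.Lib.Compute.ToddCoxeterPresented Cfsg.Agent.Lib.Compute.TCFast

open Cfsg.Agent.Lib.Compute.TCSplit

namespace Cfsg.Agent.Lib.Compute.TC.Fi24a

theorem rel33x0 : allFrom (chkRelF cfg relsL) (nat_lit 205) (nat_lit 53889) = true := by decide +kernel
theorem rel33x1 : allFrom (chkRelF cfg relsL) (nat_lit 204) (nat_lit 54094) = true := by decide +kernel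
theorem rel33x2 : allFrom (chkRelF cfg relsL) (nat_lit 204) (nat_lit 54298) = true := by decide +kernel
theorem rel33x3 : allFrom (chkRelF cfg relsL) (nat_lit 204) (nat_lit 54502) = true := by decide +kernel
theorem rel33x4 : allFrom (chkRelF cfg relsL) (nat_lit 204) (nat_lit 54706) = true := by decide +kernel
theorem rel33x5 : allFrom (chkRelF cfg relsL) (nat_lit 204) (nat_lit 54910) = true := by decide +kernel
theorem rel33x6 : allFrom (chkRelF cfg relsL) (nat_lit 204) (nat_lit 55114) = true := by decide +kernel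
theorem rel33x7 : allFrom (chkRelF cfg relsL) (nat_lit 204) (nat_lit 55318) = true := by decide +kernel
theorem rel33c1 : allFrom (chkRelF cfg relsL) (nat_lit 409) (nat_lit 53889) = true := join rel33x0 rel33x1 rfl rfl
theorem rel33c2 : allFrom (chkRelF cfg relsL) (nat_lit 613) (nat_lit 53889) = true := join rel33c1 rel33x2 rfl rfl
theorem rel33c3 : allFrom (chkRelF cfg relsL) (nat_lit 817) (nat_lit 53889) = true := join rel33c2 rel33x3 rfl rfl
theorem rel33c4 : allFrom (chkRelF cfg relsL) (nat_lit 1021) (nat_lit 53889) = true := join rel33c3 rel33x4 rfl rfl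
theorem rel33c5 : allFrom (chkRelF cfg relsL) (nat_lit 1225) (nat_lit 53889) = true := join rel33c4 rel33x5 rfl rfl
theorem rel33c6 : allFrom (chkRelF cfg relsL) (nat_lit 1429) (nat_lit 53889) = true := join rel33c5 rel33x6 rfl rfl
theorem rel33 : allFrom (chkRelF cfg relsL) (nat_lit 1633) (nat_lit 53889) = true := join rel33c6 rel33x7 rfl rfl

end Cfsg.Agent.Lib.Compute.TC.Fi24a
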