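-- Certificate checks for Fi24a.
import Cfsg.Agent.Lib.Compute.TC.Fi24a.Data
import Cfsg.Agent.Lib.Compute.TCSplit
set_option autoImplicit false
set_option Elab.async false
set_option maxRecDepth 1000000

open Cfsg.Agent.Lib.Compute.ToddCoxeterCore Cfsg.Agent.Lib.Compute.ToddCoxeterPresented Cfsg.Agent.Lib.Compute.TCFast

open Cfsg.Agent.Lib.Compute.TCSplit

namespace Cfsg.Agent.Lib.Compute.TC.Fi24a

theorem rel34x0 : allFrom (chkRelF cfg relsL) (nat_lit 205) (nat_lit 55522) = true := by decide +kernel
theorem rel34x1 : allFrom (chkRelF cfg relsL) (nat_lit 204) (nat_lit 55727) = true := by decide +kernel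
theorem rel34x2 : allFrom (chkRelF cfg relsL) (nat_lit 204) (nat_lit 55931) = true := by decide +kernel
theorem rel34x3 : allFrom (chkRelF cfg relsL) (nat_lit 204) (nat_lit 56135) = true := by decide +kernel
theorem rel34x4 : allFrom (chkRelF cfg relsL) (nat_lit 204) (nat_lit 56339) = true := by decide +kernel
theorem rel34x5 : allFrom (chkRelF cfg relsL) (nat_lit 204) (nat_lit 56543) = true := by decide +kernel
theorem rel34x6 : allFrom (chkRelF cfg relsL) (nat_lit 204) (nat_lit 56747) = true := by decide +kernel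
theorem rel34x7 : allFrom (chkRelF cfg relsL) (nat_lit 204) (nat_lit 56951) = true := by decide +kernel
theorem rel34c1 : allFrom (chkRelF cfg relsL) (nat_lit 409) (nat_lit 55522) = true := join rel34x0 rel34x1 rfl rfl
theorem rel34c2 : allFrom (chkRelF cfg relsL) (nat_lit 613) (nat_lit 55522) = true := join rel34c1 rel34x2 rfl rfl
theorem rel34c3 : allFrom (chkRelF cfg relsL) (nat_lit 817) (nat_lit 55522) = true := join rel34c2 rel34x3 rfl rfl
theorem rel34c4 : allFrom (chkRelF cfg relsL) (nat_lit 1021) (nat_lit 55522) = true := join rel34c3 rel34x4 rfl rfl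
theorem rel34c5 : allFrom (chkRelF cfg relsL) (nat_lit 1225) (nat_lit 55522) = true := join rel34c4 rel34x5 rfl rfl
theorem rel34c6 : allFrom (chkRelF cfg relsL) (nat_lit 1429) (nat_lit 55522) = true := join rel34c5 rel34x6 rfl rfl
theorem rel34 : allFrom (chkRelF cfg relsL) (nat_lit 1633) (nat_lit 55522) = true := join rel34c6 rel34x7 rfl rfl

end Cfsg.Agent.Lib.Compute.TC.Fi24a
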