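-- Certificate checks for Fi24a.
import Cfsg.Agent.Lib.Compute.TC.Fi24a.Data
import Cfsg.Agent.Lib.Compute.TCSplit
set_option autoImplicit false
set_option Elab.async false
set_option maxRecDepth 1000000

open Cfsg.Agent.Lib.Compute.ToddCoxeterCore Cfsg.Agent.Lib.Compute.ToddCoxeterPresented Cfsg.Agent.Lib.Compute.TCFast

open Cfsg.Agent.Lib.Compute.TCSplit

namespace Cfsg.Agent.Lib.Compute.TC.Fi24a

theorem rel35x0 : allFrom (chkRelF cfg relsL) (nat_lit 205) (nat_lit 57155) = true := by decide +kernel
theorem rel35x1 : allFrom (chkRelF cfg relsL) (nat_lit 204) (nat_lit 57360) = true := by decide +kernel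
theorem rel35x2 : allFrom (chkRelF cfg relsL) (nat_lit 204) (nat_lit 57564) = true := by decide +kernel
theorem rel35x3 : allFrom (chkRelF cfg relsL) (nat_lit 204) (nat_lit 57768) = true := by decide +kernel
theorem rel35x4 : allFrom (chkRelF cfg relsL) (nat_lit 204) (nat_lit 57972) = true := by decide +kernel
theorem rel35x5 : allFrom (chkRelF cfg relsL) (nat_lit 204) (nat_lit 58176) = true := by decide +kernel
theorem rel35x6 : allFrom (chkRelF cfg relsL) (nat_lit 204) (nat_lit 58380) = true := by decide +kernel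
theorem rel35x7 : allFrom (chkRelF cfg relsL) (nat_lit 204) (nat_lit 58584) = true := by decide +kernel
theorem rel35c1 : allFrom (chkRelF cfg relsL) (nat_lit 409) (nat_lit 57155) = true := join rel35x0 rel35x1 rfl rfl
theorem rel35c2 : allFrom (chkRelF cfg relsL) (nat_lit 613) (nat_lit 57155) = true := join rel35c1 rel35x2 rfl rfl
theorem rel35c3 : allFrom (chkRelF cfg relsL) (nat_lit 817) (nat_lit 57155) = true := join rel35c2 rel35x3 rfl rfl
theorem rel35c4 : allFrom (chkRelF cfg relsL) (nat_lit 1021) (nat_lit 57155) = true := join rel35c3 rel35x4 rfl rfl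
theorem rel35c5 : allFrom (chkRelF cfg relsL) (nat_lit 1225) (nat_lit 57155) = true := join rel35c4 rel35x5 rfl rfl
theorem rel35c6 : allFrom (chkRelF cfg relsL) (nat_lit 1429) (nat_lit 57155) = true := join rel35c5 rel35x6 rfl rfl
theorem rel35 : allFrom (chkRelF cfg relsL) (nat_lit 1633) (nat_lit 57155) = true := join rel35c6 rel35x7 rfl rfl

end Cfsg.Agent.Lib.Compute.TC.Fi24a
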