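-- Certificate checks for Fi24a.
import Cfsg.Agent.Lib.Compute.TC.Fi24a.Data
import Cfsg.Agent.Lib.Compute.TCSplit
set_option autoImplicit false
set_option Elab.async false
set_option maxRecDepth 1000000

open Cfsg.Agent.Lib.Compute.ToddCoxeterCore Cfsg.Agent.Lib.Compute.ToddCoxeterPresented Cfsg.Agent.Lib.Compute.TCFast

open Cfsg.Agent.Lib.Compute.TCSplit

namespace Cfsg.Agent.Lib.Compute.TC.Fi24a

theorem rel36x0 : allFrom (chkRelF cfg relsL) (nat_lit 205) (nat_lit 58788) = true := by decide +kernel
theorem rel36x1 : allFrom (chkRelF cfg relsL) (nat_lit 204) (nat_lit 58993) = true := by decide +kernel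
theorem rel36x2 : allFrom (chkRelF cfg relsL) (nat_lit 204) (nat_lit 59197) = true := by decide +kernel
theorem rel36x3 : allFrom (chkRelF cfg relsL) (nat_lit 204) (nat_lit 59401) = true := by decide +kernel
theorem rel36x4 : allFrom (chkRelF cfg relsL) (nat_lit 204) (nat_lit 59605) = true := by decide +kernel
theorem rel36x5 : allFrom (chkRelF cfg relsL) (nat_lit 204) (nat_lit 59809) = true := by decide +kernel
theorem rel36x6 : allFrom (chkRelF cfg relsL) (nat_lit 204) (nat_lit 60013) = true := by decide +kernel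
theorem rel36x7 : allFrom (chkRelF cfg relsL) (nat_lit 204) (nat_lit 60217) = true := by decide +kernel
theorem rel36c1 : allFrom (chkRelF cfg relsL) (nat_lit 409) (nat_lit 58788) = true := join rel36x0 rel36x1 rfl rfl
theorem rel36c2 : allFrom (chkRelF cfg relsL) (nat_lit 613) (nat_lit 58788) = true := join rel36c1 rel36x2 rfl rfl
theorem rel36c3 : allFrom (chkRelF cfg relsL) (nat_lit 817) (nat_lit 58788) = true := join rel36c2 rel36x3 rfl rfl
theorem rel36c4 : allFrom (chkRelF cfg relsL) (nat_lit 1021) (nat_lit 58788) = true := join rel36c3 rel36x4 rfl rfl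
theorem rel36c5 : allFrom (chkRelF cfg relsL) (nat_lit 1225) (nat_lit 58788) = true := join rel36c4 rel36x5 rfl rfl
theorem rel36c6 : allFrom (chkRelF cfg relsL) (nat_lit 1429) (nat_lit 58788) = true := join rel36c5 rel36x6 rfl rfl
theorem rel36 : allFrom (chkRelF cfg relsL) (nat_lit 1633) (nat_lit 58788) = true := join rel36c6 rel36x7 rfl rfl

end Cfsg.Agent.Lib.Compute.TC.Fi24a
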