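-- Certificate checks for Fi24a.
import Cfsg.Agent.Lib.Compute.TC.Fi24a.Data
import Cfsg.Agent.Lib.Compute.TCSplit
set_option autoImplicit false
set_option Elab.async false
set_option maxRecDepth 1000000

open Cfsg.Agent.Lib.Compute.ToddCoxeterCore Cfsg.Agent.Lib.Compute.ToddCoxeterPresented Cfsg.Agent.Lib.Compute.TCFast

open Cfsg.Agent.Lib.Compute.TCSplit

namespace Cfsg.Agent.Lib.Compute.TC.Fi24a

theorem rel37x0 : allFrom (chkRelF cfg relsL) (nat_lit 205) (nat_lit 60421) = true := by decide +kernel
theorem rel37x1 : allFrom (chkRelF cfg relsL) (nat_lit 204) (nat_lit 60626) = true := by decide +kernel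
theorem rel37x2 : allFrom (chkRelF cfg relsL) (nat_lit 204) (nat_lit 60830) = true := by decide +kernel
theorem rel37x3 : allFrom (chkRelF cfg relsL) (nat_lit 204) (nat_lit 61034) = true := by decide +kernel
theorem rel37x4 : allFrom (chkRelF cfg relsL) (nat_lit 204) (nat_lit 61238) = true := by decide +kernel
theorem rel37x5 : allFrom (chkRelF cfg relsL) (nat_lit 204) (nat_lit 61442) = true := by decide +kernel
theorem rel37x6 : allFrom (chkRelF cfg relsL) (nat_lit 204) (nat_lit 61646) = true := by decide +kernel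
theorem rel37x7 : allFrom (chkRelF cfg relsL) (nat_lit 204) (nat_lit 61850) = true := by decide +kernel
theorem rel37c1 : allFrom (chkRelF cfg relsL) (nat_lit 409) (nat_lit 60421) = true := join rel37x0 rel37x1 rfl rfl
theorem rel37c2 : allFrom (chkRelF cfg relsL) (nat_lit 613) (nat_lit 60421) = true := join rel37c1 rel37x2 rfl rfl
theorem rel37c3 : allFrom (chkRelF cfg relsL) (nat_lit 817) (nat_lit 60421) = true := join rel37c2 rel37x3 rfl rfl
theorem rel37c4 : allFrom (chkRelF cfg relsL) (nat_lit 1021) (nat_lit 60421) = true := join rel37c3 rel37x4 rfl rfl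
theorem rel37c5 : allFrom (chkRelF cfg relsL) (nat_lit 1225) (nat_lit 60421) = true := join rel37c4 rel37x5 rfl rfl
theorem rel37c6 : allFrom (chkRelF cfg relsL) (nat_lit 1429) (nat_lit 60421) = true := join rel37c5 rel37x6 rfl rfl
theorem rel37 : allFrom (chkRelF cfg relsL) (nat_lit 1633) (nat_lit 60421) = true := join rel37c6 rel37x7 rfl rfl

end Cfsg.Agent.Lib.Compute.TC.Fi24a
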