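-- Certificate checks for Fi24a.
import Cfsg.Agent.Lib.Compute.TC.Fi24a.Data
import Cfsg.Agent.Lib.Compute.TCSplit
set_option autoImplicit false
set_option Elab.async false
set_option maxRecDepth 1000000

open Cfsg.Agent.Lib.Compute.ToddCoxeterCore Cfsg.Agent.Lib.Compute.ToddCoxeterPresented Cfsg.Agent.Lib.Compute.TCFast

open Cfsg.Agent.Lib.Compute.TCSplit

namespace Cfsg.Agent.Lib.Compute.TC.Fi24a

theorem rel38x0 : allFrom (chkRelF cfg relsL) (nat_lit 205) (nat_lit 62054) = true := by decide +kernel
theorem rel38x1 : allFrom (chkRelF cfg relsL) (nat_lit 204) (nat_lit 62259) = true := by decide +kernel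
theorem rel38x2 : allFrom (chkRelF cfg relsL) (nat_lit 204) (nat_lit 62463) = true := by decide +kernel
theorem rel38x3 : allFrom (chkRelF cfg relsL) (nat_lit 204) (nat_lit 62667) = true := by decide +kernel
theorem rel38x4 : allFrom (chkRelF cfg relsL) (nat_lit 204) (nat_lit 62871) = true := by decide +kernel
theorem rel38x5 : allFrom (chkRelF cfg relsL) (nat_lit 204) (nat_lit 63075) = true := by decide +kernel
theorem rel38x6 : allFrom (chkRelF cfg relsL) (nat_lit 204) (nat_lit 63279) = true := by decide +kernel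
theorem rel38x7 : allFrom (chkRelF cfg relsL) (nat_lit 204) (nat_lit 63483) = true := by decide +kernel
theorem rel38c1 : allFrom (chkRelF cfg relsL) (nat_lit 409) (nat_lit 62054) = true := join rel38x0 rel38x1 rfl rfl
theorem rel38c2 : allFrom (chkRelF cfg relsL) (nat_lit 613) (nat_lit 62054) = true := join rel38c1 rel38x2 rfl rfl
theorem rel38c3 : allFrom (chkRelF cfg relsL) (nat_lit 817) (nat_lit 62054) = true := join rel38c2 rel38x3 rfl rfl
theorem rel38c4 : allFrom (chkRelF cfg relsL) (nat_lit 1021) (nat_lit 62054) = true := join rel38c3 rel38x4 rfl rfl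
theorem rel38c5 : allFrom (chkRelF cfg relsL) (nat_lit 1225) (nat_lit 62054) = true := join rel38c4 rel38x5 rfl rfl
theorem rel38c6 : allFrom (chkRelF cfg relsL) (nat_lit 1429) (nat_lit 62054) = true := join rel38c5 rel38x6 rfl rfl
theorem rel38 : allFrom (chkRelF cfg relsL) (nat_lit 1633) (nat_lit 62054) = true := join rel38c6 rel38x7 rfl rfl

end Cfsg.Agent.Lib.Compute.TC.Fi24a
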