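-- Certificate checks for Fi24a.
import Cfsg.Agent.Lib.Compute.TC.Fi24a.Data
import Cfsg.Agent.Lib.Compute.TCSplit
set_option autoImplicit false
set_option Elab.async false
set_option maxRecDepth 1000000

open Cfsg.Agent.Lib.Compute.ToddCoxeterCore Cfsg.Agent.Lib.Compute.ToddCoxeterPresented Cfsg.Agent.Lib.Compute.TCFast

open Cfsg.Agent.Lib.Compute.TCSplit

namespace Cfsg.Agent.Lib.Compute.TC.Fi24a

theorem rel39x0 : allFrom (chkRelF cfg relsL) (nat_lit 205) (nat_lit 63687) = true := by decide +kernel
theorem rel39x1 : allFrom (chkRelF cfg relsL) (nat_lit 204) (nat_lit 63892) = true := by decide +kernel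
theorem rel39x2 : allFrom (chkRelF cfg relsL) (nat_lit 204) (nat_lit 64096) = true := by decide +kernel
theorem rel39x3 : allFrom (chkRelF cfg relsL) (nat_lit 204) (nat_lit 64300) = true := by decide +kernel
theorem rel39x4 : allFrom (chkRelF cfg relsL) (nat_lit 204) (nat_lit 64504) = true := by decide +kernel
theorem rel39x5 : allFrom (chkRelF cfg relsL) (nat_lit 204) (nat_lit 64708) = true := by decide +kernel
theorem rel39x6 : allFrom (chkRelF cfg relsL) (nat_lit 204) (nat_lit 64912) = true := by decide +kernel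
theorem rel39x7 : allFrom (chkRelF cfg relsL) (nat_lit 204) (nat_lit 65116) = true := by decide +kernel
theorem rel39c1 : allFrom (chkRelF cfg relsL) (nat_lit 409) (nat_lit 63687) = true := join rel39x0 rel39x1 rfl rfl
theorem rel39c2 : allFrom (chkRelF cfg relsL) (nat_lit 613) (nat_lit 63687) = true := join rel39c1 rel39x2 rfl rfl
theorem rel39c3 : allFrom (chkRelF cfg relsL) (nat_lit 817) (nat_lit 63687) = true := join rel39c2 rel39x3 rfl rfl
theorem rel39c4 : allFrom (chkRelF cfg relsL) (nat_lit 1021) (nat_lit 63687) = true := join rel39c3 rel39x4 rfl rfl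
theorem rel39c5 : allFrom (chkRelF cfg relsL) (nat_lit 1225) (nat_lit 63687) = true := join rel39c4 rel39x5 rfl rfl
theorem rel39c6 : allFrom (chkRelF cfg relsL) (nat_lit 1429) (nat_lit 63687) = true := join rel39c5 rel39x6 rfl rfl
theorem rel39 : allFrom (chkRelF cfg relsL) (nat_lit 1633) (nat_lit 63687) = true := join rel39c6 rel39x7 rfl rfl

end Cfsg.Agent.Lib.Compute.TC.Fi24a
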