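-- Certificate checks for Fi24a.
import Cfsg.Agent.Lib.Compute.TC.Fi24a.Data
import Cfsg.Agent.Lib.Compute.TCSplit
set_option autoImplicit false
set_option Elab.async false
set_option maxRecDepth 1000000

open Cfsg.Agent.Lib.Compute.ToddCoxeterCore Cfsg.Agent.Lib.Compute.ToddCoxeterPresented Cfsg.Agent.Lib.Compute.TCFast

open Cfsg.Agent.Lib.Compute.TCSplit

namespace Cfsg.Agent.Lib.Compute.TC.Fi24a

theorem rel4x0 : allFrom (chkRelF cfg relsL) (nat_lit 205) (nat_lit 6532) = true := by decide +kernel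
theorem rel4x1 : allFrom (chkRelF cfg relsL) (nat_lit 204) (nat_lit 6737) = true := by decide +kernel
theorem rel4x2 : allFrom (chkRelF cfg relsL) (nat_lit 204) (nat_lit 6941) = true := by decide +kernel
theorem rel4x3 : allFrom (chkRelF cfg relsL) (nat_lit 204) (nat_lit 7145) = true := by decide +kernel
theorem rel4x4 : allFrom (chkRelF cfg relsL) (nat_lit 204) (nat_lit 7349) = true := by decide +kernel
theorem rel4x5 : allFrom (chkRelF cfg relsL) (nat_lit 204) (nat_lit 7553) = true := by decide +kernel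
theorem rel4x6 : allFrom (chkRelF cfg relsL) (nat_lit 204) (nat_lit 7757) = true := by decide +kernel
theorem rel4x7 : allFrom (chkRelF cfg relsL) (nat_lit 204) (nat_lit 7961) = true := by decide +kernel
theorem rel4c1 : allFrom (chkRelF cfg relsL) (nat_lit 409) (nat_lit 6532) = true := join rel4x0 rel4x1 rfl rfl
theorem rel4c2 : allFrom (chkRelF cfg relsL) (nat_lit 613) (nat_lit 6532) = true := join rel4c1 rel4x2 rfl rfl
theorem rel4c3 : allFrom (chkRelF cfg relsL) (nat_lit 817) (nat_lit 6532) = true := join rel4c2 rel4x3 rfl rfl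
theorem rel4c4 : allFrom (chkRelF cfg relsL) (nat_lit 1021) (nat_lit 6532) = true := join rel4c3 rel4x4 rfl rfl
theorem rel4c5 : allFrom (chkRelF cfg relsL) (nat_lit 1225) (nat_lit 6532) = true := join rel4c4 rel4x5 rfl rfl
theorem rel4c6 : allFrom (chkRelF cfg relsL) (nat_lit 1429) (nat_lit 6532) = true := join rel4c5 rel4x6 rfl rfl
theorem rel4 : allFrom (chkRelF cfg relsL) (nat_lit 1633) (nat_lit 6532) = true := join rel4c6 rel4x7 rfl rfl

end Cfsg.Agent.Lib.Compute.TC.Fi24a
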