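-- Certificate checks for Fi24a.
import Cfsg.Agent.Lib.Compute.TC.Fi24a.Data
import Cfsg.Agent.Lib.Compute.TCSplit
set_option autoImplicit false
set_option Elab.async false
set_option maxRecDepth 1000000

open Cfsg.Agent.Lib.Compute.ToddCoxeterCore Cfsg.Agent.Lib.Compute.ToddCoxeterPresented Cfsg.Agent.Lib.Compute.TCFast

open Cfsg.Agent.Lib.Compute.TCSplit

namespace Cfsg.Agent.Lib.Compute.TC.Fi24a

theorem rel40x0 : allFrom (chkRelF cfg relsL) (nat_lit 205) (nat_lit 65320) = true := by decide +kernel
theorem rel40x1 : allFrom (chkRelF cfg relsL) (nat_lit 204) (nat_lit 65525) = true := by decide +kernel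
theorem rel40x2 : allFrom (chkRelF cfg relsL) (nat_lit 204) (nat_lit 65729) = true := by decide +kernel
theorem rel40x3 : allFrom (chkRelF cfg relsL) (nat_lit 204) (nat_lit 65933) = true := by decide +kernel
theorem rel40x4 : allFrom (chkRelF cfg relsL) (nat_lit 204) (nat_lit 66137) = true := by decide +kernel
theorem rel40x5 : allFrom (chkRelF cfg relsL) (nat_lit 204) (nat_lit 66341) = true := by decide +kernel
theorem rel40x6 : allFrom (chkRelF cfg relsL) (nat_lit 204) (nat_lit 66545) = true := by decide +kernel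
theorem rel40x7 : allFrom (chkRelF cfg relsL) (nat_lit 204) (nat_lit 66749) = true := by decide +kernel
theorem rel40c1 : allFrom (chkRelF cfg relsL) (nat_lit 409) (nat_lit 65320) = true := join rel40x0 rel40x1 rfl rfl
theorem rel40c2 : allFrom (chkRelF cfg relsL) (nat_lit 613) (nat_lit 65320) = true := join rel40c1 rel40x2 rfl rfl
theorem rel40c3 : allFrom (chkRelF cfg relsL) (nat_lit 817) (nat_lit 65320) = true := join rel40c2 rel40x3 rfl rfl
theorem rel40c4 : allFrom (chkRelF cfg relsL) (nat_lit 1021) (nat_lit 65320) = true := join rel40c3 rel40x4 rfl rfl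
theorem rel40c5 : allFrom (chkRelF cfg relsL) (nat_lit 1225) (nat_lit 65320) = true := join rel40c4 rel40x5 rfl rfl
theorem rel40c6 : allFrom (chkRelF cfg relsL) (nat_lit 1429) (nat_lit 65320) = true := join rel40c5 rel40x6 rfl rfl
theorem rel40 : allFrom (chkRelF cfg relsL) (nat_lit 1633) (nat_lit 65320) = true := join rel40c6 rel40x7 rfl rfl

end Cfsg.Agent.Lib.Compute.TC.Fi24a
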