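-- Certificate checks for Fi24a.
import Cfsg.Agent.Lib.Compute.TC.Fi24a.Data
import Cfsg.Agent.Lib.Compute.TCSplit
set_option autoImplicit false
set_option Elab.async false
set_option maxRecDepth 1000000

open Cfsg.Agent.Lib.Compute.ToddCoxeterCore Cfsg.Agent.Lib.Compute.ToddCoxeterPresented Cfsg.Agent.Lib.Compute.TCFast

open Cfsg.Agent.Lib.Compute.TCSplit

namespace Cfsg.Agent.Lib.Compute.TC.Fi24a

theorem rel41x0 : allFrom (chkRelF cfg relsL) (nat_lit 205) (nat_lit 66953) = true := by decide +kernel
theorem rel41x1 : allFrom (chkRelF cfg relsL) (nat_lit 204) (nat_lit 67158) = true := by decide +kernel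
theorem rel41x2 : allFrom (chkRelF cfg relsL) (nat_lit 204) (nat_lit 67362) = true := by decide +kernel
theorem rel41x3 : allFrom (chkRelF cfg relsL) (nat_lit 204) (nat_lit 67566) = true := by decide +kernel
theorem rel41x4 : allFrom (chkRelF cfg relsL) (nat_lit 204) (nat_lit 67770) = true := by decide +kernel
theorem rel41x5 : allFrom (chkRelF cfg relsL) (nat_lit 204) (nat_lit 67974) = true := by decide +kernel
theorem rel41x6 : allFrom (chkRelF cfg relsL) (nat_lit 204) (nat_lit 68178) = true := by decide +kernel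
theorem rel41x7 : allFrom (chkRelF cfg relsL) (nat_lit 204) (nat_lit 68382) = true := by decide +kernel
theorem rel41c1 : allFrom (chkRelF cfg relsL) (nat_lit 409) (nat_lit 66953) = true := join rel41x0 rel41x1 rfl rfl
theorem rel41c2 : allFrom (chkRelF cfg relsL) (nat_lit 613) (nat_lit 66953) = true := join rel41c1 rel41x2 rfl rfl
theorem rel41c3 : allFrom (chkRelF cfg relsL) (nat_lit 817) (nat_lit 66953) = true := join rel41c2 rel41x3 rfl rfl
theorem rel41c4 : allFrom (chkRelF cfg relsL) (nat_lit 1021) (nat_lit 66953) = true := join rel41c3 rel41x4 rfl rfl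
theorem rel41c5 : allFrom (chkRelF cfg relsL) (nat_lit 1225) (nat_lit 66953) = true := join rel41c4 rel41x5 rfl rfl
theorem rel41c6 : allFrom (chkRelF cfg relsL) (nat_lit 1429) (nat_lit 66953) = true := join rel41c5 rel41x6 rfl rfl
theorem rel41 : allFrom (chkRelF cfg relsL) (nat_lit 1633) (nat_lit 66953) = true := join rel41c6 rel41x7 rfl rfl

end Cfsg.Agent.Lib.Compute.TC.Fi24a
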