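-- Certificate checks for Fi24a.
import Cfsg.Agent.Lib.Compute.TC.Fi24a.Data
import Cfsg.Agent.Lib.Compute.TCSplit
set_option autoImplicit false
set_option Elab.async false
set_option maxRecDepth 1000000

open Cfsg.Agent.Lib.Compute.ToddCoxeterCore Cfsg.Agent.Lib.Compute.ToddCoxeterPresented Cfsg.Agent.Lib.Compute.TCFast

open Cfsg.Agent.Lib.Compute.TCSplit

namespace Cfsg.Agent.Lib.Compute.TC.Fi24a

theorem rel42x0 : allFrom (chkRelF cfg relsL) (nat_lit 205) (nat_lit 68586) = true := by decide +kernel
theorem rel42x1 : allFrom (chkRelF cfg relsL) (nat_lit 204) (nat_lit 68791) = true := by decide +kernel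
theorem rel42x2 : allFrom (chkRelF cfg relsL) (nat_lit 204) (nat_lit 68995) = true := by decide +kernel
theorem rel42x3 : allFrom (chkRelF cfg relsL) (nat_lit 204) (nat_lit 69199) = true := by decide +kernel
theorem rel42x4 : allFrom (chkRelF cfg relsL) (nat_lit 204) (nat_lit 69403) = true := by decide +kernel
theorem rel42x5 : allFrom (chkRelF cfg relsL) (nat_lit 204) (nat_lit 69607) = true := by decide +kernel
theorem rel42x6 : allFrom (chkRelF cfg relsL) (nat_lit 204) (nat_lit 69811) = true := by decide +kernel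
theorem rel42x7 : allFrom (chkRelF cfg relsL) (nat_lit 204) (nat_lit 70015) = true := by decide +kernel
theorem rel42c1 : allFrom (chkRelF cfg relsL) (nat_lit 409) (nat_lit 68586) = true := join rel42x0 rel42x1 rfl rfl
theorem rel42c2 : allFrom (chkRelF cfg relsL) (nat_lit 613) (nat_lit 68586) = true := join rel42c1 rel42x2 rfl rfl
theorem rel42c3 : allFrom (chkRelF cfg relsL) (nat_lit 817) (nat_lit 68586) = true := join rel42c2 rel42x3 rfl rfl
theorem rel42c4 : allFrom (chkRelF cfg relsL) (nat_lit 1021) (nat_lit 68586) = true := join rel42c3 rel42x4 rfl rfl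
theorem rel42c5 : allFrom (chkRelF cfg relsL) (nat_lit 1225) (nat_lit 68586) = true := join rel42c4 rel42x5 rfl rfl
theorem rel42c6 : allFrom (chkRelF cfg relsL) (nat_lit 1429) (nat_lit 68586) = true := join rel42c5 rel42x6 rfl rfl
theorem rel42 : allFrom (chkRelF cfg relsL) (nat_lit 1633) (nat_lit 68586) = true := join rel42c6 rel42x7 rfl rfl

end Cfsg.Agent.Lib.Compute.TC.Fi24a
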