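-- Certificate checks for Fi24a.
import Cfsg.Agent.Lib.Compute.TC.Fi24a.Data
import Cfsg.Agent.Lib.Compute.TCSplit
set_option autoImplicit false
set_option Elab.async false
set_option maxRecDepth 1000000

open Cfsg.Agent.Lib.Compute.ToddCoxeterCore Cfsg.Agent.Lib.Compute.ToddCoxeterPresented Cfsg.Agent.Lib.Compute.TCFast

open Cfsg.Agent.Lib.Compute.TCSplit

namespace Cfsg.Agent.Lib.Compute.TC.Fi24a

theorem rel44x0 : allFrom (chkRelF cfg relsL) (nat_lit 205) (nat_lit 71852) = true := by decide +kernel
theorem rel44x1 : allFrom (chkRelF cfg relsL) (nat_lit 204) (nat_lit 72057) = true := by decide +kernel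
theorem rel44x2 : allFrom (chkRelF cfg relsL) (nat_lit 204) (nat_lit 72261) = true := by decide +kernel
theorem rel44x3 : allFrom (chkRelF cfg relsL) (nat_lit 204) (nat_lit 72465) = true := by decide +kernel
theorem rel44x4 : allFrom (chkRelF cfg relsL) (nat_lit 204) (nat_lit 72669) = true := by decide +kernel
theorem rel44x5 : allFrom (chkRelF cfg relsL) (nat_lit 204) (nat_lit 72873) = true := by decide +kernel
theorem rel44x6 : allFrom (chkRelF cfg relsL) (nat_lit 204) (nat_lit 73077) = true := by decide +kernel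
theorem rel44x7 : allFrom (chkRelF cfg relsL) (nat_lit 204) (nat_lit 73281) = true := by decide +kernel
theorem rel44c1 : allFrom (chkRelF cfg relsL) (nat_lit 409) (nat_lit 71852) = true := join rel44x0 rel44x1 rfl rfl
theorem rel44c2 : allFrom (chkRelF cfg relsL) (nat_lit 613) (nat_lit 71852) = true := join rel44c1 rel44x2 rfl rfl
theorem rel44c3 : allFrom (chkRelF cfg relsL) (nat_lit 817) (nat_lit 71852) = true := join rel44c2 rel44x3 rfl rfl
theorem rel44c4 : allFrom (chkRelF cfg relsL) (nat_lit 1021) (nat_lit 71852) = true := join rel44c3 rel44x4 rfl rfl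
theorem rel44c5 : allFrom (chkRelF cfg relsL) (nat_lit 1225) (nat_lit 71852) = true := join rel44c4 rel44x5 rfl rfl
theorem rel44c6 : allFrom (chkRelF cfg relsL) (nat_lit 1429) (nat_lit 71852) = true := join rel44c5 rel44x6 rfl rfl
theorem rel44 : allFrom (chkRelF cfg relsL) (nat_lit 1633) (nat_lit 71852) = true := join rel44c6 rel44x7 rfl rfl

end Cfsg.Agent.Lib.Compute.TC.Fi24a
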