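-- Certificate checks for Fi24a.
import Cfsg.Agent.Lib.Compute.TC.Fi24a.Data
import Cfsg.Agent.Lib.Compute.TCSplit
set_option autoImplicit false
set_option Elab.async false
set_option maxRecDepth 1000000

open Cfsg.Agent.Lib.Compute.ToddCoxeterCore Cfsg.Agent.Lib.Compute.ToddCoxeterPresented Cfsg.Agent.Lib.Compute.TCFast

open Cfsg.Agent.Lib.Compute.TCSplit

namespace Cfsg.Agent.Lib.Compute.TC.Fi24a

theorem rel45x0 : allFrom (chkRelF cfg relsL) (nat_lit 205) (nat_lit 73485) = true := by decide +kernel
theorem rel45x1 : allFrom (chkRelF cfg relsL) (nat_lit 204) (nat_lit 73690) = true := by decide +kernel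
theorem rel45x2 : allFrom (chkRelF cfg relsL) (nat_lit 204) (nat_lit 73894) = true := by decide +kernel
theorem rel45x3 : allFrom (chkRelF cfg relsL) (nat_lit 204) (nat_lit 74098) = true := by decide +kernel
theorem rel45x4 : allFrom (chkRelF cfg relsL) (nat_lit 204) (nat_lit 74302) = true := by decide +kernel
theorem rel45x5 : allFrom (chkRelF cfg relsL) (nat_lit 204) (nat_lit 74506) = true := by decide +kernel
theorem rel45x6 : allFrom (chkRelF cfg relsL) (nat_lit 204) (nat_lit 74710) = true := by decide +kernel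
theorem rel45x7 : allFrom (chkRelF cfg relsL) (nat_lit 204) (nat_lit 74914) = true := by decide +kernel
theorem rel45c1 : allFrom (chkRelF cfg relsL) (nat_lit 409) (nat_lit 73485) = true := join rel45x0 rel45x1 rfl rfl
theorem rel45c2 : allFrom (chkRelF cfg relsL) (nat_lit 613) (nat_lit 73485) = true := join rel45c1 rel45x2 rfl rfl
theorem rel45c3 : allFrom (chkRelF cfg relsL) (nat_lit 817) (nat_lit 73485) = true := join rel45c2 rel45x3 rfl rfl
theorem rel45c4 : allFrom (chkRelF cfg relsL) (nat_lit 1021) (nat_lit 73485) = true := join rel45c3 rel45x4 rfl rfl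
theorem rel45c5 : allFrom (chkRelF cfg relsL) (nat_lit 1225) (nat_lit 73485) = true := join rel45c4 rel45x5 rfl rfl
theorem rel45c6 : allFrom (chkRelF cfg relsL) (nat_lit 1429) (nat_lit 73485) = true := join rel45c5 rel45x6 rfl rfl
theorem rel45 : allFrom (chkRelF cfg relsL) (nat_lit 1633) (nat_lit 73485) = true := join rel45c6 rel45x7 rfl rfl

end Cfsg.Agent.Lib.Compute.TC.Fi24a
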