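-- Certificate checks for Fi24a.
import Cfsg.Agent.Lib.Compute.TC.Fi24a.Data
import Cfsg.Agent.Lib.Compute.TCSplit
set_option autoImplicit false
set_option Elab.async false
set_option maxRecDepth 1000000

open Cfsg.Agent.Lib.Compute.ToddCoxeterCore Cfsg.Agent.Lib.Compute.ToddCoxeterPresented Cfsg.Agent.Lib.Compute.TCFast

open Cfsg.Agent.Lib.Compute.TCSplit

namespace Cfsg.Agent.Lib.Compute.TC.Fi24a

theorem rel46x0 : allFrom (chkRelF cfg relsL) (nat_lit 205) (nat_lit 75118) = true := by decide +kernel
theorem rel46x1 : allFrom (chkRelF cfg relsL) (nat_lit 204) (nat_lit 75323) = true := by decide +kernel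
theorem rel46x2 : allFrom (chkRelF cfg relsL) (nat_lit 204) (nat_lit 75527) = true := by decide +kernel
theorem rel46x3 : allFrom (chkRelF cfg relsL) (nat_lit 204) (nat_lit 75731) = true := by decide +kernel
theorem rel46x4 : allFrom (chkRelF cfg relsL) (nat_lit 204) (nat_lit 75935) = true := by decide +kernel
theorem rel46x5 : allFrom (chkRelF cfg relsL) (nat_lit 204) (nat_lit 76139) = true := by decide +kernel
theorem rel46x6 : allFrom (chkRelF cfg relsL) (nat_lit 204) (nat_lit 76343) = true := by decide +kernel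
theorem rel46x7 : allFrom (chkRelF cfg relsL) (nat_lit 204) (nat_lit 76547) = true := by decide +kernel
theorem rel46c1 : allFrom (chkRelF cfg relsL) (nat_lit 409) (nat_lit 75118) = true := join rel46x0 rel46x1 rfl rfl
theorem rel46c2 : allFrom (chkRelF cfg relsL) (nat_lit 613) (nat_lit 75118) = true := join rel46c1 rel46x2 rfl rfl
theorem rel46c3 : allFrom (chkRelF cfg relsL) (nat_lit 817) (nat_lit 75118) = true := join rel46c2 rel46x3 rfl rfl
theorem rel46c4 : allFrom (chkRelF cfg relsL) (nat_lit 1021) (nat_lit 75118) = true := join rel46c3 rel46x4 rfl rfl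
theorem rel46c5 : allFrom (chkRelF cfg relsL) (nat_lit 1225) (nat_lit 75118) = true := join rel46c4 rel46x5 rfl rfl
theorem rel46c6 : allFrom (chkRelF cfg relsL) (nat_lit 1429) (nat_lit 75118) = true := join rel46c5 rel46x6 rfl rfl
theorem rel46 : allFrom (chkRelF cfg relsL) (nat_lit 1633) (nat_lit 75118) = true := join rel46c6 rel46x7 rfl rfl

end Cfsg.Agent.Lib.Compute.TC.Fi24a
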