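-- Certificate checks for Fi24a.
import Cfsg.Agent.Lib.Compute.TC.Fi24a.Data
import Cfsg.Agent.Lib.Compute.TCSplit
set_option autoImplicit false
set_option Elab.async false
set_option maxRecDepth 1000000

open Cfsg.Agent.Lib.Compute.ToddCoxeterCore Cfsg.Agent.Lib.Compute.ToddCoxeterPresented Cfsg.Agent.Lib.Compute.TCFast

open Cfsg.Agent.Lib.Compute.TCSplit

namespace Cfsg.Agent.Lib.Compute.TC.Fi24a

theorem rel47x0 : allFrom (chkRelF cfg relsL) (nat_lit 205) (nat_lit 76751) = true := by decide +kernel
theorem rel47x1 : allFrom (chkRelF cfg relsL) (nat_lit 204) (nat_lit 76956) = true := by decide +kernel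
theorem rel47x2 : allFrom (chkRelF cfg relsL) (nat_lit 204) (nat_lit 77160) = true := by decide +kernel
theorem rel47x3 : allFrom (chkRelF cfg relsL) (nat_lit 204) (nat_lit 77364) = true := by decide +kernel
theorem rel47x4 : allFrom (chkRelF cfg relsL) (nat_lit 204) (nat_lit 77568) = true := by decide +kernel
theorem rel47x5 : allFrom (chkRelF cfg relsL) (nat_lit 204) (nat_lit 77772) = true := by decide +kernel
theorem rel47x6 : allFrom (chkRelF cfg relsL) (nat_lit 204) (nat_lit 77976) = true := by decide +kernel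
theorem rel47x7 : allFrom (chkRelF cfg relsL) (nat_lit 204) (nat_lit 78180) = true := by decide +kernel
theorem rel47c1 : allFrom (chkRelF cfg relsL) (nat_lit 409) (nat_lit 76751) = true := join rel47x0 rel47x1 rfl rfl
theorem rel47c2 : allFrom (chkRelF cfg relsL) (nat_lit 613) (nat_lit 76751) = true := join rel47c1 rel47x2 rfl rfl
theorem rel47c3 : allFrom (chkRelF cfg relsL) (nat_lit 817) (nat_lit 76751) = true := join rel47c2 rel47x3 rfl rfl
theorem rel47c4 : allFrom (chkRelF cfg relsL) (nat_lit 1021) (nat_lit 76751) = true := join rel47c3 rel47x4 rfl rfl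
theorem rel47c5 : allFrom (chkRelF cfg relsL) (nat_lit 1225) (nat_lit 76751) = true := join rel47c4 rel47x5 rfl rfl
theorem rel47c6 : allFrom (chkRelF cfg relsL) (nat_lit 1429) (nat_lit 76751) = true := join rel47c5 rel47x6 rfl rfl
theorem rel47 : allFrom (chkRelF cfg relsL) (nat_lit 1633) (nat_lit 76751) = true := join rel47c6 rel47x7 rfl rfl

end Cfsg.Agent.Lib.Compute.TC.Fi24a
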