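-- Certificate checks for Fi24a.
import Cfsg.Agent.Lib.Compute.TC.Fi24a.Data
import Cfsg.Agent.Lib.Compute.TCSplit
set_option autoImplicit false
set_option Elab.async false
set_option maxRecDepth 1000000

open Cfsg.Agent.Lib.Compute.ToddCoxeterCore Cfsg.Agent.Lib.Compute.ToddCoxeterPresented Cfsg.Agent.Lib.Compute.TCFast

open Cfsg.Agent.Lib.Compute.TCSplit

namespace Cfsg.Agent.Lib.Compute.TC.Fi24a

theorem rel48x0 : allFrom (chkRelF cfg relsL) (nat_lit 205) (nat_lit 78384) = true := by decide +kernel
theorem rel48x1 : allFrom (chkRelF cfg relsL) (nat_lit 204) (nat_lit 78589) = true := by decide +kernel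
theorem rel48x2 : allFrom (chkRelF cfg relsL) (nat_lit 204) (nat_lit 78793) = true := by decide +kernel
theorem rel48x3 : allFrom (chkRelF cfg relsL) (nat_lit 204) (nat_lit 78997) = true := by decide +kernel
theorem rel48x4 : allFrom (chkRelF cfg relsL) (nat_lit 204) (nat_lit 79201) = true := by decide +kernel
theorem rel48x5 : allFrom (chkRelF cfg relsL) (nat_lit 204) (nat_lit 79405) = true := by decide +kernel
theorem rel48x6 : allFrom (chkRelF cfg relsL) (nat_lit 204) (nat_lit 79609) = true := by decide +kernel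
theorem rel48x7 : allFrom (chkRelF cfg relsL) (nat_lit 204) (nat_lit 79813) = true := by decide +kernel
theorem rel48c1 : allFrom (chkRelF cfg relsL) (nat_lit 409) (nat_lit 78384) = true := join rel48x0 rel48x1 rfl rfl
theorem rel48c2 : allFrom (chkRelF cfg relsL) (nat_lit 613) (nat_lit 78384) = true := join rel48c1 rel48x2 rfl rfl
theorem rel48c3 : allFrom (chkRelF cfg relsL) (nat_lit 817) (nat_lit 78384) = true := join rel48c2 rel48x3 rfl rfl
theorem rel48c4 : allFrom (chkRelF cfg relsL) (nat_lit 1021) (nat_lit 78384) = true := join rel48c3 rel48x4 rfl rfl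
theorem rel48c5 : allFrom (chkRelF cfg relsL) (nat_lit 1225) (nat_lit 78384) = true := join rel48c4 rel48x5 rfl rfl
theorem rel48c6 : allFrom (chkRelF cfg relsL) (nat_lit 1429) (nat_lit 78384) = true := join rel48c5 rel48x6 rfl rfl
theorem rel48 : allFrom (chkRelF cfg relsL) (nat_lit 1633) (nat_lit 78384) = true := join rel48c6 rel48x7 rfl rfl

end Cfsg.Agent.Lib.Compute.TC.Fi24a
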