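-- Certificate checks for Fi24a.
import Cfsg.Agent.Lib.Compute.TC.Fi24a.Data
import Cfsg.Agent.Lib.Compute.TCSplit
set_option autoImplicit false
set_option Elab.async false
set_option maxRecDepth 1000000

open Cfsg.Agent.Lib.Compute.ToddCoxeterCore Cfsg.Agent.Lib.Compute.ToddCoxeterPresented Cfsg.Agent.Lib.Compute.TCFast

open Cfsg.Agent.Lib.Compute.TCSplit

namespace Cfsg.Agent.Lib.Compute.TC.Fi24a

theorem rel49x0 : allFrom (chkRelF cfg relsL) (nat_lit 205) (nat_lit 80017) = true := by decide +kernel
theorem rel49x1 : allFrom (chkRelF cfg relsL) (nat_lit 204) (nat_lit 80222) = true := by decide +kernel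
theorem rel49x2 : allFrom (chkRelF cfg relsL) (nat_lit 204) (nat_lit 80426) = true := by decide +kernel
theorem rel49x3 : allFrom (chkRelF cfg relsL) (nat_lit 204) (nat_lit 80630) = true := by decide +kernel
theorem rel49x4 : allFrom (chkRelF cfg relsL) (nat_lit 204) (nat_lit 80834) = true := by decide +kernel
theorem rel49x5 : allFrom (chkRelF cfg relsL) (nat_lit 204) (nat_lit 81038) = true := by decide +kernel
theorem rel49x6 : allFrom (chkRelF cfg relsL) (nat_lit 204) (nat_lit 81242) = true := by decide +kernel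
theorem rel49x7 : allFrom (chkRelF cfg relsL) (nat_lit 204) (nat_lit 81446) = true := by decide +kernel
theorem rel49c1 : allFrom (chkRelF cfg relsL) (nat_lit 409) (nat_lit 80017) = true := join rel49x0 rel49x1 rfl rfl
theorem rel49c2 : allFrom (chkRelF cfg relsL) (nat_lit 613) (nat_lit 80017) = true := join rel49c1 rel49x2 rfl rfl
theorem rel49c3 : allFrom (chkRelF cfg relsL) (nat_lit 817) (nat_lit 80017) = true := join rel49c2 rel49x3 rfl rfl
theorem rel49c4 : allFrom (chkRelF cfg relsL) (nat_lit 1021) (nat_lit 80017) = true := join rel49c3 rel49x4 rfl rfl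
theorem rel49c5 : allFrom (chkRelF cfg relsL) (nat_lit 1225) (nat_lit 80017) = true := join rel49c4 rel49x5 rfl rfl
theorem rel49c6 : allFrom (chkRelF cfg relsL) (nat_lit 1429) (nat_lit 80017) = true := join rel49c5 rel49x6 rfl rfl
theorem rel49 : allFrom (chkRelF cfg relsL) (nat_lit 1633) (nat_lit 80017) = true := join rel49c6 rel49x7 rfl rfl

end Cfsg.Agent.Lib.Compute.TC.Fi24a
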