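-- Certificate checks for Fi24a.
import Cfsg.Agent.Lib.Compute.TC.Fi24a.Data
import Cfsg.Agent.Lib.Compute.TCSplit
set_option autoImplicit false
set_option Elab.async false
set_option maxRecDepth 1000000

open Cfsg.Agent.Lib.Compute.ToddCoxeterCore Cfsg.Agent.Lib.Compute.ToddCoxeterPresented Cfsg.Agent.Lib.Compute.TCFast

open Cfsg.Agent.Lib.Compute.TCSplit

namespace Cfsg.Agent.Lib.Compute.TC.Fi24a

theorem rel5x0 : allFrom (chkRelF cfg relsL) (nat_lit 205) (nat_lit 8165) = true := by decide +kernel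
theorem rel5x1 : allFrom (chkRelF cfg relsL) (nat_lit 204) (nat_lit 8370) = true := by decide +kernel
theorem rel5x2 : allFrom (chkRelF cfg relsL) (nat_lit 204) (nat_lit 8574) = true := by decide +kernel
theorem rel5x3 : allFrom (chkRelF cfg relsL) (nat_lit 204) (nat_lit 8778) = true := by decide +kernel
theorem rel5x4 : allFrom (chkRelF cfg relsL) (nat_lit 204) (nat_lit 8982) = true := by decide +kernel
theorem rel5x5 : allFrom (chkRelF cfg relsL) (nat_lit 204) (nat_lit 9186) = true := by decide +kernel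
theorem rel5x6 : allFrom (chkRelF cfg relsL) (nat_lit 204) (nat_lit 9390) = true := by decide +kernel
theorem rel5x7 : allFrom (chkRelF cfg relsL) (nat_lit 204) (nat_lit 9594) = true := by decide +kernel
theorem rel5c1 : allFrom (chkRelF cfg relsL) (nat_lit 409) (nat_lit 8165) = true := join rel5x0 rel5x1 rfl rfl
theorem rel5c2 : allFrom (chkRelF cfg relsL) (nat_lit 613) (nat_lit 8165) = true := join rel5c1 rel5x2 rfl rfl
theorem rel5c3 : allFrom (chkRelF cfg relsL) (nat_lit 817) (nat_lit 8165) = true := join rel5c2 rel5x3 rfl rfl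
theorem rel5c4 : allFrom (chkRelF cfg relsL) (nat_lit 1021) (nat_lit 8165) = true := join rel5c3 rel5x4 rfl rfl
theorem rel5c5 : allFrom (chkRelF cfg relsL) (nat_lit 1225) (nat_lit 8165) = true := join rel5c4 rel5x5 rfl rfl
theorem rel5c6 : allFrom (chkRelF cfg relsL) (nat_lit 1429) (nat_lit 8165) = true := join rel5c5 rel5x6 rfl rfl
theorem rel5 : allFrom (chkRelF cfg relsL) (nat_lit 1633) (nat_lit 8165) = true := join rel5c6 rel5x7 rfl rfl

end Cfsg.Agent.Lib.Compute.TC.Fi24a
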