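-- Certificate checks for Fi24a.
import Cfsg.Agent.Lib.Compute.TC.Fi24a.Data
import Cfsg.Agent.Lib.Compute.TCSplit
set_option autoImplicit false
set_option Elab.async false
set_option maxRecDepth 1000000

open Cfsg.Agent.Lib.Compute.ToddCoxeterCore Cfsg.Agent.Lib.Compute.ToddCoxeterPresented Cfsg.Agent.Lib.Compute.TCFast

open Cfsg.Agent.Lib.Compute.TCSplit

namespace Cfsg.Agent.Lib.Compute.TC.Fi24a

theorem rel50x0 : allFrom (chkRelF cfg relsL) (nat_lit 205) (nat_lit 81650) = true := by decide +kernel
theorem rel50x1 : allFrom (chkRelF cfg relsL) (nat_lit 204) (nat_lit 81855) = true := by decide +kernel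
theorem rel50x2 : allFrom (chkRelF cfg relsL) (nat_lit 204) (nat_lit 82059) = true := by decide +kernel
theorem rel50x3 : allFrom (chkRelF cfg relsL) (nat_lit 204) (nat_lit 82263) = true := by decide +kernel
theorem rel50x4 : allFrom (chkRelF cfg relsL) (nat_lit 204) (nat_lit 82467) = true := by decide +kernel
theorem rel50x5 : allFrom (chkRelF cfg relsL) (nat_lit 204) (nat_lit 82671) = true := by decide +kernel
theorem rel50x6 : allFrom (chkRelF cfg relsL) (nat_lit 204) (nat_lit 82875) = true := by decide +kernel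
theorem rel50x7 : allFrom (chkRelF cfg relsL) (nat_lit 204) (nat_lit 83079) = true := by decide +kernel
theorem rel50c1 : allFrom (chkRelF cfg relsL) (nat_lit 409) (nat_lit 81650) = true := join rel50x0 rel50x1 rfl rfl
theorem rel50c2 : allFrom (chkRelF cfg relsL) (nat_lit 613) (nat_lit 81650) = true := join rel50c1 rel50x2 rfl rfl
theorem rel50c3 : allFrom (chkRelF cfg relsL) (nat_lit 817) (nat_lit 81650) = true := join rel50c2 rel50x3 rfl rfl
theorem rel50c4 : allFrom (chkRelF cfg relsL) (nat_lit 1021) (nat_lit 81650) = true := join rel50c3 rel50x4 rfl rfl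
theorem rel50c5 : allFrom (chkRelF cfg relsL) (nat_lit 1225) (nat_lit 81650) = true := join rel50c4 rel50x5 rfl rfl
theorem rel50c6 : allFrom (chkRelF cfg relsL) (nat_lit 1429) (nat_lit 81650) = true := join rel50c5 rel50x6 rfl rfl
theorem rel50 : allFrom (chkRelF cfg relsL) (nat_lit 1633) (nat_lit 81650) = true := join rel50c6 rel50x7 rfl rfl

end Cfsg.Agent.Lib.Compute.TC.Fi24a
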