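-- Certificate checks for Fi24a.
import Cfsg.Agent.Lib.Compute.TC.Fi24a.Data
import Cfsg.Agent.Lib.Compute.TCSplit
set_option autoImplicit false
set_option Elab.async false
set_option maxRecDepth 1000000

open Cfsg.Agent.Lib.Compute.ToddCoxeterCore Cfsg.Agent.Lib.Compute.ToddCoxeterPresented Cfsg.Agent.Lib.Compute.TCFast

open Cfsg.Agent.Lib.Compute.TCSplit

namespace Cfsg.Agent.Lib.Compute.TC.Fi24a

theorem rel51x0 : allFrom (chkRelF cfg relsL) (nat_lit 205) (nat_lit 83283) = true := by decide +kernel
theorem rel51x1 : allFrom (chkRelF cfg relsL) (nat_lit 204) (nat_lit 83488) = true := by decide +kernel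
theorem rel51x2 : allFrom (chkRelF cfg relsL) (nat_lit 204) (nat_lit 83692) = true := by decide +kernel
theorem rel51x3 : allFrom (chkRelF cfg relsL) (nat_lit 204) (nat_lit 83896) = true := by decide +kernel
theorem rel51x4 : allFrom (chkRelF cfg relsL) (nat_lit 204) (nat_lit 84100) = true := by decide +kernel
theorem rel51x5 : allFrom (chkRelF cfg relsL) (nat_lit 204) (nat_lit 84304) = true := by decide +kernel
theorem rel51x6 : allFrom (chkRelF cfg relsL) (nat_lit 204) (nat_lit 84508) = true := by decide +kernel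
theorem rel51x7 : allFrom (chkRelF cfg relsL) (nat_lit 204) (nat_lit 84712) = true := by decide +kernel
theorem rel51c1 : allFrom (chkRelF cfg relsL) (nat_lit 409) (nat_lit 83283) = true := join rel51x0 rel51x1 rfl rfl
theorem rel51c2 : allFrom (chkRelF cfg relsL) (nat_lit 613) (nat_lit 83283) = true := join rel51c1 rel51x2 rfl rfl
theorem rel51c3 : allFrom (chkRelF cfg relsL) (nat_lit 817) (nat_lit 83283) = true := join rel51c2 rel51x3 rfl rfl
theorem rel51c4 : allFrom (chkRelF cfg relsL) (nat_lit 1021) (nat_lit 83283) = true := join rel51c3 rel51x4 rfl rfl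
theorem rel51c5 : allFrom (chkRelF cfg relsL) (nat_lit 1225) (nat_lit 83283) = true := join rel51c4 rel51x5 rfl rfl
theorem rel51c6 : allFrom (chkRelF cfg relsL) (nat_lit 1429) (nat_lit 83283) = true := join rel51c5 rel51x6 rfl rfl
theorem rel51 : allFrom (chkRelF cfg relsL) (nat_lit 1633) (nat_lit 83283) = true := join rel51c6 rel51x7 rfl rfl

end Cfsg.Agent.Lib.Compute.TC.Fi24a
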