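-- Certificate checks for Fi24a.
import Cfsg.Agent.Lib.Compute.TC.Fi24a.Data
import Cfsg.Agent.Lib.Compute.TCSplit
set_option autoImplicit false
set_option Elab.async false
set_option maxRecDepth 1000000

open Cfsg.Agent.Lib.Compute.ToddCoxeterCore Cfsg.Agent.Lib.Compute.ToddCoxeterPresented Cfsg.Agent.Lib.Compute.TCFast

open Cfsg.Agent.Lib.Compute.TCSplit

namespace Cfsg.Agent.Lib.Compute.TC.Fi24a

theorem rel52x0 : allFrom (chkRelF cfg relsL) (nat_lit 205) (nat_lit 84916) = true := by decide +kernel
theorem rel52x1 : allFrom (chkRelF cfg relsL) (nat_lit 204) (nat_lit 85121) = true := by decide +kernel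
theorem rel52x2 : allFrom (chkRelF cfg relsL) (nat_lit 204) (nat_lit 85325) = true := by decide +kernel
theorem rel52x3 : allFrom (chkRelF cfg relsL) (nat_lit 204) (nat_lit 85529) = true := by decide +kernel
theorem rel52x4 : allFrom (chkRelF cfg relsL) (nat_lit 204) (nat_lit 85733) = true := by decide +kernel
theorem rel52x5 : allFrom (chkRelF cfg relsL) (nat_lit 204) (nat_lit 85937) = true := by decide +kernel
theorem rel52x6 : allFrom (chkRelF cfg relsL) (nat_lit 204) (nat_lit 86141) = true := by decide +kernel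
theorem rel52x7 : allFrom (chkRelF cfg relsL) (nat_lit 204) (nat_lit 86345) = true := by decide +kernel
theorem rel52c1 : allFrom (chkRelF cfg relsL) (nat_lit 409) (nat_lit 84916) = true := join rel52x0 rel52x1 rfl rfl
theorem rel52c2 : allFrom (chkRelF cfg relsL) (nat_lit 613) (nat_lit 84916) = true := join rel52c1 rel52x2 rfl rfl
theorem rel52c3 : allFrom (chkRelF cfg relsL) (nat_lit 817) (nat_lit 84916) = true := join rel52c2 rel52x3 rfl rfl
theorem rel52c4 : allFrom (chkRelF cfg relsL) (nat_lit 1021) (nat_lit 84916) = true := join rel52c3 rel52x4 rfl rfl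
theorem rel52c5 : allFrom (chkRelF cfg relsL) (nat_lit 1225) (nat_lit 84916) = true := join rel52c4 rel52x5 rfl rfl
theorem rel52c6 : allFrom (chkRelF cfg relsL) (nat_lit 1429) (nat_lit 84916) = true := join rel52c5 rel52x6 rfl rfl
theorem rel52 : allFrom (chkRelF cfg relsL) (nat_lit 1633) (nat_lit 84916) = true := join rel52c6 rel52x7 rfl rfl

end Cfsg.Agent.Lib.Compute.TC.Fi24a
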