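-- Certificate checks for Fi24a.
import Cfsg.Agent.Lib.Compute.TC.Fi24a.Data
import Cfsg.Agent.Lib.Compute.TCSplit
set_option autoImplicit false
set_option Elab.async false
set_option maxRecDepth 1000000

open Cfsg.Agent.Lib.Compute.ToddCoxeterCore Cfsg.Agent.Lib.Compute.ToddCoxeterPresented Cfsg.Agent.Lib.Compute.TCFast

open Cfsg.Agent.Lib.Compute.TCSplit

namespace Cfsg.Agent.Lib.Compute.TC.Fi24a

theorem rel53x0 : allFrom (chkRelF cfg relsL) (nat_lit 205) (nat_lit 86549) = true := by decide +kernel
theorem rel53x1 : allFrom (chkRelF cfg relsL) (nat_lit 204) (nat_lit 86754) = true := by decide +kernel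
theorem rel53x2 : allFrom (chkRelF cfg relsL) (nat_lit 204) (nat_lit 86958) = true := by decide +kernel
theorem rel53x3 : allFrom (chkRelF cfg relsL) (nat_lit 204) (nat_lit 87162) = true := by decide +kernel
theorem rel53x4 : allFrom (chkRelF cfg relsL) (nat_lit 204) (nat_lit 87366) = true := by decide +kernel
theorem rel53x5 : allFrom (chkRelF cfg relsL) (nat_lit 204) (nat_lit 87570) = true := by decide +kernel
theorem rel53x6 : allFrom (chkRelF cfg relsL) (nat_lit 204) (nat_lit 87774) = true := by decide +kernel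
theorem rel53x7 : allFrom (chkRelF cfg relsL) (nat_lit 204) (nat_lit 87978) = true := by decide +kernel
theorem rel53c1 : allFrom (chkRelF cfg relsL) (nat_lit 409) (nat_lit 86549) = true := join rel53x0 rel53x1 rfl rfl
theorem rel53c2 : allFrom (chkRelF cfg relsL) (nat_lit 613) (nat_lit 86549) = true := join rel53c1 rel53x2 rfl rfl
theorem rel53c3 : allFrom (chkRelF cfg relsL) (nat_lit 817) (nat_lit 86549) = true := join rel53c2 rel53x3 rfl rfl
theorem rel53c4 : allFrom (chkRelF cfg relsL) (nat_lit 1021) (nat_lit 86549) = true := join rel53c3 rel53x4 rfl rfl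
theorem rel53c5 : allFrom (chkRelF cfg relsL) (nat_lit 1225) (nat_lit 86549) = true := join rel53c4 rel53x5 rfl rfl
theorem rel53c6 : allFrom (chkRelF cfg relsL) (nat_lit 1429) (nat_lit 86549) = true := join rel53c5 rel53x6 rfl rfl
theorem rel53 : allFrom (chkRelF cfg relsL) (nat_lit 1633) (nat_lit 86549) = true := join rel53c6 rel53x7 rfl rfl

end Cfsg.Agent.Lib.Compute.TC.Fi24a
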