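-- Certificate checks for Fi24a.
import Cfsg.Agent.Lib.Compute.TC.Fi24a.Data
import Cfsg.Agent.Lib.Compute.TCSplit
set_option autoImplicit false
set_option Elab.async false
set_option maxRecDepth 1000000

open Cfsg.Agent.Lib.Compute.ToddCoxeterCore Cfsg.Agent.Lib.Compute.ToddCoxeterPresented Cfsg.Agent.Lib.Compute.TCFast

open Cfsg.Agent.Lib.Compute.TCSplit

namespace Cfsg.Agent.Lib.Compute.TC.Fi24a

theorem rel55x0 : allFrom (chkRelF cfg relsL) (nat_lit 205) (nat_lit 89815) = true := by decide +kernel
theorem rel55x1 : allFrom (chkRelF cfg relsL) (nat_lit 204) (nat_lit 90020) = true := by decide +kernel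
theorem rel55x2 : allFrom (chkRelF cfg relsL) (nat_lit 204) (nat_lit 90224) = true := by decide +kernel
theorem rel55x3 : allFrom (chkRelF cfg relsL) (nat_lit 204) (nat_lit 90428) = true := by decide +kernel
theorem rel55x4 : allFrom (chkRelF cfg relsL) (nat_lit 204) (nat_lit 90632) = true := by decide +kernel
theorem rel55x5 : allFrom (chkRelF cfg relsL) (nat_lit 204) (nat_lit 90836) = true := by decide +kernel
theorem rel55x6 : allFrom (chkRelF cfg relsL) (nat_lit 204) (nat_lit 91040) = true := by decide +kernel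
theorem rel55x7 : allFrom (chkRelF cfg relsL) (nat_lit 204) (nat_lit 91244) = true := by decide +kernel
theorem rel55c1 : allFrom (chkRelF cfg relsL) (nat_lit 409) (nat_lit 89815) = true := join rel55x0 rel55x1 rfl rfl
theorem rel55c2 : allFrom (chkRelF cfg relsL) (nat_lit 613) (nat_lit 89815) = true := join rel55c1 rel55x2 rfl rfl
theorem rel55c3 : allFrom (chkRelF cfg relsL) (nat_lit 817) (nat_lit 89815) = true := join rel55c2 rel55x3 rfl rfl
theorem rel55c4 : allFrom (chkRelF cfg relsL) (nat_lit 1021) (nat_lit 89815) = true := join rel55c3 rel55x4 rfl rfl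
theorem rel55c5 : allFrom (chkRelF cfg relsL) (nat_lit 1225) (nat_lit 89815) = true := join rel55c4 rel55x5 rfl rfl
theorem rel55c6 : allFrom (chkRelF cfg relsL) (nat_lit 1429) (nat_lit 89815) = true := join rel55c5 rel55x6 rfl rfl
theorem rel55 : allFrom (chkRelF cfg relsL) (nat_lit 1633) (nat_lit 89815) = true := join rel55c6 rel55x7 rfl rfl

end Cfsg.Agent.Lib.Compute.TC.Fi24a
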