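-- Certificate checks for Fi24a.
import Cfsg.Agent.Lib.Compute.TC.Fi24a.Data
import Cfsg.Agent.Lib.Compute.TCSplit
set_option autoImplicit false
set_option Elab.async false
set_option maxRecDepth 1000000

open Cfsg.Agent.Lib.Compute.ToddCoxeterCore Cfsg.Agent.Lib.Compute.ToddCoxeterPresented Cfsg.Agent.Lib.Compute.TCFast

open Cfsg.Agent.Lib.Compute.TCSplit

namespace Cfsg.Agent.Lib.Compute.TC.Fi24a

theorem rel56x0 : allFrom (chkRelF cfg relsL) (nat_lit 205) (nat_lit 91448) = true := by decide +kernel
theorem rel56x1 : allFrom (chkRelF cfg relsL) (nat_lit 204) (nat_lit 91653) = true := by decide +kernel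
theorem rel56x2 : allFrom (chkRelF cfg relsL) (nat_lit 204) (nat_lit 91857) = true := by decide +kernel
theorem rel56x3 : allFrom (chkRelF cfg relsL) (nat_lit 204) (nat_lit 92061) = true := by decide +kernel
theorem rel56x4 : allFrom (chkRelF cfg relsL) (nat_lit 204) (nat_lit 92265) = true := by decide +kernel
theorem rel56x5 : allFrom (chkRelF cfg relsL) (nat_lit 204) (nat_lit 92469) = true := by decide +kernel
theorem rel56x6 : allFrom (chkRelF cfg relsL) (nat_lit 204) (nat_lit 92673) = true := by decide +kernel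
theorem rel56x7 : allFrom (chkRelF cfg relsL) (nat_lit 204) (nat_lit 92877) = true := by decide +kernel
theorem rel56c1 : allFrom (chkRelF cfg relsL) (nat_lit 409) (nat_lit 91448) = true := join rel56x0 rel56x1 rfl rfl
theorem rel56c2 : allFrom (chkRelF cfg relsL) (nat_lit 613) (nat_lit 91448) = true := join rel56c1 rel56x2 rfl rfl
theorem rel56c3 : allFrom (chkRelF cfg relsL) (nat_lit 817) (nat_lit 91448) = true := join rel56c2 rel56x3 rfl rfl
theorem rel56c4 : allFrom (chkRelF cfg relsL) (nat_lit 1021) (nat_lit 91448) = true := join rel56c3 rel56x4 rfl rfl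
theorem rel56c5 : allFrom (chkRelF cfg relsL) (nat_lit 1225) (nat_lit 91448) = true := join rel56c4 rel56x5 rfl rfl
theorem rel56c6 : allFrom (chkRelF cfg relsL) (nat_lit 1429) (nat_lit 91448) = true := join rel56c5 rel56x6 rfl rfl
theorem rel56 : allFrom (chkRelF cfg relsL) (nat_lit 1633) (nat_lit 91448) = true := join rel56c6 rel56x7 rfl rfl

end Cfsg.Agent.Lib.Compute.TC.Fi24a
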