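-- Certificate checks for Fi24a.
import Cfsg.Agent.Lib.Compute.TC.Fi24a.Data
import Cfsg.Agent.Lib.Compute.TCSplit
set_option autoImplicit false
set_option Elab.async false
set_option maxRecDepth 1000000

open Cfsg.Agent.Lib.Compute.ToddCoxeterCore Cfsg.Agent.Lib.Compute.ToddCoxeterPresented Cfsg.Agent.Lib.Compute.TCFast

open Cfsg.Agent.Lib.Compute.TCSplit

namespace Cfsg.Agent.Lib.Compute.TC.Fi24a

theorem rel57x0 : allFrom (chkRelF cfg relsL) (nat_lit 205) (nat_lit 93081) = true := by decide +kernel
theorem rel57x1 : allFrom (chkRelF cfg relsL) (nat_lit 204) (nat_lit 93286) = true := by decide +kernel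
theorem rel57x2 : allFrom (chkRelF cfg relsL) (nat_lit 204) (nat_lit 93490) = true := by decide +kernel
theorem rel57x3 : allFrom (chkRelF cfg relsL) (nat_lit 204) (nat_lit 93694) = true := by decide +kernel
theorem rel57x4 : allFrom (chkRelF cfg relsL) (nat_lit 204) (nat_lit 93898) = true := by decide +kernel
theorem rel57x5 : allFrom (chkRelF cfg relsL) (nat_lit 204) (nat_lit 94102) = true := by decide +kernel
theorem rel57x6 : allFrom (chkRelF cfg relsL) (nat_lit 204) (nat_lit 94306) = true := by decide +kernel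
theorem rel57x7 : allFrom (chkRelF cfg relsL) (nat_lit 204) (nat_lit 94510) = true := by decide +kernel
theorem rel57c1 : allFrom (chkRelF cfg relsL) (nat_lit 409) (nat_lit 93081) = true := join rel57x0 rel57x1 rfl rfl
theorem rel57c2 : allFrom (chkRelF cfg relsL) (nat_lit 613) (nat_lit 93081) = true := join rel57c1 rel57x2 rfl rfl
theorem rel57c3 : allFrom (chkRelF cfg relsL) (nat_lit 817) (nat_lit 93081) = true := join rel57c2 rel57x3 rfl rfl
theorem rel57c4 : allFrom (chkRelF cfg relsL) (nat_lit 1021) (nat_lit 93081) = true := join rel57c3 rel57x4 rfl rfl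
theorem rel57c5 : allFrom (chkRelF cfg relsL) (nat_lit 1225) (nat_lit 93081) = true := join rel57c4 rel57x5 rfl rfl
theorem rel57c6 : allFrom (chkRelF cfg relsL) (nat_lit 1429) (nat_lit 93081) = true := join rel57c5 rel57x6 rfl rfl
theorem rel57 : allFrom (chkRelF cfg relsL) (nat_lit 1633) (nat_lit 93081) = true := join rel57c6 rel57x7 rfl rfl

end Cfsg.Agent.Lib.Compute.TC.Fi24a
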