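-- Certificate checks for Fi24a.
import Cfsg.Agent.Lib.Compute.TC.Fi24a.Data
import Cfsg.Agent.Lib.Compute.TCSplit
set_option autoImplicit false
set_option Elab.async false
set_option maxRecDepth 1000000

open Cfsg.Agent.Lib.Compute.ToddCoxeterCore Cfsg.Agent.Lib.Compute.ToddCoxeterPresented Cfsg.Agent.Lib.Compute.TCFast

open Cfsg.Agent.Lib.Compute.TCSplit

namespace Cfsg.Agent.Lib.Compute.TC.Fi24a

theorem rel58x0 : allFrom (chkRelF cfg relsL) (nat_lit 205) (nat_lit 94714) = true := by decide +kernel
theorem rel58x1 : allFrom (chkRelF cfg relsL) (nat_lit 204) (nat_lit 94919) = true := by decide +kernel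
theorem rel58x2 : allFrom (chkRelF cfg relsL) (nat_lit 204) (nat_lit 95123) = true := by decide +kernel
theorem rel58x3 : allFrom (chkRelF cfg relsL) (nat_lit 204) (nat_lit 95327) = true := by decide +kernel
theorem rel58x4 : allFrom (chkRelF cfg relsL) (nat_lit 204) (nat_lit 95531) = true := by decide +kernel
theorem rel58x5 : allFrom (chkRelF cfg relsL) (nat_lit 204) (nat_lit 95735) = true := by decide +kernel
theorem rel58x6 : allFrom (chkRelF cfg relsL) (nat_lit 204) (nat_lit 95939) = true := by decide +kernel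
theorem rel58x7 : allFrom (chkRelF cfg relsL) (nat_lit 204) (nat_lit 96143) = true := by decide +kernel
theorem rel58c1 : allFrom (chkRelF cfg relsL) (nat_lit 409) (nat_lit 94714) = true := join rel58x0 rel58x1 rfl rfl
theorem rel58c2 : allFrom (chkRelF cfg relsL) (nat_lit 613) (nat_lit 94714) = true := join rel58c1 rel58x2 rfl rfl
theorem rel58c3 : allFrom (chkRelF cfg relsL) (nat_lit 817) (nat_lit 94714) = true := join rel58c2 rel58x3 rfl rfl
theorem rel58c4 : allFrom (chkRelF cfg relsL) (nat_lit 1021) (nat_lit 94714) = true := join rel58c3 rel58x4 rfl rfl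
theorem rel58c5 : allFrom (chkRelF cfg relsL) (nat_lit 1225) (nat_lit 94714) = true := join rel58c4 rel58x5 rfl rfl
theorem rel58c6 : allFrom (chkRelF cfg relsL) (nat_lit 1429) (nat_lit 94714) = true := join rel58c5 rel58x6 rfl rfl
theorem rel58 : allFrom (chkRelF cfg relsL) (nat_lit 1633) (nat_lit 94714) = true := join rel58c6 rel58x7 rfl rfl

end Cfsg.Agent.Lib.Compute.TC.Fi24a
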