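-- Certificate checks for Fi24a.
import Cfsg.Agent.Lib.Compute.TC.Fi24a.Data
import Cfsg.Agent.Lib.Compute.TCSplit
set_option autoImplicit false
set_option Elab.async false
set_option maxRecDepth 1000000

open Cfsg.Agent.Lib.Compute.ToddCoxeterCore Cfsg.Agent.Lib.Compute.ToddCoxeterPresented Cfsg.Agent.Lib.Compute.TCFast

open Cfsg.Agent.Lib.Compute.TCSplit

namespace Cfsg.Agent.Lib.Compute.TC.Fi24a

theorem rel59x0 : allFrom (chkRelF cfg relsL) (nat_lit 205) (nat_lit 96347) = true := by decide +kernel
theorem rel59x1 : allFrom (chkRelF cfg relsL) (nat_lit 204) (nat_lit 96552) = true := by decide +kernel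
theorem rel59x2 : allFrom (chkRelF cfg relsL) (nat_lit 204) (nat_lit 96756) = true := by decide +kernel
theorem rel59x3 : allFrom (chkRelF cfg relsL) (nat_lit 204) (nat_lit 96960) = true := by decide +kernel
theorem rel59x4 : allFrom (chkRelF cfg relsL) (nat_lit 204) (nat_lit 97164) = true := by decide +kernel
theorem rel59x5 : allFrom (chkRelF cfg relsL) (nat_lit 204) (nat_lit 97368) = true := by decide +kernel
theorem rel59x6 : allFrom (chkRelF cfg relsL) (nat_lit 204) (nat_lit 97572) = true := by decide +kernel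
theorem rel59x7 : allFrom (chkRelF cfg relsL) (nat_lit 204) (nat_lit 97776) = true := by decide +kernel
theorem rel59c1 : allFrom (chkRelF cfg relsL) (nat_lit 409) (nat_lit 96347) = true := join rel59x0 rel59x1 rfl rfl
theorem rel59c2 : allFrom (chkRelF cfg relsL) (nat_lit 613) (nat_lit 96347) = true := join rel59c1 rel59x2 rfl rfl
theorem rel59c3 : allFrom (chkRelF cfg relsL) (nat_lit 817) (nat_lit 96347) = true := join rel59c2 rel59x3 rfl rfl
theorem rel59c4 : allFrom (chkRelF cfg relsL) (nat_lit 1021) (nat_lit 96347) = true := join rel59c3 rel59x4 rfl rfl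
theorem rel59c5 : allFrom (chkRelF cfg relsL) (nat_lit 1225) (nat_lit 96347) = true := join rel59c4 rel59x5 rfl rfl
theorem rel59c6 : allFrom (chkRelF cfg relsL) (nat_lit 1429) (nat_lit 96347) = true := join rel59c5 rel59x6 rfl rfl
theorem rel59 : allFrom (chkRelF cfg relsL) (nat_lit 1633) (nat_lit 96347) = true := join rel59c6 rel59x7 rfl rfl

end Cfsg.Agent.Lib.Compute.TC.Fi24a
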