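-- Certificate checks for Fi24a.
import Cfsg.Agent.Lib.Compute.TC.Fi24a.Data
import Cfsg.Agent.Lib.Compute.TCSplit
set_option autoImplicit false
set_option Elab.async false
set_option maxRecDepth 1000000

open Cfsg.Agent.Lib.Compute.ToddCoxeterCore Cfsg.Agent.Lib.Compute.ToddCoxeterPresented Cfsg.Agent.Lib.Compute.TCFast

open Cfsg.Agent.Lib.Compute.TCSplit

namespace Cfsg.Agent.Lib.Compute.TC.Fi24a

theorem rel6x0 : allFrom (chkRelF cfg relsL) (nat_lit 205) (nat_lit 9798) = true := by decide +kernel
theorem rel6x1 : allFrom (chkRelF cfg relsL) (nat_lit 204) (nat_lit 10003) = true := by decide +kernel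
theorem rel6x2 : allFrom (chkRelF cfg relsL) (nat_lit 204) (nat_lit 10207) = true := by decide +kernel
theorem rel6x3 : allFrom (chkRelF cfg relsL) (nat_lit 204) (nat_lit 10411) = true := by decide +kernel
theorem rel6x4 : allFrom (chkRelF cfg relsL) (nat_lit 204) (nat_lit 10615) = true := by decide +kernel
theorem rel6x5 : allFrom (chkRelF cfg relsL) (nat_lit 204) (nat_lit 10819) = true := by decide +kernel
theorem rel6x6 : allFrom (chkRelF cfg relsL) (nat_lit 204) (nat_lit 11023) = true := by decide +kernel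
theorem rel6x7 : allFrom (chkRelF cfg relsL) (nat_lit 204) (nat_lit 11227) = true := by decide +kernel
theorem rel6c1 : allFrom (chkRelF cfg relsL) (nat_lit 409) (nat_lit 9798) = true := join rel6x0 rel6x1 rfl rfl
theorem rel6c2 : allFrom (chkRelF cfg relsL) (nat_lit 613) (nat_lit 9798) = true := join rel6c1 rel6x2 rfl rfl
theorem rel6c3 : allFrom (chkRelF cfg relsL) (nat_lit 817) (nat_lit 9798) = true := join rel6c2 rel6x3 rfl rfl
theorem rel6c4 : allFrom (chkRelF cfg relsL) (nat_lit 1021) (nat_lit 9798) = true := join rel6c3 rel6x4 rfl rfl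
theorem rel6c5 : allFrom (chkRelF cfg relsL) (nat_lit 1225) (nat_lit 9798) = true := join rel6c4 rel6x5 rfl rfl
theorem rel6c6 : allFrom (chkRelF cfg relsL) (nat_lit 1429) (nat_lit 9798) = true := join rel6c5 rel6x6 rfl rfl
theorem rel6 : allFrom (chkRelF cfg relsL) (nat_lit 1633) (nat_lit 9798) = true := join rel6c6 rel6x7 rfl rfl

end Cfsg.Agent.Lib.Compute.TC.Fi24a
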