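-- Certificate checks for Fi24a.
import Cfsg.Agent.Lib.Compute.TC.Fi24a.Data
import Cfsg.Agent.Lib.Compute.TCSplit
set_option autoImplicit false
set_option Elab.async false
set_option maxRecDepth 1000000

open Cfsg.Agent.Lib.Compute.ToddCoxeterCore Cfsg.Agent.Lib.Compute.ToddCoxeterPresented Cfsg.Agent.Lib.Compute.TCFast

open Cfsg.Agent.Lib.Compute.TCSplit

namespace Cfsg.Agent.Lib.Compute.TC.Fi24a

theorem rel60x0 : allFrom (chkRelF cfg relsL) (nat_lit 205) (nat_lit 97980) = true := by decide +kernel
theorem rel60x1 : allFrom (chkRelF cfg relsL) (nat_lit 204) (nat_lit 98185) = true := by decide +kernel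
theorem rel60x2 : allFrom (chkRelF cfg relsL) (nat_lit 204) (nat_lit 98389) = true := by decide +kernel
theorem rel60x3 : allFrom (chkRelF cfg relsL) (nat_lit 204) (nat_lit 98593) = true := by decide +kernel
theorem rel60x4 : allFrom (chkRelF cfg relsL) (nat_lit 204) (nat_lit 98797) = true := by decide +kernel
theorem rel60x5 : allFrom (chkRelF cfg relsL) (nat_lit 204) (nat_lit 99001) = true := by decide +kernel
theorem rel60x6 : allFrom (chkRelF cfg relsL) (nat_lit 204) (nat_lit 99205) = true := by decide +kernel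
theorem rel60x7 : allFrom (chkRelF cfg relsL) (nat_lit 204) (nat_lit 99409) = true := by decide +kernel
theorem rel60c1 : allFrom (chkRelF cfg relsL) (nat_lit 409) (nat_lit 97980) = true := join rel60x0 rel60x1 rfl rfl
theorem rel60c2 : allFrom (chkRelF cfg relsL) (nat_lit 613) (nat_lit 97980) = true := join rel60c1 rel60x2 rfl rfl
theorem rel60c3 : allFrom (chkRelF cfg relsL) (nat_lit 817) (nat_lit 97980) = true := join rel60c2 rel60x3 rfl rfl
theorem rel60c4 : allFrom (chkRelF cfg relsL) (nat_lit 1021) (nat_lit 97980) = true := join rel60c3 rel60x4 rfl rfl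
theorem rel60c5 : allFrom (chkRelF cfg relsL) (nat_lit 1225) (nat_lit 97980) = true := join rel60c4 rel60x5 rfl rfl
theorem rel60c6 : allFrom (chkRelF cfg relsL) (nat_lit 1429) (nat_lit 97980) = true := join rel60c5 rel60x6 rfl rfl
theorem rel60 : allFrom (chkRelF cfg relsL) (nat_lit 1633) (nat_lit 97980) = true := join rel60c6 rel60x7 rfl rfl

end Cfsg.Agent.Lib.Compute.TC.Fi24a
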