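-- Certificate checks for Fi24a.
import Cfsg.Agent.Lib.Compute.TC.Fi24a.Data
import Cfsg.Agent.Lib.Compute.TCSplit
set_option autoImplicit false
set_option Elab.async false
set_option maxRecDepth 1000000

open Cfsg.Agent.Lib.Compute.ToddCoxeterCore Cfsg.Agent.Lib.Compute.ToddCoxeterPresented Cfsg.Agent.Lib.Compute.TCFast

open Cfsg.Agent.Lib.Compute.TCSplit

namespace Cfsg.Agent.Lib.Compute.TC.Fi24a

theorem rel61x0 : allFrom (chkRelF cfg relsL) (nat_lit 205) (nat_lit 99613) = true := by decide +kernel
theorem rel61x1 : allFrom (chkRelF cfg relsL) (nat_lit 204) (nat_lit 99818) = true := by decide +kernel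
theorem rel61x2 : allFrom (chkRelF cfg relsL) (nat_lit 204) (nat_lit 100022) = true := by decide +kernel
theorem rel61x3 : allFrom (chkRelF cfg relsL) (nat_lit 204) (nat_lit 100226) = true := by decide +kernel
theorem rel61x4 : allFrom (chkRelF cfg relsL) (nat_lit 204) (nat_lit 100430) = true := by decide +kernel
theorem rel61x5 : allFrom (chkRelF cfg relsL) (nat_lit 204) (nat_lit 100634) = true := by decide +kernel
theorem rel61x6 : allFrom (chkRelF cfg relsL) (nat_lit 204) (nat_lit 100838) = true := by decide +kernel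
theorem rel61x7 : allFrom (chkRelF cfg relsL) (nat_lit 204) (nat_lit 101042) = true := by decide +kernel
theorem rel61c1 : allFrom (chkRelF cfg relsL) (nat_lit 409) (nat_lit 99613) = true := join rel61x0 rel61x1 rfl rfl
theorem rel61c2 : allFrom (chkRelF cfg relsL) (nat_lit 613) (nat_lit 99613) = true := join rel61c1 rel61x2 rfl rfl
theorem rel61c3 : allFrom (chkRelF cfg relsL) (nat_lit 817) (nat_lit 99613) = true := join rel61c2 rel61x3 rfl rfl
theorem rel61c4 : allFrom (chkRelF cfg relsL) (nat_lit 1021) (nat_lit 99613) = true := join rel61c3 rel61x4 rfl rfl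
theorem rel61c5 : allFrom (chkRelF cfg relsL) (nat_lit 1225) (nat_lit 99613) = true := join rel61c4 rel61x5 rfl rfl
theorem rel61c6 : allFrom (chkRelF cfg relsL) (nat_lit 1429) (nat_lit 99613) = true := join rel61c5 rel61x6 rfl rfl
theorem rel61 : allFrom (chkRelF cfg relsL) (nat_lit 1633) (nat_lit 99613) = true := join rel61c6 rel61x7 rfl rfl

end Cfsg.Agent.Lib.Compute.TC.Fi24a
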