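-- Certificate checks for Fi24a.
import Cfsg.Agent.Lib.Compute.TC.Fi24a.Data
import Cfsg.Agent.Lib.Compute.TCSplit
set_option autoImplicit false
set_option Elab.async false
set_option maxRecDepth 1000000

open Cfsg.Agent.Lib.Compute.ToddCoxeterCore Cfsg.Agent.Lib.Compute.ToddCoxeterPresented Cfsg.Agent.Lib.Compute.TCFast

open Cfsg.Agent.Lib.Compute.TCSplit

namespace Cfsg.Agent.Lib.Compute.TC.Fi24a

theorem rel62x0 : allFrom (chkRelF cfg relsL) (nat_lit 205) (nat_lit 101246) = true := by decide +kernel
theorem rel62x1 : allFrom (chkRelF cfg relsL) (nat_lit 204) (nat_lit 101451) = true := by decide +kernel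
theorem rel62x2 : allFrom (chkRelF cfg relsL) (nat_lit 204) (nat_lit 101655) = true := by decide +kernel
theorem rel62x3 : allFrom (chkRelF cfg relsL) (nat_lit 204) (nat_lit 101859) = true := by decide +kernel
theorem rel62x4 : allFrom (chkRelF cfg relsL) (nat_lit 204) (nat_lit 102063) = true := by decide +kernel
theorem rel62x5 : allFrom (chkRelF cfg relsL) (nat_lit 204) (nat_lit 102267) = true := by decide +kernel
theorem rel62x6 : allFrom (chkRelF cfg relsL) (nat_lit 204) (nat_lit 102471) = true := by decide +kernel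
theorem rel62x7 : allFrom (chkRelF cfg relsL) (nat_lit 204) (nat_lit 102675) = true := by decide +kernel
theorem rel62c1 : allFrom (chkRelF cfg relsL) (nat_lit 409) (nat_lit 101246) = true := join rel62x0 rel62x1 rfl rfl
theorem rel62c2 : allFrom (chkRelF cfg relsL) (nat_lit 613) (nat_lit 101246) = true := join rel62c1 rel62x2 rfl rfl
theorem rel62c3 : allFrom (chkRelF cfg relsL) (nat_lit 817) (nat_lit 101246) = true := join rel62c2 rel62x3 rfl rfl
theorem rel62c4 : allFrom (chkRelF cfg relsL) (nat_lit 1021) (nat_lit 101246) = true := join rel62c3 rel62x4 rfl rfl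
theorem rel62c5 : allFrom (chkRelF cfg relsL) (nat_lit 1225) (nat_lit 101246) = true := join rel62c4 rel62x5 rfl rfl
theorem rel62c6 : allFrom (chkRelF cfg relsL) (nat_lit 1429) (nat_lit 101246) = true := join rel62c5 rel62x6 rfl rfl
theorem rel62 : allFrom (chkRelF cfg relsL) (nat_lit 1633) (nat_lit 101246) = true := join rel62c6 rel62x7 rfl rfl

end Cfsg.Agent.Lib.Compute.TC.Fi24a
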