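-- Certificate checks for Fi24a.
import Cfsg.Agent.Lib.Compute.TC.Fi24a.Data
import Cfsg.Agent.Lib.Compute.TCSplit
set_option autoImplicit false
set_option Elab.async false
set_option maxRecDepth 1000000

open Cfsg.Agent.Lib.Compute.ToddCoxeterCore Cfsg.Agent.Lib.Compute.ToddCoxeterPresented Cfsg.Agent.Lib.Compute.TCFast

open Cfsg.Agent.Lib.Compute.TCSplit

namespace Cfsg.Agent.Lib.Compute.TC.Fi24a

theorem rel63x0 : allFrom (chkRelF cfg relsL) (nat_lit 205) (nat_lit 102879) = true := by decide +kernel
theorem rel63x1 : allFrom (chkRelF cfg relsL) (nat_lit 204) (nat_lit 103084) = true := by decide +kernel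
theorem rel63x2 : allFrom (chkRelF cfg relsL) (nat_lit 204) (nat_lit 103288) = true := by decide +kernel
theorem rel63x3 : allFrom (chkRelF cfg relsL) (nat_lit 204) (nat_lit 103492) = true := by decide +kernel
theorem rel63x4 : allFrom (chkRelF cfg relsL) (nat_lit 204) (nat_lit 103696) = true := by decide +kernel
theorem rel63x5 : allFrom (chkRelF cfg relsL) (nat_lit 204) (nat_lit 103900) = true := by decide +kernel
theorem rel63x6 : allFrom (chkRelF cfg relsL) (nat_lit 204) (nat_lit 104104) = true := by decide +kernel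
theorem rel63x7 : allFrom (chkRelF cfg relsL) (nat_lit 204) (nat_lit 104308) = true := by decide +kernel
theorem rel63c1 : allFrom (chkRelF cfg relsL) (nat_lit 409) (nat_lit 102879) = true := join rel63x0 rel63x1 rfl rfl
theorem rel63c2 : allFrom (chkRelF cfg relsL) (nat_lit 613) (nat_lit 102879) = true := join rel63c1 rel63x2 rfl rfl
theorem rel63c3 : allFrom (chkRelF cfg relsL) (nat_lit 817) (nat_lit 102879) = true := join rel63c2 rel63x3 rfl rfl
theorem rel63c4 : allFrom (chkRelF cfg relsL) (nat_lit 1021) (nat_lit 102879) = true := join rel63c3 rel63x4 rfl rfl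
theorem rel63c5 : allFrom (chkRelF cfg relsL) (nat_lit 1225) (nat_lit 102879) = true := join rel63c4 rel63x5 rfl rfl
theorem rel63c6 : allFrom (chkRelF cfg relsL) (nat_lit 1429) (nat_lit 102879) = true := join rel63c5 rel63x6 rfl rfl
theorem rel63 : allFrom (chkRelF cfg relsL) (nat_lit 1633) (nat_lit 102879) = true := join rel63c6 rel63x7 rfl rfl

end Cfsg.Agent.Lib.Compute.TC.Fi24a
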