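-- Certificate checks for Fi24a.
import Cfsg.Agent.Lib.Compute.TC.Fi24a.Data
import Cfsg.Agent.Lib.Compute.TCSplit
set_option autoImplicit false
set_option Elab.async false
set_option maxRecDepth 1000000

open Cfsg.Agent.Lib.Compute.ToddCoxeterCore Cfsg.Agent.Lib.Compute.ToddCoxeterPresented Cfsg.Agent.Lib.Compute.TCFast

open Cfsg.Agent.Lib.Compute.TCSplit

namespace Cfsg.Agent.Lib.Compute.TC.Fi24a

theorem rel64x0 : allFrom (chkRelF cfg relsL) (nat_lit 205) (nat_lit 104512) = true := by decide +kernel
theorem rel64x1 : allFrom (chkRelF cfg relsL) (nat_lit 204) (nat_lit 104717) = true := by decide +kernel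
theorem rel64x2 : allFrom (chkRelF cfg relsL) (nat_lit 204) (nat_lit 104921) = true := by decide +kernel
theorem rel64x3 : allFrom (chkRelF cfg relsL) (nat_lit 204) (nat_lit 105125) = true := by decide +kernel
theorem rel64x4 : allFrom (chkRelF cfg relsL) (nat_lit 204) (nat_lit 105329) = true := by decide +kernel
theorem rel64x5 : allFrom (chkRelF cfg relsL) (nat_lit 204) (nat_lit 105533) = true := by decide +kernel
theorem rel64x6 : allFrom (chkRelF cfg relsL) (nat_lit 204) (nat_lit 105737) = true := by decide +kernel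
theorem rel64x7 : allFrom (chkRelF cfg relsL) (nat_lit 204) (nat_lit 105941) = true := by decide +kernel
theorem rel64c1 : allFrom (chkRelF cfg relsL) (nat_lit 409) (nat_lit 104512) = true := join rel64x0 rel64x1 rfl rfl
theorem rel64c2 : allFrom (chkRelF cfg relsL) (nat_lit 613) (nat_lit 104512) = true := join rel64c1 rel64x2 rfl rfl
theorem rel64c3 : allFrom (chkRelF cfg relsL) (nat_lit 817) (nat_lit 104512) = true := join rel64c2 rel64x3 rfl rfl
theorem rel64c4 : allFrom (chkRelF cfg relsL) (nat_lit 1021) (nat_lit 104512) = true := join rel64c3 rel64x4 rfl rfl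
theorem rel64c5 : allFrom (chkRelF cfg relsL) (nat_lit 1225) (nat_lit 104512) = true := join rel64c4 rel64x5 rfl rfl
theorem rel64c6 : allFrom (chkRelF cfg relsL) (nat_lit 1429) (nat_lit 104512) = true := join rel64c5 rel64x6 rfl rfl
theorem rel64 : allFrom (chkRelF cfg relsL) (nat_lit 1633) (nat_lit 104512) = true := join rel64c6 rel64x7 rfl rfl

end Cfsg.Agent.Lib.Compute.TC.Fi24a
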