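-- Certificate checks for Fi24a.
import Cfsg.Agent.Lib.Compute.TC.Fi24a.Data
import Cfsg.Agent.Lib.Compute.TCSplit
set_option autoImplicit false
set_option Elab.async false
set_option maxRecDepth 1000000

open Cfsg.Agent.Lib.Compute.ToddCoxeterCore Cfsg.Agent.Lib.Compute.ToddCoxeterPresented Cfsg.Agent.Lib.Compute.TCFast

open Cfsg.Agent.Lib.Compute.TCSplit

namespace Cfsg.Agent.Lib.Compute.TC.Fi24a

theorem rel66x0 : allFrom (chkRelF cfg relsL) (nat_lit 205) (nat_lit 107778) = true := by decide +kernel
theorem rel66x1 : allFrom (chkRelF cfg relsL) (nat_lit 204) (nat_lit 107983) = true := by decide +kernel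
theorem rel66x2 : allFrom (chkRelF cfg relsL) (nat_lit 204) (nat_lit 108187) = true := by decide +kernel
theorem rel66x3 : allFrom (chkRelF cfg relsL) (nat_lit 204) (nat_lit 108391) = true := by decide +kernel
theorem rel66x4 : allFrom (chkRelF cfg relsL) (nat_lit 204) (nat_lit 108595) = true := by decide +kernel
theorem rel66x5 : allFrom (chkRelF cfg relsL) (nat_lit 204) (nat_lit 108799) = true := by decide +kernel
theorem rel66x6 : allFrom (chkRelF cfg relsL) (nat_lit 204) (nat_lit 109003) = true := by decide +kernel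
theorem rel66x7 : allFrom (chkRelF cfg relsL) (nat_lit 204) (nat_lit 109207) = true := by decide +kernel
theorem rel66c1 : allFrom (chkRelF cfg relsL) (nat_lit 409) (nat_lit 107778) = true := join rel66x0 rel66x1 rfl rfl
theorem rel66c2 : allFrom (chkRelF cfg relsL) (nat_lit 613) (nat_lit 107778) = true := join rel66c1 rel66x2 rfl rfl
theorem rel66c3 : allFrom (chkRelF cfg relsL) (nat_lit 817) (nat_lit 107778) = true := join rel66c2 rel66x3 rfl rfl
theorem rel66c4 : allFrom (chkRelF cfg relsL) (nat_lit 1021) (nat_lit 107778) = true := join rel66c3 rel66x4 rfl rfl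
theorem rel66c5 : allFrom (chkRelF cfg relsL) (nat_lit 1225) (nat_lit 107778) = true := join rel66c4 rel66x5 rfl rfl
theorem rel66c6 : allFrom (chkRelF cfg relsL) (nat_lit 1429) (nat_lit 107778) = true := join rel66c5 rel66x6 rfl rfl
theorem rel66 : allFrom (chkRelF cfg relsL) (nat_lit 1633) (nat_lit 107778) = true := join rel66c6 rel66x7 rfl rfl

end Cfsg.Agent.Lib.Compute.TC.Fi24a
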