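-- Certificate checks for Fi24a.
import Cfsg.Agent.Lib.Compute.TC.Fi24a.Data
import Cfsg.Agent.Lib.Compute.TCSplit
set_option autoImplicit false
set_option Elab.async false
set_option maxRecDepth 1000000

open Cfsg.Agent.Lib.Compute.ToddCoxeterCore Cfsg.Agent.Lib.Compute.ToddCoxeterPresented Cfsg.Agent.Lib.Compute.TCFast

open Cfsg.Agent.Lib.Compute.TCSplit

namespace Cfsg.Agent.Lib.Compute.TC.Fi24a

theorem rel67x0 : allFrom (chkRelF cfg relsL) (nat_lit 205) (nat_lit 109411) = true := by decide +kernel
theorem rel67x1 : allFrom (chkRelF cfg relsL) (nat_lit 204) (nat_lit 109616) = true := by decide +kernel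
theorem rel67x2 : allFrom (chkRelF cfg relsL) (nat_lit 204) (nat_lit 109820) = true := by decide +kernel
theorem rel67x3 : allFrom (chkRelF cfg relsL) (nat_lit 204) (nat_lit 110024) = true := by decide +kernel
theorem rel67x4 : allFrom (chkRelF cfg relsL) (nat_lit 204) (nat_lit 110228) = true := by decide +kernel
theorem rel67x5 : allFrom (chkRelF cfg relsL) (nat_lit 204) (nat_lit 110432) = true := by decide +kernel
theorem rel67x6 : allFrom (chkRelF cfg relsL) (nat_lit 204) (nat_lit 110636) = true := by decide +kernel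
theorem rel67x7 : allFrom (chkRelF cfg relsL) (nat_lit 204) (nat_lit 110840) = true := by decide +kernel
theorem rel67c1 : allFrom (chkRelF cfg relsL) (nat_lit 409) (nat_lit 109411) = true := join rel67x0 rel67x1 rfl rfl
theorem rel67c2 : allFrom (chkRelF cfg relsL) (nat_lit 613) (nat_lit 109411) = true := join rel67c1 rel67x2 rfl rfl
theorem rel67c3 : allFrom (chkRelF cfg relsL) (nat_lit 817) (nat_lit 109411) = true := join rel67c2 rel67x3 rfl rfl
theorem rel67c4 : allFrom (chkRelF cfg relsL) (nat_lit 1021) (nat_lit 109411) = true := join rel67c3 rel67x4 rfl rfl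
theorem rel67c5 : allFrom (chkRelF cfg relsL) (nat_lit 1225) (nat_lit 109411) = true := join rel67c4 rel67x5 rfl rfl
theorem rel67c6 : allFrom (chkRelF cfg relsL) (nat_lit 1429) (nat_lit 109411) = true := join rel67c5 rel67x6 rfl rfl
theorem rel67 : allFrom (chkRelF cfg relsL) (nat_lit 1633) (nat_lit 109411) = true := join rel67c6 rel67x7 rfl rfl

end Cfsg.Agent.Lib.Compute.TC.Fi24a
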