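-- Certificate checks for Fi24a.
import Cfsg.Agent.Lib.Compute.TC.Fi24a.Data
import Cfsg.Agent.Lib.Compute.TCSplit
set_option autoImplicit false
set_option Elab.async false
set_option maxRecDepth 1000000

open Cfsg.Agent.Lib.Compute.ToddCoxeterCore Cfsg.Agent.Lib.Compute.ToddCoxeterPresented Cfsg.Agent.Lib.Compute.TCFast

open Cfsg.Agent.Lib.Compute.TCSplit

namespace Cfsg.Agent.Lib.Compute.TC.Fi24a

theorem rel68x0 : allFrom (chkRelF cfg relsL) (nat_lit 205) (nat_lit 111044) = true := by decide +kernel
theorem rel68x1 : allFrom (chkRelF cfg relsL) (nat_lit 204) (nat_lit 111249) = true := by decide +kernel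
theorem rel68x2 : allFrom (chkRelF cfg relsL) (nat_lit 204) (nat_lit 111453) = true := by decide +kernel
theorem rel68x3 : allFrom (chkRelF cfg relsL) (nat_lit 204) (nat_lit 111657) = true := by decide +kernel
theorem rel68x4 : allFrom (chkRelF cfg relsL) (nat_lit 204) (nat_lit 111861) = true := by decide +kernel
theorem rel68x5 : allFrom (chkRelF cfg relsL) (nat_lit 204) (nat_lit 112065) = true := by decide +kernel
theorem rel68x6 : allFrom (chkRelF cfg relsL) (nat_lit 204) (nat_lit 112269) = true := by decide +kernel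
theorem rel68x7 : allFrom (chkRelF cfg relsL) (nat_lit 204) (nat_lit 112473) = true := by decide +kernel
theorem rel68c1 : allFrom (chkRelF cfg relsL) (nat_lit 409) (nat_lit 111044) = true := join rel68x0 rel68x1 rfl rfl
theorem rel68c2 : allFrom (chkRelF cfg relsL) (nat_lit 613) (nat_lit 111044) = true := join rel68c1 rel68x2 rfl rfl
theorem rel68c3 : allFrom (chkRelF cfg relsL) (nat_lit 817) (nat_lit 111044) = true := join rel68c2 rel68x3 rfl rfl
theorem rel68c4 : allFrom (chkRelF cfg relsL) (nat_lit 1021) (nat_lit 111044) = true := join rel68c3 rel68x4 rfl rfl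
theorem rel68c5 : allFrom (chkRelF cfg relsL) (nat_lit 1225) (nat_lit 111044) = true := join rel68c4 rel68x5 rfl rfl
theorem rel68c6 : allFrom (chkRelF cfg relsL) (nat_lit 1429) (nat_lit 111044) = true := join rel68c5 rel68x6 rfl rfl
theorem rel68 : allFrom (chkRelF cfg relsL) (nat_lit 1633) (nat_lit 111044) = true := join rel68c6 rel68x7 rfl rfl

end Cfsg.Agent.Lib.Compute.TC.Fi24a
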