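-- Certificate checks for Fi24a.
import Cfsg.Agent.Lib.Compute.TC.Fi24a.Data
import Cfsg.Agent.Lib.Compute.TCSplit
set_option autoImplicit false
set_option Elab.async false
set_option maxRecDepth 1000000

open Cfsg.Agent.Lib.Compute.ToddCoxeterCore Cfsg.Agent.Lib.Compute.ToddCoxeterPresented Cfsg.Agent.Lib.Compute.TCFast

open Cfsg.Agent.Lib.Compute.TCSplit

namespace Cfsg.Agent.Lib.Compute.TC.Fi24a

theorem rel69x0 : allFrom (chkRelF cfg relsL) (nat_lit 205) (nat_lit 112677) = true := by decide +kernel
theorem rel69x1 : allFrom (chkRelF cfg relsL) (nat_lit 204) (nat_lit 112882) = true := by decide +kernel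
theorem rel69x2 : allFrom (chkRelF cfg relsL) (nat_lit 204) (nat_lit 113086) = true := by decide +kernel
theorem rel69x3 : allFrom (chkRelF cfg relsL) (nat_lit 204) (nat_lit 113290) = true := by decide +kernel
theorem rel69x4 : allFrom (chkRelF cfg relsL) (nat_lit 204) (nat_lit 113494) = true := by decide +kernel
theorem rel69x5 : allFrom (chkRelF cfg relsL) (nat_lit 204) (nat_lit 113698) = true := by decide +kernel
theorem rel69x6 : allFrom (chkRelF cfg relsL) (nat_lit 204) (nat_lit 113902) = true := by decide +kernel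
theorem rel69x7 : allFrom (chkRelF cfg relsL) (nat_lit 204) (nat_lit 114106) = true := by decide +kernel
theorem rel69c1 : allFrom (chkRelF cfg relsL) (nat_lit 409) (nat_lit 112677) = true := join rel69x0 rel69x1 rfl rfl
theorem rel69c2 : allFrom (chkRelF cfg relsL) (nat_lit 613) (nat_lit 112677) = true := join rel69c1 rel69x2 rfl rfl
theorem rel69c3 : allFrom (chkRelF cfg relsL) (nat_lit 817) (nat_lit 112677) = true := join rel69c2 rel69x3 rfl rfl
theorem rel69c4 : allFrom (chkRelF cfg relsL) (nat_lit 1021) (nat_lit 112677) = true := join rel69c3 rel69x4 rfl rfl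
theorem rel69c5 : allFrom (chkRelF cfg relsL) (nat_lit 1225) (nat_lit 112677) = true := join rel69c4 rel69x5 rfl rfl
theorem rel69c6 : allFrom (chkRelF cfg relsL) (nat_lit 1429) (nat_lit 112677) = true := join rel69c5 rel69x6 rfl rfl
theorem rel69 : allFrom (chkRelF cfg relsL) (nat_lit 1633) (nat_lit 112677) = true := join rel69c6 rel69x7 rfl rfl

end Cfsg.Agent.Lib.Compute.TC.Fi24a
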