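-- Certificate checks for Fi24a.
import Cfsg.Agent.Lib.Compute.TC.Fi24a.Data
import Cfsg.Agent.Lib.Compute.TCSplit
set_option autoImplicit false
set_option Elab.async false
set_option maxRecDepth 1000000

open Cfsg.Agent.Lib.Compute.ToddCoxeterCore Cfsg.Agent.Lib.Compute.ToddCoxeterPresented Cfsg.Agent.Lib.Compute.TCFast

open Cfsg.Agent.Lib.Compute.TCSplit

namespace Cfsg.Agent.Lib.Compute.TC.Fi24a

theorem rel7x0 : allFrom (chkRelF cfg relsL) (nat_lit 205) (nat_lit 11431) = true := by decide +kernel
theorem rel7x1 : allFrom (chkRelF cfg relsL) (nat_lit 204) (nat_lit 11636) = true := by decide +kernel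
theorem rel7x2 : allFrom (chkRelF cfg relsL) (nat_lit 204) (nat_lit 11840) = true := by decide +kernel
theorem rel7x3 : allFrom (chkRelF cfg relsL) (nat_lit 204) (nat_lit 12044) = true := by decide +kernel
theorem rel7x4 : allFrom (chkRelF cfg relsL) (nat_lit 204) (nat_lit 12248) = true := by decide +kernel
theorem rel7x5 : allFrom (chkRelF cfg relsL) (nat_lit 204) (nat_lit 12452) = true := by decide +kernel
theorem rel7x6 : allFrom (chkRelF cfg relsL) (nat_lit 204) (nat_lit 12656) = true := by decide +kernel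
theorem rel7x7 : allFrom (chkRelF cfg relsL) (nat_lit 204) (nat_lit 12860) = true := by decide +kernel
theorem rel7c1 : allFrom (chkRelF cfg relsL) (nat_lit 409) (nat_lit 11431) = true := join rel7x0 rel7x1 rfl rfl
theorem rel7c2 : allFrom (chkRelF cfg relsL) (nat_lit 613) (nat_lit 11431) = true := join rel7c1 rel7x2 rfl rfl
theorem rel7c3 : allFrom (chkRelF cfg relsL) (nat_lit 817) (nat_lit 11431) = true := join rel7c2 rel7x3 rfl rfl
theorem rel7c4 : allFrom (chkRelF cfg relsL) (nat_lit 1021) (nat_lit 11431) = true := join rel7c3 rel7x4 rfl rfl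
theorem rel7c5 : allFrom (chkRelF cfg relsL) (nat_lit 1225) (nat_lit 11431) = true := join rel7c4 rel7x5 rfl rfl
theorem rel7c6 : allFrom (chkRelF cfg relsL) (nat_lit 1429) (nat_lit 11431) = true := join rel7c5 rel7x6 rfl rfl
theorem rel7 : allFrom (chkRelF cfg relsL) (nat_lit 1633) (nat_lit 11431) = true := join rel7c6 rel7x7 rfl rfl

end Cfsg.Agent.Lib.Compute.TC.Fi24a
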