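-- Certificate checks for Fi24a.
import Cfsg.Agent.Lib.Compute.TC.Fi24a.Data
import Cfsg.Agent.Lib.Compute.TCSplit
set_option autoImplicit false
set_option Elab.async false
set_option maxRecDepth 1000000

open Cfsg.Agent.Lib.Compute.ToddCoxeterCore Cfsg.Agent.Lib.Compute.ToddCoxeterPresented Cfsg.Agent.Lib.Compute.TCFast

open Cfsg.Agent.Lib.Compute.TCSplit

namespace Cfsg.Agent.Lib.Compute.TC.Fi24a

theorem rel70x0 : allFrom (chkRelF cfg relsL) (nat_lit 205) (nat_lit 114310) = true := by decide +kernel
theorem rel70x1 : allFrom (chkRelF cfg relsL) (nat_lit 204) (nat_lit 114515) = true := by decide +kernel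
theorem rel70x2 : allFrom (chkRelF cfg relsL) (nat_lit 204) (nat_lit 114719) = true := by decide +kernel
theorem rel70x3 : allFrom (chkRelF cfg relsL) (nat_lit 204) (nat_lit 114923) = true := by decide +kernel
theorem rel70x4 : allFrom (chkRelF cfg relsL) (nat_lit 204) (nat_lit 115127) = true := by decide +kernel
theorem rel70x5 : allFrom (chkRelF cfg relsL) (nat_lit 204) (nat_lit 115331) = true := by decide +kernel
theorem rel70x6 : allFrom (chkRelF cfg relsL) (nat_lit 204) (nat_lit 115535) = true := by decide +kernel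
theorem rel70x7 : allFrom (chkRelF cfg relsL) (nat_lit 204) (nat_lit 115739) = true := by decide +kernel
theorem rel70c1 : allFrom (chkRelF cfg relsL) (nat_lit 409) (nat_lit 114310) = true := join rel70x0 rel70x1 rfl rfl
theorem rel70c2 : allFrom (chkRelF cfg relsL) (nat_lit 613) (nat_lit 114310) = true := join rel70c1 rel70x2 rfl rfl
theorem rel70c3 : allFrom (chkRelF cfg relsL) (nat_lit 817) (nat_lit 114310) = true := join rel70c2 rel70x3 rfl rfl
theorem rel70c4 : allFrom (chkRelF cfg relsL) (nat_lit 1021) (nat_lit 114310) = true := join rel70c3 rel70x4 rfl rfl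
theorem rel70c5 : allFrom (chkRelF cfg relsL) (nat_lit 1225) (nat_lit 114310) = true := join rel70c4 rel70x5 rfl rfl
theorem rel70c6 : allFrom (chkRelF cfg relsL) (nat_lit 1429) (nat_lit 114310) = true := join rel70c5 rel70x6 rfl rfl
theorem rel70 : allFrom (chkRelF cfg relsL) (nat_lit 1633) (nat_lit 114310) = true := join rel70c6 rel70x7 rfl rfl

end Cfsg.Agent.Lib.Compute.TC.Fi24a
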