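-- Certificate checks for Fi24a.
import Cfsg.Agent.Lib.Compute.TC.Fi24a.Data
import Cfsg.Agent.Lib.Compute.TCSplit
set_option autoImplicit false
set_option Elab.async false
set_option maxRecDepth 1000000

open Cfsg.Agent.Lib.Compute.ToddCoxeterCore Cfsg.Agent.Lib.Compute.ToddCoxeterPresented Cfsg.Agent.Lib.Compute.TCFast

open Cfsg.Agent.Lib.Compute.TCSplit

namespace Cfsg.Agent.Lib.Compute.TC.Fi24a

theorem rel71x0 : allFrom (chkRelF cfg relsL) (nat_lit 205) (nat_lit 115943) = true := by decide +kernel
theorem rel71x1 : allFrom (chkRelF cfg relsL) (nat_lit 204) (nat_lit 116148) = true := by decide +kernel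
theorem rel71x2 : allFrom (chkRelF cfg relsL) (nat_lit 204) (nat_lit 116352) = true := by decide +kernel
theorem rel71x3 : allFrom (chkRelF cfg relsL) (nat_lit 204) (nat_lit 116556) = true := by decide +kernel
theorem rel71x4 : allFrom (chkRelF cfg relsL) (nat_lit 204) (nat_lit 116760) = true := by decide +kernel
theorem rel71x5 : allFrom (chkRelF cfg relsL) (nat_lit 204) (nat_lit 116964) = true := by decide +kernel
theorem rel71x6 : allFrom (chkRelF cfg relsL) (nat_lit 204) (nat_lit 117168) = true := by decide +kernel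
theorem rel71x7 : allFrom (chkRelF cfg relsL) (nat_lit 204) (nat_lit 117372) = true := by decide +kernel
theorem rel71c1 : allFrom (chkRelF cfg relsL) (nat_lit 409) (nat_lit 115943) = true := join rel71x0 rel71x1 rfl rfl
theorem rel71c2 : allFrom (chkRelF cfg relsL) (nat_lit 613) (nat_lit 115943) = true := join rel71c1 rel71x2 rfl rfl
theorem rel71c3 : allFrom (chkRelF cfg relsL) (nat_lit 817) (nat_lit 115943) = true := join rel71c2 rel71x3 rfl rfl
theorem rel71c4 : allFrom (chkRelF cfg relsL) (nat_lit 1021) (nat_lit 115943) = true := join rel71c3 rel71x4 rfl rfl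
theorem rel71c5 : allFrom (chkRelF cfg relsL) (nat_lit 1225) (nat_lit 115943) = true := join rel71c4 rel71x5 rfl rfl
theorem rel71c6 : allFrom (chkRelF cfg relsL) (nat_lit 1429) (nat_lit 115943) = true := join rel71c5 rel71x6 rfl rfl
theorem rel71 : allFrom (chkRelF cfg relsL) (nat_lit 1633) (nat_lit 115943) = true := join rel71c6 rel71x7 rfl rfl

end Cfsg.Agent.Lib.Compute.TC.Fi24a
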