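-- Certificate checks for Fi24a.
import Cfsg.Agent.Lib.Compute.TC.Fi24a.Data
import Cfsg.Agent.Lib.Compute.TCSplit
set_option autoImplicit false
set_option Elab.async false
set_option maxRecDepth 1000000

open Cfsg.Agent.Lib.Compute.ToddCoxeterCore Cfsg.Agent.Lib.Compute.ToddCoxeterPresented Cfsg.Agent.Lib.Compute.TCFast

open Cfsg.Agent.Lib.Compute.TCSplit

namespace Cfsg.Agent.Lib.Compute.TC.Fi24a

theorem rel72x0 : allFrom (chkRelF cfg relsL) (nat_lit 205) (nat_lit 117576) = true := by decide +kernel
theorem rel72x1 : allFrom (chkRelF cfg relsL) (nat_lit 204) (nat_lit 117781) = true := by decide +kernel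
theorem rel72x2 : allFrom (chkRelF cfg relsL) (nat_lit 204) (nat_lit 117985) = true := by decide +kernel
theorem rel72x3 : allFrom (chkRelF cfg relsL) (nat_lit 204) (nat_lit 118189) = true := by decide +kernel
theorem rel72x4 : allFrom (chkRelF cfg relsL) (nat_lit 204) (nat_lit 118393) = true := by decide +kernel
theorem rel72x5 : allFrom (chkRelF cfg relsL) (nat_lit 204) (nat_lit 118597) = true := by decide +kernel
theorem rel72x6 : allFrom (chkRelF cfg relsL) (nat_lit 204) (nat_lit 118801) = true := by decide +kernel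
theorem rel72x7 : allFrom (chkRelF cfg relsL) (nat_lit 204) (nat_lit 119005) = true := by decide +kernel
theorem rel72c1 : allFrom (chkRelF cfg relsL) (nat_lit 409) (nat_lit 117576) = true := join rel72x0 rel72x1 rfl rfl
theorem rel72c2 : allFrom (chkRelF cfg relsL) (nat_lit 613) (nat_lit 117576) = true := join rel72c1 rel72x2 rfl rfl
theorem rel72c3 : allFrom (chkRelF cfg relsL) (nat_lit 817) (nat_lit 117576) = true := join rel72c2 rel72x3 rfl rfl
theorem rel72c4 : allFrom (chkRelF cfg relsL) (nat_lit 1021) (nat_lit 117576) = true := join rel72c3 rel72x4 rfl rfl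
theorem rel72c5 : allFrom (chkRelF cfg relsL) (nat_lit 1225) (nat_lit 117576) = true := join rel72c4 rel72x5 rfl rfl
theorem rel72c6 : allFrom (chkRelF cfg relsL) (nat_lit 1429) (nat_lit 117576) = true := join rel72c5 rel72x6 rfl rfl
theorem rel72 : allFrom (chkRelF cfg relsL) (nat_lit 1633) (nat_lit 117576) = true := join rel72c6 rel72x7 rfl rfl

end Cfsg.Agent.Lib.Compute.TC.Fi24a
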