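-- Certificate checks for Fi24a.
import Cfsg.Agent.Lib.Compute.TC.Fi24a.Data
import Cfsg.Agent.Lib.Compute.TCSplit
set_option autoImplicit false
set_option Elab.async false
set_option maxRecDepth 1000000

open Cfsg.Agent.Lib.Compute.ToddCoxeterCore Cfsg.Agent.Lib.Compute.ToddCoxeterPresented Cfsg.Agent.Lib.Compute.TCFast

open Cfsg.Agent.Lib.Compute.TCSplit

namespace Cfsg.Agent.Lib.Compute.TC.Fi24a

theorem rel73x0 : allFrom (chkRelF cfg relsL) (nat_lit 205) (nat_lit 119209) = true := by decide +kernel
theorem rel73x1 : allFrom (chkRelF cfg relsL) (nat_lit 204) (nat_lit 119414) = true := by decide +kernel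
theorem rel73x2 : allFrom (chkRelF cfg relsL) (nat_lit 204) (nat_lit 119618) = true := by decide +kernel
theorem rel73x3 : allFrom (chkRelF cfg relsL) (nat_lit 204) (nat_lit 119822) = true := by decide +kernel
theorem rel73x4 : allFrom (chkRelF cfg relsL) (nat_lit 204) (nat_lit 120026) = true := by decide +kernel
theorem rel73x5 : allFrom (chkRelF cfg relsL) (nat_lit 204) (nat_lit 120230) = true := by decide +kernel
theorem rel73x6 : allFrom (chkRelF cfg relsL) (nat_lit 204) (nat_lit 120434) = true := by decide +kernel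
theorem rel73x7 : allFrom (chkRelF cfg relsL) (nat_lit 204) (nat_lit 120638) = true := by decide +kernel
theorem rel73c1 : allFrom (chkRelF cfg relsL) (nat_lit 409) (nat_lit 119209) = true := join rel73x0 rel73x1 rfl rfl
theorem rel73c2 : allFrom (chkRelF cfg relsL) (nat_lit 613) (nat_lit 119209) = true := join rel73c1 rel73x2 rfl rfl
theorem rel73c3 : allFrom (chkRelF cfg relsL) (nat_lit 817) (nat_lit 119209) = true := join rel73c2 rel73x3 rfl rfl
theorem rel73c4 : allFrom (chkRelF cfg relsL) (nat_lit 1021) (nat_lit 119209) = true := join rel73c3 rel73x4 rfl rfl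
theorem rel73c5 : allFrom (chkRelF cfg relsL) (nat_lit 1225) (nat_lit 119209) = true := join rel73c4 rel73x5 rfl rfl
theorem rel73c6 : allFrom (chkRelF cfg relsL) (nat_lit 1429) (nat_lit 119209) = true := join rel73c5 rel73x6 rfl rfl
theorem rel73 : allFrom (chkRelF cfg relsL) (nat_lit 1633) (nat_lit 119209) = true := join rel73c6 rel73x7 rfl rfl

end Cfsg.Agent.Lib.Compute.TC.Fi24a
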