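-- Certificate checks for Fi24a.
import Cfsg.Agent.Lib.Compute.TC.Fi24a.Data
import Cfsg.Agent.Lib.Compute.TCSplit
set_option autoImplicit false
set_option Elab.async false
set_option maxRecDepth 1000000

open Cfsg.Agent.Lib.Compute.ToddCoxeterCore Cfsg.Agent.Lib.Compute.ToddCoxeterPresented Cfsg.Agent.Lib.Compute.TCFast

open Cfsg.Agent.Lib.Compute.TCSplit

namespace Cfsg.Agent.Lib.Compute.TC.Fi24a

theorem rel74x0 : allFrom (chkRelF cfg relsL) (nat_lit 205) (nat_lit 120842) = true := by decide +kernel
theorem rel74x1 : allFrom (chkRelF cfg relsL) (nat_lit 204) (nat_lit 121047) = true := by decide +kernel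
theorem rel74x2 : allFrom (chkRelF cfg relsL) (nat_lit 204) (nat_lit 121251) = true := by decide +kernel
theorem rel74x3 : allFrom (chkRelF cfg relsL) (nat_lit 204) (nat_lit 121455) = true := by decide +kernel
theorem rel74x4 : allFrom (chkRelF cfg relsL) (nat_lit 204) (nat_lit 121659) = true := by decide +kernel
theorem rel74x5 : allFrom (chkRelF cfg relsL) (nat_lit 204) (nat_lit 121863) = true := by decide +kernel
theorem rel74x6 : allFrom (chkRelF cfg relsL) (nat_lit 204) (nat_lit 122067) = true := by decide +kernel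
theorem rel74x7 : allFrom (chkRelF cfg relsL) (nat_lit 204) (nat_lit 122271) = true := by decide +kernel
theorem rel74c1 : allFrom (chkRelF cfg relsL) (nat_lit 409) (nat_lit 120842) = true := join rel74x0 rel74x1 rfl rfl
theorem rel74c2 : allFrom (chkRelF cfg relsL) (nat_lit 613) (nat_lit 120842) = true := join rel74c1 rel74x2 rfl rfl
theorem rel74c3 : allFrom (chkRelF cfg relsL) (nat_lit 817) (nat_lit 120842) = true := join rel74c2 rel74x3 rfl rfl
theorem rel74c4 : allFrom (chkRelF cfg relsL) (nat_lit 1021) (nat_lit 120842) = true := join rel74c3 rel74x4 rfl rfl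
theorem rel74c5 : allFrom (chkRelF cfg relsL) (nat_lit 1225) (nat_lit 120842) = true := join rel74c4 rel74x5 rfl rfl
theorem rel74c6 : allFrom (chkRelF cfg relsL) (nat_lit 1429) (nat_lit 120842) = true := join rel74c5 rel74x6 rfl rfl
theorem rel74 : allFrom (chkRelF cfg relsL) (nat_lit 1633) (nat_lit 120842) = true := join rel74c6 rel74x7 rfl rfl

end Cfsg.Agent.Lib.Compute.TC.Fi24a
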