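-- Certificate checks for Fi24a.
import Cfsg.Agent.Lib.Compute.TC.Fi24a.Data
import Cfsg.Agent.Lib.Compute.TCSplit
set_option autoImplicit false
set_option Elab.async false
set_option maxRecDepth 1000000

open Cfsg.Agent.Lib.Compute.ToddCoxeterCore Cfsg.Agent.Lib.Compute.ToddCoxeterPresented Cfsg.Agent.Lib.Compute.TCFast

open Cfsg.Agent.Lib.Compute.TCSplit

namespace Cfsg.Agent.Lib.Compute.TC.Fi24a

theorem rel75x0 : allFrom (chkRelF cfg relsL) (nat_lit 205) (nat_lit 122475) = true := by decide +kernel
theorem rel75x1 : allFrom (chkRelF cfg relsL) (nat_lit 204) (nat_lit 122680) = true := by decide +kernel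
theorem rel75x2 : allFrom (chkRelF cfg relsL) (nat_lit 204) (nat_lit 122884) = true := by decide +kernel
theorem rel75x3 : allFrom (chkRelF cfg relsL) (nat_lit 204) (nat_lit 123088) = true := by decide +kernel
theorem rel75x4 : allFrom (chkRelF cfg relsL) (nat_lit 204) (nat_lit 123292) = true := by decide +kernel
theorem rel75x5 : allFrom (chkRelF cfg relsL) (nat_lit 204) (nat_lit 123496) = true := by decide +kernel
theorem rel75x6 : allFrom (chkRelF cfg relsL) (nat_lit 204) (nat_lit 123700) = true := by decide +kernel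
theorem rel75x7 : allFrom (chkRelF cfg relsL) (nat_lit 204) (nat_lit 123904) = true := by decide +kernel
theorem rel75c1 : allFrom (chkRelF cfg relsL) (nat_lit 409) (nat_lit 122475) = true := join rel75x0 rel75x1 rfl rfl
theorem rel75c2 : allFrom (chkRelF cfg relsL) (nat_lit 613) (nat_lit 122475) = true := join rel75c1 rel75x2 rfl rfl
theorem rel75c3 : allFrom (chkRelF cfg relsL) (nat_lit 817) (nat_lit 122475) = true := join rel75c2 rel75x3 rfl rfl
theorem rel75c4 : allFrom (chkRelF cfg relsL) (nat_lit 1021) (nat_lit 122475) = true := join rel75c3 rel75x4 rfl rfl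
theorem rel75c5 : allFrom (chkRelF cfg relsL) (nat_lit 1225) (nat_lit 122475) = true := join rel75c4 rel75x5 rfl rfl
theorem rel75c6 : allFrom (chkRelF cfg relsL) (nat_lit 1429) (nat_lit 122475) = true := join rel75c5 rel75x6 rfl rfl
theorem rel75 : allFrom (chkRelF cfg relsL) (nat_lit 1633) (nat_lit 122475) = true := join rel75c6 rel75x7 rfl rfl

end Cfsg.Agent.Lib.Compute.TC.Fi24a
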