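-- Certificate checks for Fi24a.
import Cfsg.Agent.Lib.Compute.TC.Fi24a.Data
import Cfsg.Agent.Lib.Compute.TCSplit
set_option autoImplicit false
set_option Elab.async false
set_option maxRecDepth 1000000

open Cfsg.Agent.Lib.Compute.ToddCoxeterCore Cfsg.Agent.Lib.Compute.ToddCoxeterPresented Cfsg.Agent.Lib.Compute.TCFast

open Cfsg.Agent.Lib.Compute.TCSplit

namespace Cfsg.Agent.Lib.Compute.TC.Fi24a

theorem rel77x0 : allFrom (chkRelF cfg relsL) (nat_lit 205) (nat_lit 125741) = true := by decide +kernel
theorem rel77x1 : allFrom (chkRelF cfg relsL) (nat_lit 204) (nat_lit 125946) = true := by decide +kernel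
theorem rel77x2 : allFrom (chkRelF cfg relsL) (nat_lit 204) (nat_lit 126150) = true := by decide +kernel
theorem rel77x3 : allFrom (chkRelF cfg relsL) (nat_lit 204) (nat_lit 126354) = true := by decide +kernel
theorem rel77x4 : allFrom (chkRelF cfg relsL) (nat_lit 204) (nat_lit 126558) = true := by decide +kernel
theorem rel77x5 : allFrom (chkRelF cfg relsL) (nat_lit 204) (nat_lit 126762) = true := by decide +kernel
theorem rel77x6 : allFrom (chkRelF cfg relsL) (nat_lit 204) (nat_lit 126966) = true := by decide +kernel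
theorem rel77x7 : allFrom (chkRelF cfg relsL) (nat_lit 204) (nat_lit 127170) = true := by decide +kernel
theorem rel77c1 : allFrom (chkRelF cfg relsL) (nat_lit 409) (nat_lit 125741) = true := join rel77x0 rel77x1 rfl rfl
theorem rel77c2 : allFrom (chkRelF cfg relsL) (nat_lit 613) (nat_lit 125741) = true := join rel77c1 rel77x2 rfl rfl
theorem rel77c3 : allFrom (chkRelF cfg relsL) (nat_lit 817) (nat_lit 125741) = true := join rel77c2 rel77x3 rfl rfl
theorem rel77c4 : allFrom (chkRelF cfg relsL) (nat_lit 1021) (nat_lit 125741) = true := join rel77c3 rel77x4 rfl rfl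
theorem rel77c5 : allFrom (chkRelF cfg relsL) (nat_lit 1225) (nat_lit 125741) = true := join rel77c4 rel77x5 rfl rfl
theorem rel77c6 : allFrom (chkRelF cfg relsL) (nat_lit 1429) (nat_lit 125741) = true := join rel77c5 rel77x6 rfl rfl
theorem rel77 : allFrom (chkRelF cfg relsL) (nat_lit 1633) (nat_lit 125741) = true := join rel77c6 rel77x7 rfl rfl

end Cfsg.Agent.Lib.Compute.TC.Fi24a
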