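-- Certificate checks for Fi24a.
import Cfsg.Agent.Lib.Compute.TC.Fi24a.Data
import Cfsg.Agent.Lib.Compute.TCSplit
set_option autoImplicit false
set_option Elab.async false
set_option maxRecDepth 1000000

open Cfsg.Agent.Lib.Compute.ToddCoxeterCore Cfsg.Agent.Lib.Compute.ToddCoxeterPresented Cfsg.Agent.Lib.Compute.TCFast

open Cfsg.Agent.Lib.Compute.TCSplit

namespace Cfsg.Agent.Lib.Compute.TC.Fi24a

theorem rel78x0 : allFrom (chkRelF cfg relsL) (nat_lit 205) (nat_lit 127374) = true := by decide +kernel
theorem rel78x1 : allFrom (chkRelF cfg relsL) (nat_lit 204) (nat_lit 127579) = true := by decide +kernel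
theorem rel78x2 : allFrom (chkRelF cfg relsL) (nat_lit 204) (nat_lit 127783) = true := by decide +kernel
theorem rel78x3 : allFrom (chkRelF cfg relsL) (nat_lit 204) (nat_lit 127987) = true := by decide +kernel
theorem rel78x4 : allFrom (chkRelF cfg relsL) (nat_lit 204) (nat_lit 128191) = true := by decide +kernel
theorem rel78x5 : allFrom (chkRelF cfg relsL) (nat_lit 204) (nat_lit 128395) = true := by decide +kernel
theorem rel78x6 : allFrom (chkRelF cfg relsL) (nat_lit 204) (nat_lit 128599) = true := by decide +kernel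
theorem rel78x7 : allFrom (chkRelF cfg relsL) (nat_lit 204) (nat_lit 128803) = true := by decide +kernel
theorem rel78c1 : allFrom (chkRelF cfg relsL) (nat_lit 409) (nat_lit 127374) = true := join rel78x0 rel78x1 rfl rfl
theorem rel78c2 : allFrom (chkRelF cfg relsL) (nat_lit 613) (nat_lit 127374) = true := join rel78c1 rel78x2 rfl rfl
theorem rel78c3 : allFrom (chkRelF cfg relsL) (nat_lit 817) (nat_lit 127374) = true := join rel78c2 rel78x3 rfl rfl
theorem rel78c4 : allFrom (chkRelF cfg relsL) (nat_lit 1021) (nat_lit 127374) = true := join rel78c3 rel78x4 rfl rfl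
theorem rel78c5 : allFrom (chkRelF cfg relsL) (nat_lit 1225) (nat_lit 127374) = true := join rel78c4 rel78x5 rfl rfl
theorem rel78c6 : allFrom (chkRelF cfg relsL) (nat_lit 1429) (nat_lit 127374) = true := join rel78c5 rel78x6 rfl rfl
theorem rel78 : allFrom (chkRelF cfg relsL) (nat_lit 1633) (nat_lit 127374) = true := join rel78c6 rel78x7 rfl rfl

end Cfsg.Agent.Lib.Compute.TC.Fi24a
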