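-- Certificate checks for Fi24a.
import Cfsg.Agent.Lib.Compute.TC.Fi24a.Data
import Cfsg.Agent.Lib.Compute.TCSplit
set_option autoImplicit false
set_option Elab.async false
set_option maxRecDepth 1000000

open Cfsg.Agent.Lib.Compute.ToddCoxeterCore Cfsg.Agent.Lib.Compute.ToddCoxeterPresented Cfsg.Agent.Lib.Compute.TCFast

open Cfsg.Agent.Lib.Compute.TCSplit

namespace Cfsg.Agent.Lib.Compute.TC.Fi24a

theorem rel79x0 : allFrom (chkRelF cfg relsL) (nat_lit 205) (nat_lit 129007) = true := by decide +kernel
theorem rel79x1 : allFrom (chkRelF cfg relsL) (nat_lit 204) (nat_lit 129212) = true := by decide +kernel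
theorem rel79x2 : allFrom (chkRelF cfg relsL) (nat_lit 204) (nat_lit 129416) = true := by decide +kernel
theorem rel79x3 : allFrom (chkRelF cfg relsL) (nat_lit 204) (nat_lit 129620) = true := by decide +kernel
theorem rel79x4 : allFrom (chkRelF cfg relsL) (nat_lit 204) (nat_lit 129824) = true := by decide +kernel
theorem rel79x5 : allFrom (chkRelF cfg relsL) (nat_lit 204) (nat_lit 130028) = true := by decide +kernel
theorem rel79x6 : allFrom (chkRelF cfg relsL) (nat_lit 204) (nat_lit 130232) = true := by decide +kernel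
theorem rel79x7 : allFrom (chkRelF cfg relsL) (nat_lit 204) (nat_lit 130436) = true := by decide +kernel
theorem rel79c1 : allFrom (chkRelF cfg relsL) (nat_lit 409) (nat_lit 129007) = true := join rel79x0 rel79x1 rfl rfl
theorem rel79c2 : allFrom (chkRelF cfg relsL) (nat_lit 613) (nat_lit 129007) = true := join rel79c1 rel79x2 rfl rfl
theorem rel79c3 : allFrom (chkRelF cfg relsL) (nat_lit 817) (nat_lit 129007) = true := join rel79c2 rel79x3 rfl rfl
theorem rel79c4 : allFrom (chkRelF cfg relsL) (nat_lit 1021) (nat_lit 129007) = true := join rel79c3 rel79x4 rfl rfl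
theorem rel79c5 : allFrom (chkRelF cfg relsL) (nat_lit 1225) (nat_lit 129007) = true := join rel79c4 rel79x5 rfl rfl
theorem rel79c6 : allFrom (chkRelF cfg relsL) (nat_lit 1429) (nat_lit 129007) = true := join rel79c5 rel79x6 rfl rfl
theorem rel79 : allFrom (chkRelF cfg relsL) (nat_lit 1633) (nat_lit 129007) = true := join rel79c6 rel79x7 rfl rfl

end Cfsg.Agent.Lib.Compute.TC.Fi24a
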