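-- Certificate checks for Fi24a.
import Cfsg.Agent.Lib.Compute.TC.Fi24a.Data
import Cfsg.Agent.Lib.Compute.TCSplit
set_option autoImplicit false
set_option Elab.async false
set_option maxRecDepth 1000000

open Cfsg.Agent.Lib.Compute.ToddCoxeterCore Cfsg.Agent.Lib.Compute.ToddCoxeterPresented Cfsg.Agent.Lib.Compute.TCFast

open Cfsg.Agent.Lib.Compute.TCSplit

namespace Cfsg.Agent.Lib.Compute.TC.Fi24a

theorem rel8x0 : allFrom (chkRelF cfg relsL) (nat_lit 205) (nat_lit 13064) = true := by decide +kernel
theorem rel8x1 : allFrom (chkRelF cfg relsL) (nat_lit 204) (nat_lit 13269) = true := by decide +kernel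
theorem rel8x2 : allFrom (chkRelF cfg relsL) (nat_lit 204) (nat_lit 13473) = true := by decide +kernel
theorem rel8x3 : allFrom (chkRelF cfg relsL) (nat_lit 204) (nat_lit 13677) = true := by decide +kernel
theorem rel8x4 : allFrom (chkRelF cfg relsL) (nat_lit 204) (nat_lit 13881) = true := by decide +kernel
theorem rel8x5 : allFrom (chkRelF cfg relsL) (nat_lit 204) (nat_lit 14085) = true := by decide +kernel
theorem rel8x6 : allFrom (chkRelF cfg relsL) (nat_lit 204) (nat_lit 14289) = true := by decide +kernel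
theorem rel8x7 : allFrom (chkRelF cfg relsL) (nat_lit 204) (nat_lit 14493) = true := by decide +kernel
theorem rel8c1 : allFrom (chkRelF cfg relsL) (nat_lit 409) (nat_lit 13064) = true := join rel8x0 rel8x1 rfl rfl
theorem rel8c2 : allFrom (chkRelF cfg relsL) (nat_lit 613) (nat_lit 13064) = true := join rel8c1 rel8x2 rfl rfl
theorem rel8c3 : allFrom (chkRelF cfg relsL) (nat_lit 817) (nat_lit 13064) = true := join rel8c2 rel8x3 rfl rfl
theorem rel8c4 : allFrom (chkRelF cfg relsL) (nat_lit 1021) (nat_lit 13064) = true := join rel8c3 rel8x4 rfl rfl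
theorem rel8c5 : allFrom (chkRelF cfg relsL) (nat_lit 1225) (nat_lit 13064) = true := join rel8c4 rel8x5 rfl rfl
theorem rel8c6 : allFrom (chkRelF cfg relsL) (nat_lit 1429) (nat_lit 13064) = true := join rel8c5 rel8x6 rfl rfl
theorem rel8 : allFrom (chkRelF cfg relsL) (nat_lit 1633) (nat_lit 13064) = true := join rel8c6 rel8x7 rfl rfl

end Cfsg.Agent.Lib.Compute.TC.Fi24a
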