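-- Certificate checks for Fi24a.
import Cfsg.Agent.Lib.Compute.TC.Fi24a.Data
import Cfsg.Agent.Lib.Compute.TCSplit
set_option autoImplicit false
set_option Elab.async false
set_option maxRecDepth 1000000

open Cfsg.Agent.Lib.Compute.ToddCoxeterCore Cfsg.Agent.Lib.Compute.ToddCoxeterPresented Cfsg.Agent.Lib.Compute.TCFast

open Cfsg.Agent.Lib.Compute.TCSplit

namespace Cfsg.Agent.Lib.Compute.TC.Fi24a

theorem rel80x0 : allFrom (chkRelF cfg relsL) (nat_lit 205) (nat_lit 130640) = true := by decide +kernel
theorem rel80x1 : allFrom (chkRelF cfg relsL) (nat_lit 204) (nat_lit 130845) = true := by decide +kernel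
theorem rel80x2 : allFrom (chkRelF cfg relsL) (nat_lit 204) (nat_lit 131049) = true := by decide +kernel
theorem rel80x3 : allFrom (chkRelF cfg relsL) (nat_lit 204) (nat_lit 131253) = true := by decide +kernel
theorem rel80x4 : allFrom (chkRelF cfg relsL) (nat_lit 204) (nat_lit 131457) = true := by decide +kernel
theorem rel80x5 : allFrom (chkRelF cfg relsL) (nat_lit 204) (nat_lit 131661) = true := by decide +kernel
theorem rel80x6 : allFrom (chkRelF cfg relsL) (nat_lit 204) (nat_lit 131865) = true := by decide +kernel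
theorem rel80x7 : allFrom (chkRelF cfg relsL) (nat_lit 204) (nat_lit 132069) = true := by decide +kernel
theorem rel80c1 : allFrom (chkRelF cfg relsL) (nat_lit 409) (nat_lit 130640) = true := join rel80x0 rel80x1 rfl rfl
theorem rel80c2 : allFrom (chkRelF cfg relsL) (nat_lit 613) (nat_lit 130640) = true := join rel80c1 rel80x2 rfl rfl
theorem rel80c3 : allFrom (chkRelF cfg relsL) (nat_lit 817) (nat_lit 130640) = true := join rel80c2 rel80x3 rfl rfl
theorem rel80c4 : allFrom (chkRelF cfg relsL) (nat_lit 1021) (nat_lit 130640) = true := join rel80c3 rel80x4 rfl rfl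
theorem rel80c5 : allFrom (chkRelF cfg relsL) (nat_lit 1225) (nat_lit 130640) = true := join rel80c4 rel80x5 rfl rfl
theorem rel80c6 : allFrom (chkRelF cfg relsL) (nat_lit 1429) (nat_lit 130640) = true := join rel80c5 rel80x6 rfl rfl
theorem rel80 : allFrom (chkRelF cfg relsL) (nat_lit 1633) (nat_lit 130640) = true := join rel80c6 rel80x7 rfl rfl

end Cfsg.Agent.Lib.Compute.TC.Fi24a
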