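-- Certificate checks for Fi24a.
import Cfsg.Agent.Lib.Compute.TC.Fi24a.Data
import Cfsg.Agent.Lib.Compute.TCSplit
set_option autoImplicit false
set_option Elab.async false
set_option maxRecDepth 1000000

open Cfsg.Agent.Lib.Compute.ToddCoxeterCore Cfsg.Agent.Lib.Compute.ToddCoxeterPresented Cfsg.Agent.Lib.Compute.TCFast

open Cfsg.Agent.Lib.Compute.TCSplit

namespace Cfsg.Agent.Lib.Compute.TC.Fi24a

theorem rel81x0 : allFrom (chkRelF cfg relsL) (nat_lit 205) (nat_lit 132273) = true := by decide +kernel
theorem rel81x1 : allFrom (chkRelF cfg relsL) (nat_lit 204) (nat_lit 132478) = true := by decide +kernel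
theorem rel81x2 : allFrom (chkRelF cfg relsL) (nat_lit 204) (nat_lit 132682) = true := by decide +kernel
theorem rel81x3 : allFrom (chkRelF cfg relsL) (nat_lit 204) (nat_lit 132886) = true := by decide +kernel
theorem rel81x4 : allFrom (chkRelF cfg relsL) (nat_lit 204) (nat_lit 133090) = true := by decide +kernel
theorem rel81x5 : allFrom (chkRelF cfg relsL) (nat_lit 204) (nat_lit 133294) = true := by decide +kernel
theorem rel81x6 : allFrom (chkRelF cfg relsL) (nat_lit 204) (nat_lit 133498) = true := by decide +kernel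
theorem rel81x7 : allFrom (chkRelF cfg relsL) (nat_lit 204) (nat_lit 133702) = true := by decide +kernel
theorem rel81c1 : allFrom (chkRelF cfg relsL) (nat_lit 409) (nat_lit 132273) = true := join rel81x0 rel81x1 rfl rfl
theorem rel81c2 : allFrom (chkRelF cfg relsL) (nat_lit 613) (nat_lit 132273) = true := join rel81c1 rel81x2 rfl rfl
theorem rel81c3 : allFrom (chkRelF cfg relsL) (nat_lit 817) (nat_lit 132273) = true := join rel81c2 rel81x3 rfl rfl
theorem rel81c4 : allFrom (chkRelF cfg relsL) (nat_lit 1021) (nat_lit 132273) = true := join rel81c3 rel81x4 rfl rfl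
theorem rel81c5 : allFrom (chkRelF cfg relsL) (nat_lit 1225) (nat_lit 132273) = true := join rel81c4 rel81x5 rfl rfl
theorem rel81c6 : allFrom (chkRelF cfg relsL) (nat_lit 1429) (nat_lit 132273) = true := join rel81c5 rel81x6 rfl rfl
theorem rel81 : allFrom (chkRelF cfg relsL) (nat_lit 1633) (nat_lit 132273) = true := join rel81c6 rel81x7 rfl rfl

end Cfsg.Agent.Lib.Compute.TC.Fi24a
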