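-- Certificate checks for Fi24a.
import Cfsg.Agent.Lib.Compute.TC.Fi24a.Data
import Cfsg.Agent.Lib.Compute.TCSplit
set_option autoImplicit false
set_option Elab.async false
set_option maxRecDepth 1000000

open Cfsg.Agent.Lib.Compute.ToddCoxeterCore Cfsg.Agent.Lib.Compute.ToddCoxeterPresented Cfsg.Agent.Lib.Compute.TCFast

open Cfsg.Agent.Lib.Compute.TCSplit

namespace Cfsg.Agent.Lib.Compute.TC.Fi24a

theorem rel82x0 : allFrom (chkRelF cfg relsL) (nat_lit 205) (nat_lit 133906) = true := by decide +kernel
theorem rel82x1 : allFrom (chkRelF cfg relsL) (nat_lit 204) (nat_lit 134111) = true := by decide +kernel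
theorem rel82x2 : allFrom (chkRelF cfg relsL) (nat_lit 204) (nat_lit 134315) = true := by decide +kernel
theorem rel82x3 : allFrom (chkRelF cfg relsL) (nat_lit 204) (nat_lit 134519) = true := by decide +kernel
theorem rel82x4 : allFrom (chkRelF cfg relsL) (nat_lit 204) (nat_lit 134723) = true := by decide +kernel
theorem rel82x5 : allFrom (chkRelF cfg relsL) (nat_lit 204) (nat_lit 134927) = true := by decide +kernel
theorem rel82x6 : allFrom (chkRelF cfg relsL) (nat_lit 204) (nat_lit 135131) = true := by decide +kernel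
theorem rel82x7 : allFrom (chkRelF cfg relsL) (nat_lit 204) (nat_lit 135335) = true := by decide +kernel
theorem rel82c1 : allFrom (chkRelF cfg relsL) (nat_lit 409) (nat_lit 133906) = true := join rel82x0 rel82x1 rfl rfl
theorem rel82c2 : allFrom (chkRelF cfg relsL) (nat_lit 613) (nat_lit 133906) = true := join rel82c1 rel82x2 rfl rfl
theorem rel82c3 : allFrom (chkRelF cfg relsL) (nat_lit 817) (nat_lit 133906) = true := join rel82c2 rel82x3 rfl rfl
theorem rel82c4 : allFrom (chkRelF cfg relsL) (nat_lit 1021) (nat_lit 133906) = true := join rel82c3 rel82x4 rfl rfl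
theorem rel82c5 : allFrom (chkRelF cfg relsL) (nat_lit 1225) (nat_lit 133906) = true := join rel82c4 rel82x5 rfl rfl
theorem rel82c6 : allFrom (chkRelF cfg relsL) (nat_lit 1429) (nat_lit 133906) = true := join rel82c5 rel82x6 rfl rfl
theorem rel82 : allFrom (chkRelF cfg relsL) (nat_lit 1633) (nat_lit 133906) = true := join rel82c6 rel82x7 rfl rfl

end Cfsg.Agent.Lib.Compute.TC.Fi24a
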