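-- Certificate checks for Fi24a.
import Cfsg.Agent.Lib.Compute.TC.Fi24a.Data
import Cfsg.Agent.Lib.Compute.TCSplit
set_option autoImplicit false
set_option Elab.async false
set_option maxRecDepth 1000000

open Cfsg.Agent.Lib.Compute.ToddCoxeterCore Cfsg.Agent.Lib.Compute.ToddCoxeterPresented Cfsg.Agent.Lib.Compute.TCFast

open Cfsg.Agent.Lib.Compute.TCSplit

namespace Cfsg.Agent.Lib.Compute.TC.Fi24a

theorem rel83x0 : allFrom (chkRelF cfg relsL) (nat_lit 205) (nat_lit 135539) = true := by decide +kernel
theorem rel83x1 : allFrom (chkRelF cfg relsL) (nat_lit 204) (nat_lit 135744) = true := by decide +kernel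
theorem rel83x2 : allFrom (chkRelF cfg relsL) (nat_lit 204) (nat_lit 135948) = true := by decide +kernel
theorem rel83x3 : allFrom (chkRelF cfg relsL) (nat_lit 204) (nat_lit 136152) = true := by decide +kernel
theorem rel83x4 : allFrom (chkRelF cfg relsL) (nat_lit 204) (nat_lit 136356) = true := by decide +kernel
theorem rel83x5 : allFrom (chkRelF cfg relsL) (nat_lit 204) (nat_lit 136560) = true := by decide +kernel
theorem rel83x6 : allFrom (chkRelF cfg relsL) (nat_lit 204) (nat_lit 136764) = true := by decide +kernel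
theorem rel83x7 : allFrom (chkRelF cfg relsL) (nat_lit 204) (nat_lit 136968) = true := by decide +kernel
theorem rel83c1 : allFrom (chkRelF cfg relsL) (nat_lit 409) (nat_lit 135539) = true := join rel83x0 rel83x1 rfl rfl
theorem rel83c2 : allFrom (chkRelF cfg relsL) (nat_lit 613) (nat_lit 135539) = true := join rel83c1 rel83x2 rfl rfl
theorem rel83c3 : allFrom (chkRelF cfg relsL) (nat_lit 817) (nat_lit 135539) = true := join rel83c2 rel83x3 rfl rfl
theorem rel83c4 : allFrom (chkRelF cfg relsL) (nat_lit 1021) (nat_lit 135539) = true := join rel83c3 rel83x4 rfl rfl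
theorem rel83c5 : allFrom (chkRelF cfg relsL) (nat_lit 1225) (nat_lit 135539) = true := join rel83c4 rel83x5 rfl rfl
theorem rel83c6 : allFrom (chkRelF cfg relsL) (nat_lit 1429) (nat_lit 135539) = true := join rel83c5 rel83x6 rfl rfl
theorem rel83 : allFrom (chkRelF cfg relsL) (nat_lit 1633) (nat_lit 135539) = true := join rel83c6 rel83x7 rfl rfl

end Cfsg.Agent.Lib.Compute.TC.Fi24a
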