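-- Certificate checks for Fi24a.
import Cfsg.Agent.Lib.Compute.TC.Fi24a.Data
import Cfsg.Agent.Lib.Compute.TCSplit
set_option autoImplicit false
set_option Elab.async false
set_option maxRecDepth 1000000

open Cfsg.Agent.Lib.Compute.ToddCoxeterCore Cfsg.Agent.Lib.Compute.ToddCoxeterPresented Cfsg.Agent.Lib.Compute.TCFast

open Cfsg.Agent.Lib.Compute.TCSplit

namespace Cfsg.Agent.Lib.Compute.TC.Fi24a

theorem rel84x0 : allFrom (chkRelF cfg relsL) (nat_lit 205) (nat_lit 137172) = true := by decide +kernel
theorem rel84x1 : allFrom (chkRelF cfg relsL) (nat_lit 204) (nat_lit 137377) = true := by decide +kernel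
theorem rel84x2 : allFrom (chkRelF cfg relsL) (nat_lit 204) (nat_lit 137581) = true := by decide +kernel
theorem rel84x3 : allFrom (chkRelF cfg relsL) (nat_lit 204) (nat_lit 137785) = true := by decide +kernel
theorem rel84x4 : allFrom (chkRelF cfg relsL) (nat_lit 204) (nat_lit 137989) = true := by decide +kernel
theorem rel84x5 : allFrom (chkRelF cfg relsL) (nat_lit 204) (nat_lit 138193) = true := by decide +kernel
theorem rel84x6 : allFrom (chkRelF cfg relsL) (nat_lit 204) (nat_lit 138397) = true := by decide +kernel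
theorem rel84x7 : allFrom (chkRelF cfg relsL) (nat_lit 204) (nat_lit 138601) = true := by decide +kernel
theorem rel84c1 : allFrom (chkRelF cfg relsL) (nat_lit 409) (nat_lit 137172) = true := join rel84x0 rel84x1 rfl rfl
theorem rel84c2 : allFrom (chkRelF cfg relsL) (nat_lit 613) (nat_lit 137172) = true := join rel84c1 rel84x2 rfl rfl
theorem rel84c3 : allFrom (chkRelF cfg relsL) (nat_lit 817) (nat_lit 137172) = true := join rel84c2 rel84x3 rfl rfl
theorem rel84c4 : allFrom (chkRelF cfg relsL) (nat_lit 1021) (nat_lit 137172) = true := join rel84c3 rel84x4 rfl rfl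
theorem rel84c5 : allFrom (chkRelF cfg relsL) (nat_lit 1225) (nat_lit 137172) = true := join rel84c4 rel84x5 rfl rfl
theorem rel84c6 : allFrom (chkRelF cfg relsL) (nat_lit 1429) (nat_lit 137172) = true := join rel84c5 rel84x6 rfl rfl
theorem rel84 : allFrom (chkRelF cfg relsL) (nat_lit 1633) (nat_lit 137172) = true := join rel84c6 rel84x7 rfl rfl

end Cfsg.Agent.Lib.Compute.TC.Fi24a
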