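-- Certificate checks for Fi24a.
import Cfsg.Agent.Lib.Compute.TC.Fi24a.Data
import Cfsg.Agent.Lib.Compute.TCSplit
set_option autoImplicit false
set_option Elab.async false
set_option maxRecDepth 1000000

open Cfsg.Agent.Lib.Compute.ToddCoxeterCore Cfsg.Agent.Lib.Compute.ToddCoxeterPresented Cfsg.Agent.Lib.Compute.TCFast

open Cfsg.Agent.Lib.Compute.TCSplit

namespace Cfsg.Agent.Lib.Compute.TC.Fi24a

theorem rel85x0 : allFrom (chkRelF cfg relsL) (nat_lit 205) (nat_lit 138805) = true := by decide +kernel
theorem rel85x1 : allFrom (chkRelF cfg relsL) (nat_lit 204) (nat_lit 139010) = true := by decide +kernel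
theorem rel85x2 : allFrom (chkRelF cfg relsL) (nat_lit 204) (nat_lit 139214) = true := by decide +kernel
theorem rel85x3 : allFrom (chkRelF cfg relsL) (nat_lit 204) (nat_lit 139418) = true := by decide +kernel
theorem rel85x4 : allFrom (chkRelF cfg relsL) (nat_lit 204) (nat_lit 139622) = true := by decide +kernel
theorem rel85x5 : allFrom (chkRelF cfg relsL) (nat_lit 204) (nat_lit 139826) = true := by decide +kernel
theorem rel85x6 : allFrom (chkRelF cfg relsL) (nat_lit 204) (nat_lit 140030) = true := by decide +kernel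
theorem rel85x7 : allFrom (chkRelF cfg relsL) (nat_lit 204) (nat_lit 140234) = true := by decide +kernel
theorem rel85c1 : allFrom (chkRelF cfg relsL) (nat_lit 409) (nat_lit 138805) = true := join rel85x0 rel85x1 rfl rfl
theorem rel85c2 : allFrom (chkRelF cfg relsL) (nat_lit 613) (nat_lit 138805) = true := join rel85c1 rel85x2 rfl rfl
theorem rel85c3 : allFrom (chkRelF cfg relsL) (nat_lit 817) (nat_lit 138805) = true := join rel85c2 rel85x3 rfl rfl
theorem rel85c4 : allFrom (chkRelF cfg relsL) (nat_lit 1021) (nat_lit 138805) = true := join rel85c3 rel85x4 rfl rfl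
theorem rel85c5 : allFrom (chkRelF cfg relsL) (nat_lit 1225) (nat_lit 138805) = true := join rel85c4 rel85x5 rfl rfl
theorem rel85c6 : allFrom (chkRelF cfg relsL) (nat_lit 1429) (nat_lit 138805) = true := join rel85c5 rel85x6 rfl rfl
theorem rel85 : allFrom (chkRelF cfg relsL) (nat_lit 1633) (nat_lit 138805) = true := join rel85c6 rel85x7 rfl rfl

end Cfsg.Agent.Lib.Compute.TC.Fi24a
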