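-- Certificate checks for Fi24a.
import Cfsg.Agent.Lib.Compute.TC.Fi24a.Data
import Cfsg.Agent.Lib.Compute.TCSplit
set_option autoImplicit false
set_option Elab.async false
set_option maxRecDepth 1000000

open Cfsg.Agent.Lib.Compute.ToddCoxeterCore Cfsg.Agent.Lib.Compute.ToddCoxeterPresented Cfsg.Agent.Lib.Compute.TCFast

open Cfsg.Agent.Lib.Compute.TCSplit

namespace Cfsg.Agent.Lib.Compute.TC.Fi24a

theorem rel86x0 : allFrom (chkRelF cfg relsL) (nat_lit 205) (nat_lit 140438) = true := by decide +kernel
theorem rel86x1 : allFrom (chkRelF cfg relsL) (nat_lit 204) (nat_lit 140643) = true := by decide +kernel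
theorem rel86x2 : allFrom (chkRelF cfg relsL) (nat_lit 204) (nat_lit 140847) = true := by decide +kernel
theorem rel86x3 : allFrom (chkRelF cfg relsL) (nat_lit 204) (nat_lit 141051) = true := by decide +kernel
theorem rel86x4 : allFrom (chkRelF cfg relsL) (nat_lit 204) (nat_lit 141255) = true := by decide +kernel
theorem rel86x5 : allFrom (chkRelF cfg relsL) (nat_lit 204) (nat_lit 141459) = true := by decide +kernel
theorem rel86x6 : allFrom (chkRelF cfg relsL) (nat_lit 204) (nat_lit 141663) = true := by decide +kernel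
theorem rel86x7 : allFrom (chkRelF cfg relsL) (nat_lit 204) (nat_lit 141867) = true := by decide +kernel
theorem rel86c1 : allFrom (chkRelF cfg relsL) (nat_lit 409) (nat_lit 140438) = true := join rel86x0 rel86x1 rfl rfl
theorem rel86c2 : allFrom (chkRelF cfg relsL) (nat_lit 613) (nat_lit 140438) = true := join rel86c1 rel86x2 rfl rfl
theorem rel86c3 : allFrom (chkRelF cfg relsL) (nat_lit 817) (nat_lit 140438) = true := join rel86c2 rel86x3 rfl rfl
theorem rel86c4 : allFrom (chkRelF cfg relsL) (nat_lit 1021) (nat_lit 140438) = true := join rel86c3 rel86x4 rfl rfl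
theorem rel86c5 : allFrom (chkRelF cfg relsL) (nat_lit 1225) (nat_lit 140438) = true := join rel86c4 rel86x5 rfl rfl
theorem rel86c6 : allFrom (chkRelF cfg relsL) (nat_lit 1429) (nat_lit 140438) = true := join rel86c5 rel86x6 rfl rfl
theorem rel86 : allFrom (chkRelF cfg relsL) (nat_lit 1633) (nat_lit 140438) = true := join rel86c6 rel86x7 rfl rfl

end Cfsg.Agent.Lib.Compute.TC.Fi24a
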