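-- Certificate checks for Fi24a.
import Cfsg.Agent.Lib.Compute.TC.Fi24a.Data
import Cfsg.Agent.Lib.Compute.TCSplit
set_option autoImplicit false
set_option Elab.async false
set_option maxRecDepth 1000000

open Cfsg.Agent.Lib.Compute.ToddCoxeterCore Cfsg.Agent.Lib.Compute.ToddCoxeterPresented Cfsg.Agent.Lib.Compute.TCFast

open Cfsg.Agent.Lib.Compute.TCSplit

namespace Cfsg.Agent.Lib.Compute.TC.Fi24a

theorem rel88x0 : allFrom (chkRelF cfg relsL) (nat_lit 205) (nat_lit 143704) = true := by decide +kernel
theorem rel88x1 : allFrom (chkRelF cfg relsL) (nat_lit 204) (nat_lit 143909) = true := by decide +kernel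
theorem rel88x2 : allFrom (chkRelF cfg relsL) (nat_lit 204) (nat_lit 144113) = true := by decide +kernel
theorem rel88x3 : allFrom (chkRelF cfg relsL) (nat_lit 204) (nat_lit 144317) = true := by decide +kernel
theorem rel88x4 : allFrom (chkRelF cfg relsL) (nat_lit 204) (nat_lit 144521) = true := by decide +kernel
theorem rel88x5 : allFrom (chkRelF cfg relsL) (nat_lit 204) (nat_lit 144725) = true := by decide +kernel
theorem rel88x6 : allFrom (chkRelF cfg relsL) (nat_lit 204) (nat_lit 144929) = true := by decide +kernel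
theorem rel88x7 : allFrom (chkRelF cfg relsL) (nat_lit 204) (nat_lit 145133) = true := by decide +kernel
theorem rel88c1 : allFrom (chkRelF cfg relsL) (nat_lit 409) (nat_lit 143704) = true := join rel88x0 rel88x1 rfl rfl
theorem rel88c2 : allFrom (chkRelF cfg relsL) (nat_lit 613) (nat_lit 143704) = true := join rel88c1 rel88x2 rfl rfl
theorem rel88c3 : allFrom (chkRelF cfg relsL) (nat_lit 817) (nat_lit 143704) = true := join rel88c2 rel88x3 rfl rfl
theorem rel88c4 : allFrom (chkRelF cfg relsL) (nat_lit 1021) (nat_lit 143704) = true := join rel88c3 rel88x4 rfl rfl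
theorem rel88c5 : allFrom (chkRelF cfg relsL) (nat_lit 1225) (nat_lit 143704) = true := join rel88c4 rel88x5 rfl rfl
theorem rel88c6 : allFrom (chkRelF cfg relsL) (nat_lit 1429) (nat_lit 143704) = true := join rel88c5 rel88x6 rfl rfl
theorem rel88 : allFrom (chkRelF cfg relsL) (nat_lit 1633) (nat_lit 143704) = true := join rel88c6 rel88x7 rfl rfl

end Cfsg.Agent.Lib.Compute.TC.Fi24a
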