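-- Certificate checks for Fi24a.
import Cfsg.Agent.Lib.Compute.TC.Fi24a.Data
import Cfsg.Agent.Lib.Compute.TCSplit
set_option autoImplicit false
set_option Elab.async false
set_option maxRecDepth 1000000

open Cfsg.Agent.Lib.Compute.ToddCoxeterCore Cfsg.Agent.Lib.Compute.ToddCoxeterPresented Cfsg.Agent.Lib.Compute.TCFast

open Cfsg.Agent.Lib.Compute.TCSplit

namespace Cfsg.Agent.Lib.Compute.TC.Fi24a

theorem rel89x0 : allFrom (chkRelF cfg relsL) (nat_lit 205) (nat_lit 145337) = true := by decide +kernel
theorem rel89x1 : allFrom (chkRelF cfg relsL) (nat_lit 204) (nat_lit 145542) = true := by decide +kernel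
theorem rel89x2 : allFrom (chkRelF cfg relsL) (nat_lit 204) (nat_lit 145746) = true := by decide +kernel
theorem rel89x3 : allFrom (chkRelF cfg relsL) (nat_lit 204) (nat_lit 145950) = true := by decide +kernel
theorem rel89x4 : allFrom (chkRelF cfg relsL) (nat_lit 204) (nat_lit 146154) = true := by decide +kernel
theorem rel89x5 : allFrom (chkRelF cfg relsL) (nat_lit 204) (nat_lit 146358) = true := by decide +kernel
theorem rel89x6 : allFrom (chkRelF cfg relsL) (nat_lit 204) (nat_lit 146562) = true := by decide +kernel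
theorem rel89x7 : allFrom (chkRelF cfg relsL) (nat_lit 204) (nat_lit 146766) = true := by decide +kernel
theorem rel89c1 : allFrom (chkRelF cfg relsL) (nat_lit 409) (nat_lit 145337) = true := join rel89x0 rel89x1 rfl rfl
theorem rel89c2 : allFrom (chkRelF cfg relsL) (nat_lit 613) (nat_lit 145337) = true := join rel89c1 rel89x2 rfl rfl
theorem rel89c3 : allFrom (chkRelF cfg relsL) (nat_lit 817) (nat_lit 145337) = true := join rel89c2 rel89x3 rfl rfl
theorem rel89c4 : allFrom (chkRelF cfg relsL) (nat_lit 1021) (nat_lit 145337) = true := join rel89c3 rel89x4 rfl rfl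
theorem rel89c5 : allFrom (chkRelF cfg relsL) (nat_lit 1225) (nat_lit 145337) = true := join rel89c4 rel89x5 rfl rfl
theorem rel89c6 : allFrom (chkRelF cfg relsL) (nat_lit 1429) (nat_lit 145337) = true := join rel89c5 rel89x6 rfl rfl
theorem rel89 : allFrom (chkRelF cfg relsL) (nat_lit 1633) (nat_lit 145337) = true := join rel89c6 rel89x7 rfl rfl

end Cfsg.Agent.Lib.Compute.TC.Fi24a
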