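-- Certificate checks for Fi24a.
import Cfsg.Agent.Lib.Compute.TC.Fi24a.Data
import Cfsg.Agent.Lib.Compute.TCSplit
set_option autoImplicit false
set_option Elab.async false
set_option maxRecDepth 1000000

open Cfsg.Agent.Lib.Compute.ToddCoxeterCore Cfsg.Agent.Lib.Compute.ToddCoxeterPresented Cfsg.Agent.Lib.Compute.TCFast

open Cfsg.Agent.Lib.Compute.TCSplit

namespace Cfsg.Agent.Lib.Compute.TC.Fi24a

theorem rel9x0 : allFrom (chkRelF cfg relsL) (nat_lit 205) (nat_lit 14697) = true := by decide +kernel
theorem rel9x1 : allFrom (chkRelF cfg relsL) (nat_lit 204) (nat_lit 14902) = true := by decide +kernel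
theorem rel9x2 : allFrom (chkRelF cfg relsL) (nat_lit 204) (nat_lit 15106) = true := by decide +kernel
theorem rel9x3 : allFrom (chkRelF cfg relsL) (nat_lit 204) (nat_lit 15310) = true := by decide +kernel
theorem rel9x4 : allFrom (chkRelF cfg relsL) (nat_lit 204) (nat_lit 15514) = true := by decide +kernel
theorem rel9x5 : allFrom (chkRelF cfg relsL) (nat_lit 204) (nat_lit 15718) = true := by decide +kernel
theorem rel9x6 : allFrom (chkRelF cfg relsL) (nat_lit 204) (nat_lit 15922) = true := by decide +kernel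
theorem rel9x7 : allFrom (chkRelF cfg relsL) (nat_lit 204) (nat_lit 16126) = true := by decide +kernel
theorem rel9c1 : allFrom (chkRelF cfg relsL) (nat_lit 409) (nat_lit 14697) = true := join rel9x0 rel9x1 rfl rfl
theorem rel9c2 : allFrom (chkRelF cfg relsL) (nat_lit 613) (nat_lit 14697) = true := join rel9c1 rel9x2 rfl rfl
theorem rel9c3 : allFrom (chkRelF cfg relsL) (nat_lit 817) (nat_lit 14697) = true := join rel9c2 rel9x3 rfl rfl
theorem rel9c4 : allFrom (chkRelF cfg relsL) (nat_lit 1021) (nat_lit 14697) = true := join rel9c3 rel9x4 rfl rfl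
theorem rel9c5 : allFrom (chkRelF cfg relsL) (nat_lit 1225) (nat_lit 14697) = true := join rel9c4 rel9x5 rfl rfl
theorem rel9c6 : allFrom (chkRelF cfg relsL) (nat_lit 1429) (nat_lit 14697) = true := join rel9c5 rel9x6 rfl rfl
theorem rel9 : allFrom (chkRelF cfg relsL) (nat_lit 1633) (nat_lit 14697) = true := join rel9c6 rel9x7 rfl rfl

end Cfsg.Agent.Lib.Compute.TC.Fi24a
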