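-- Certificate checks for Fi24a.
import Cfsg.Agent.Lib.Compute.TC.Fi24a.Data
import Cfsg.Agent.Lib.Compute.TCSplit
set_option autoImplicit false
set_option Elab.async false
set_option maxRecDepth 1000000

open Cfsg.Agent.Lib.Compute.ToddCoxeterCore Cfsg.Agent.Lib.Compute.ToddCoxeterPresented Cfsg.Agent.Lib.Compute.TCFast

open Cfsg.Agent.Lib.Compute.TCSplit

namespace Cfsg.Agent.Lib.Compute.TC.Fi24a

theorem rel90x0 : allFrom (chkRelF cfg relsL) (nat_lit 205) (nat_lit 146970) = true := by decide +kernel
theorem rel90x1 : allFrom (chkRelF cfg relsL) (nat_lit 204) (nat_lit 147175) = true := by decide +kernel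
theorem rel90x2 : allFrom (chkRelF cfg relsL) (nat_lit 204) (nat_lit 147379) = true := by decide +kernel
theorem rel90x3 : allFrom (chkRelF cfg relsL) (nat_lit 204) (nat_lit 147583) = true := by decide +kernel
theorem rel90x4 : allFrom (chkRelF cfg relsL) (nat_lit 204) (nat_lit 147787) = true := by decide +kernel
theorem rel90x5 : allFrom (chkRelF cfg relsL) (nat_lit 204) (nat_lit 147991) = true := by decide +kernel
theorem rel90x6 : allFrom (chkRelF cfg relsL) (nat_lit 204) (nat_lit 148195) = true := by decide +kernel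
theorem rel90x7 : allFrom (chkRelF cfg relsL) (nat_lit 204) (nat_lit 148399) = true := by decide +kernel
theorem rel90c1 : allFrom (chkRelF cfg relsL) (nat_lit 409) (nat_lit 146970) = true := join rel90x0 rel90x1 rfl rfl
theorem rel90c2 : allFrom (chkRelF cfg relsL) (nat_lit 613) (nat_lit 146970) = true := join rel90c1 rel90x2 rfl rfl
theorem rel90c3 : allFrom (chkRelF cfg relsL) (nat_lit 817) (nat_lit 146970) = true := join rel90c2 rel90x3 rfl rfl
theorem rel90c4 : allFrom (chkRelF cfg relsL) (nat_lit 1021) (nat_lit 146970) = true := join rel90c3 rel90x4 rfl rfl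
theorem rel90c5 : allFrom (chkRelF cfg relsL) (nat_lit 1225) (nat_lit 146970) = true := join rel90c4 rel90x5 rfl rfl
theorem rel90c6 : allFrom (chkRelF cfg relsL) (nat_lit 1429) (nat_lit 146970) = true := join rel90c5 rel90x6 rfl rfl
theorem rel90 : allFrom (chkRelF cfg relsL) (nat_lit 1633) (nat_lit 146970) = true := join rel90c6 rel90x7 rfl rfl

end Cfsg.Agent.Lib.Compute.TC.Fi24a
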