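-- Certificate checks for Fi24a.
import Cfsg.Agent.Lib.Compute.TC.Fi24a.Data
import Cfsg.Agent.Lib.Compute.TCSplit
set_option autoImplicit false
set_option Elab.async false
set_option maxRecDepth 1000000

open Cfsg.Agent.Lib.Compute.ToddCoxeterCore Cfsg.Agent.Lib.Compute.ToddCoxeterPresented Cfsg.Agent.Lib.Compute.TCFast

open Cfsg.Agent.Lib.Compute.TCSplit

namespace Cfsg.Agent.Lib.Compute.TC.Fi24a

theorem rel91x0 : allFrom (chkRelF cfg relsL) (nat_lit 205) (nat_lit 148603) = true := by decide +kernel
theorem rel91x1 : allFrom (chkRelF cfg relsL) (nat_lit 204) (nat_lit 148808) = true := by decide +kernel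
theorem rel91x2 : allFrom (chkRelF cfg relsL) (nat_lit 204) (nat_lit 149012) = true := by decide +kernel
theorem rel91x3 : allFrom (chkRelF cfg relsL) (nat_lit 204) (nat_lit 149216) = true := by decide +kernel
theorem rel91x4 : allFrom (chkRelF cfg relsL) (nat_lit 204) (nat_lit 149420) = true := by decide +kernel
theorem rel91x5 : allFrom (chkRelF cfg relsL) (nat_lit 204) (nat_lit 149624) = true := by decide +kernel
theorem rel91x6 : allFrom (chkRelF cfg relsL) (nat_lit 204) (nat_lit 149828) = true := by decide +kernel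
theorem rel91x7 : allFrom (chkRelF cfg relsL) (nat_lit 204) (nat_lit 150032) = true := by decide +kernel
theorem rel91c1 : allFrom (chkRelF cfg relsL) (nat_lit 409) (nat_lit 148603) = true := join rel91x0 rel91x1 rfl rfl
theorem rel91c2 : allFrom (chkRelF cfg relsL) (nat_lit 613) (nat_lit 148603) = true := join rel91c1 rel91x2 rfl rfl
theorem rel91c3 : allFrom (chkRelF cfg relsL) (nat_lit 817) (nat_lit 148603) = true := join rel91c2 rel91x3 rfl rfl
theorem rel91c4 : allFrom (chkRelF cfg relsL) (nat_lit 1021) (nat_lit 148603) = true := join rel91c3 rel91x4 rfl rfl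
theorem rel91c5 : allFrom (chkRelF cfg relsL) (nat_lit 1225) (nat_lit 148603) = true := join rel91c4 rel91x5 rfl rfl
theorem rel91c6 : allFrom (chkRelF cfg relsL) (nat_lit 1429) (nat_lit 148603) = true := join rel91c5 rel91x6 rfl rfl
theorem rel91 : allFrom (chkRelF cfg relsL) (nat_lit 1633) (nat_lit 148603) = true := join rel91c6 rel91x7 rfl rfl

end Cfsg.Agent.Lib.Compute.TC.Fi24a
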