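-- Certificate checks for Fi24a.
import Cfsg.Agent.Lib.Compute.TC.Fi24a.Data
import Cfsg.Agent.Lib.Compute.TCSplit
set_option autoImplicit false
set_option Elab.async false
set_option maxRecDepth 1000000

open Cfsg.Agent.Lib.Compute.ToddCoxeterCore Cfsg.Agent.Lib.Compute.ToddCoxeterPresented Cfsg.Agent.Lib.Compute.TCFast

open Cfsg.Agent.Lib.Compute.TCSplit

namespace Cfsg.Agent.Lib.Compute.TC.Fi24a

theorem rel92x0 : allFrom (chkRelF cfg relsL) (nat_lit 205) (nat_lit 150236) = true := by decide +kernel
theorem rel92x1 : allFrom (chkRelF cfg relsL) (nat_lit 204) (nat_lit 150441) = true := by decide +kernel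
theorem rel92x2 : allFrom (chkRelF cfg relsL) (nat_lit 204) (nat_lit 150645) = true := by decide +kernel
theorem rel92x3 : allFrom (chkRelF cfg relsL) (nat_lit 204) (nat_lit 150849) = true := by decide +kernel
theorem rel92x4 : allFrom (chkRelF cfg relsL) (nat_lit 204) (nat_lit 151053) = true := by decide +kernel
theorem rel92x5 : allFrom (chkRelF cfg relsL) (nat_lit 204) (nat_lit 151257) = true := by decide +kernel
theorem rel92x6 : allFrom (chkRelF cfg relsL) (nat_lit 204) (nat_lit 151461) = true := by decide +kernel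
theorem rel92x7 : allFrom (chkRelF cfg relsL) (nat_lit 204) (nat_lit 151665) = true := by decide +kernel
theorem rel92c1 : allFrom (chkRelF cfg relsL) (nat_lit 409) (nat_lit 150236) = true := join rel92x0 rel92x1 rfl rfl
theorem rel92c2 : allFrom (chkRelF cfg relsL) (nat_lit 613) (nat_lit 150236) = true := join rel92c1 rel92x2 rfl rfl
theorem rel92c3 : allFrom (chkRelF cfg relsL) (nat_lit 817) (nat_lit 150236) = true := join rel92c2 rel92x3 rfl rfl
theorem rel92c4 : allFrom (chkRelF cfg relsL) (nat_lit 1021) (nat_lit 150236) = true := join rel92c3 rel92x4 rfl rfl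
theorem rel92c5 : allFrom (chkRelF cfg relsL) (nat_lit 1225) (nat_lit 150236) = true := join rel92c4 rel92x5 rfl rfl
theorem rel92c6 : allFrom (chkRelF cfg relsL) (nat_lit 1429) (nat_lit 150236) = true := join rel92c5 rel92x6 rfl rfl
theorem rel92 : allFrom (chkRelF cfg relsL) (nat_lit 1633) (nat_lit 150236) = true := join rel92c6 rel92x7 rfl rfl

end Cfsg.Agent.Lib.Compute.TC.Fi24a
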