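-- Certificate checks for Fi24a.
import Cfsg.Agent.Lib.Compute.TC.Fi24a.Data
import Cfsg.Agent.Lib.Compute.TCSplit
set_option autoImplicit false
set_option Elab.async false
set_option maxRecDepth 1000000

open Cfsg.Agent.Lib.Compute.ToddCoxeterCore Cfsg.Agent.Lib.Compute.ToddCoxeterPresented Cfsg.Agent.Lib.Compute.TCFast

open Cfsg.Agent.Lib.Compute.TCSplit

namespace Cfsg.Agent.Lib.Compute.TC.Fi24a

theorem rel93x0 : allFrom (chkRelF cfg relsL) (nat_lit 205) (nat_lit 151869) = true := by decide +kernel
theorem rel93x1 : allFrom (chkRelF cfg relsL) (nat_lit 204) (nat_lit 152074) = true := by decide +kernel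
theorem rel93x2 : allFrom (chkRelF cfg relsL) (nat_lit 204) (nat_lit 152278) = true := by decide +kernel
theorem rel93x3 : allFrom (chkRelF cfg relsL) (nat_lit 204) (nat_lit 152482) = true := by decide +kernel
theorem rel93x4 : allFrom (chkRelF cfg relsL) (nat_lit 204) (nat_lit 152686) = true := by decide +kernel
theorem rel93x5 : allFrom (chkRelF cfg relsL) (nat_lit 204) (nat_lit 152890) = true := by decide +kernel
theorem rel93x6 : allFrom (chkRelF cfg relsL) (nat_lit 204) (nat_lit 153094) = true := by decide +kernel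
theorem rel93x7 : allFrom (chkRelF cfg relsL) (nat_lit 204) (nat_lit 153298) = true := by decide +kernel
theorem rel93c1 : allFrom (chkRelF cfg relsL) (nat_lit 409) (nat_lit 151869) = true := join rel93x0 rel93x1 rfl rfl
theorem rel93c2 : allFrom (chkRelF cfg relsL) (nat_lit 613) (nat_lit 151869) = true := join rel93c1 rel93x2 rfl rfl
theorem rel93c3 : allFrom (chkRelF cfg relsL) (nat_lit 817) (nat_lit 151869) = true := join rel93c2 rel93x3 rfl rfl
theorem rel93c4 : allFrom (chkRelF cfg relsL) (nat_lit 1021) (nat_lit 151869) = true := join rel93c3 rel93x4 rfl rfl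
theorem rel93c5 : allFrom (chkRelF cfg relsL) (nat_lit 1225) (nat_lit 151869) = true := join rel93c4 rel93x5 rfl rfl
theorem rel93c6 : allFrom (chkRelF cfg relsL) (nat_lit 1429) (nat_lit 151869) = true := join rel93c5 rel93x6 rfl rfl
theorem rel93 : allFrom (chkRelF cfg relsL) (nat_lit 1633) (nat_lit 151869) = true := join rel93c6 rel93x7 rfl rfl

end Cfsg.Agent.Lib.Compute.TC.Fi24a
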