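-- Certificate checks for Fi24a.
import Cfsg.Agent.Lib.Compute.TC.Fi24a.Data
import Cfsg.Agent.Lib.Compute.TCSplit
set_option autoImplicit false
set_option Elab.async false
set_option maxRecDepth 1000000

open Cfsg.Agent.Lib.Compute.ToddCoxeterCore Cfsg.Agent.Lib.Compute.ToddCoxeterPresented Cfsg.Agent.Lib.Compute.TCFast

open Cfsg.Agent.Lib.Compute.TCSplit

namespace Cfsg.Agent.Lib.Compute.TC.Fi24a

theorem rel94x0 : allFrom (chkRelF cfg relsL) (nat_lit 205) (nat_lit 153502) = true := by decide +kernel
theorem rel94x1 : allFrom (chkRelF cfg relsL) (nat_lit 204) (nat_lit 153707) = true := by decide +kernel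
theorem rel94x2 : allFrom (chkRelF cfg relsL) (nat_lit 204) (nat_lit 153911) = true := by decide +kernel
theorem rel94x3 : allFrom (chkRelF cfg relsL) (nat_lit 204) (nat_lit 154115) = true := by decide +kernel
theorem rel94x4 : allFrom (chkRelF cfg relsL) (nat_lit 204) (nat_lit 154319) = true := by decide +kernel
theorem rel94x5 : allFrom (chkRelF cfg relsL) (nat_lit 204) (nat_lit 154523) = true := by decide +kernel
theorem rel94x6 : allFrom (chkRelF cfg relsL) (nat_lit 204) (nat_lit 154727) = true := by decide +kernel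
theorem rel94x7 : allFrom (chkRelF cfg relsL) (nat_lit 204) (nat_lit 154931) = true := by decide +kernel
theorem rel94c1 : allFrom (chkRelF cfg relsL) (nat_lit 409) (nat_lit 153502) = true := join rel94x0 rel94x1 rfl rfl
theorem rel94c2 : allFrom (chkRelF cfg relsL) (nat_lit 613) (nat_lit 153502) = true := join rel94c1 rel94x2 rfl rfl
theorem rel94c3 : allFrom (chkRelF cfg relsL) (nat_lit 817) (nat_lit 153502) = true := join rel94c2 rel94x3 rfl rfl
theorem rel94c4 : allFrom (chkRelF cfg relsL) (nat_lit 1021) (nat_lit 153502) = true := join rel94c3 rel94x4 rfl rfl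
theorem rel94c5 : allFrom (chkRelF cfg relsL) (nat_lit 1225) (nat_lit 153502) = true := join rel94c4 rel94x5 rfl rfl
theorem rel94c6 : allFrom (chkRelF cfg relsL) (nat_lit 1429) (nat_lit 153502) = true := join rel94c5 rel94x6 rfl rfl
theorem rel94 : allFrom (chkRelF cfg relsL) (nat_lit 1633) (nat_lit 153502) = true := join rel94c6 rel94x7 rfl rfl

end Cfsg.Agent.Lib.Compute.TC.Fi24a
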