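-- Certificate checks for Fi24a.
import Cfsg.Agent.Lib.Compute.TC.Fi24a.Data
import Cfsg.Agent.Lib.Compute.TCSplit
set_option autoImplicit false
set_option Elab.async false
set_option maxRecDepth 1000000

open Cfsg.Agent.Lib.Compute.ToddCoxeterCore Cfsg.Agent.Lib.Compute.ToddCoxeterPresented Cfsg.Agent.Lib.Compute.TCFast

open Cfsg.Agent.Lib.Compute.TCSplit

namespace Cfsg.Agent.Lib.Compute.TC.Fi24a

theorem rel95x0 : allFrom (chkRelF cfg relsL) (nat_lit 205) (nat_lit 155135) = true := by decide +kernel
theorem rel95x1 : allFrom (chkRelF cfg relsL) (nat_lit 204) (nat_lit 155340) = true := by decide +kernel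
theorem rel95x2 : allFrom (chkRelF cfg relsL) (nat_lit 204) (nat_lit 155544) = true := by decide +kernel
theorem rel95x3 : allFrom (chkRelF cfg relsL) (nat_lit 204) (nat_lit 155748) = true := by decide +kernel
theorem rel95x4 : allFrom (chkRelF cfg relsL) (nat_lit 204) (nat_lit 155952) = true := by decide +kernel
theorem rel95x5 : allFrom (chkRelF cfg relsL) (nat_lit 204) (nat_lit 156156) = true := by decide +kernel
theorem rel95x6 : allFrom (chkRelF cfg relsL) (nat_lit 204) (nat_lit 156360) = true := by decide +kernel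
theorem rel95x7 : allFrom (chkRelF cfg relsL) (nat_lit 204) (nat_lit 156564) = true := by decide +kernel
theorem rel95c1 : allFrom (chkRelF cfg relsL) (nat_lit 409) (nat_lit 155135) = true := join rel95x0 rel95x1 rfl rfl
theorem rel95c2 : allFrom (chkRelF cfg relsL) (nat_lit 613) (nat_lit 155135) = true := join rel95c1 rel95x2 rfl rfl
theorem rel95c3 : allFrom (chkRelF cfg relsL) (nat_lit 817) (nat_lit 155135) = true := join rel95c2 rel95x3 rfl rfl
theorem rel95c4 : allFrom (chkRelF cfg relsL) (nat_lit 1021) (nat_lit 155135) = true := join rel95c3 rel95x4 rfl rfl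
theorem rel95c5 : allFrom (chkRelF cfg relsL) (nat_lit 1225) (nat_lit 155135) = true := join rel95c4 rel95x5 rfl rfl
theorem rel95c6 : allFrom (chkRelF cfg relsL) (nat_lit 1429) (nat_lit 155135) = true := join rel95c5 rel95x6 rfl rfl
theorem rel95 : allFrom (chkRelF cfg relsL) (nat_lit 1633) (nat_lit 155135) = true := join rel95c6 rel95x7 rfl rfl

end Cfsg.Agent.Lib.Compute.TC.Fi24a
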