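-- Certificate checks for Fi24a.
import Cfsg.Agent.Lib.Compute.TC.Fi24a.Data
import Cfsg.Agent.Lib.Compute.TCSplit
set_option autoImplicit false
set_option Elab.async false
set_option maxRecDepth 1000000

open Cfsg.Agent.Lib.Compute.ToddCoxeterCore Cfsg.Agent.Lib.Compute.ToddCoxeterPresented Cfsg.Agent.Lib.Compute.TCFast

open Cfsg.Agent.Lib.Compute.TCSplit

namespace Cfsg.Agent.Lib.Compute.TC.Fi24a

theorem rel96x0 : allFrom (chkRelF cfg relsL) (nat_lit 205) (nat_lit 156768) = true := by decide +kernel
theorem rel96x1 : allFrom (chkRelF cfg relsL) (nat_lit 204) (nat_lit 156973) = true := by decide +kernel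
theorem rel96x2 : allFrom (chkRelF cfg relsL) (nat_lit 204) (nat_lit 157177) = true := by decide +kernel
theorem rel96x3 : allFrom (chkRelF cfg relsL) (nat_lit 204) (nat_lit 157381) = true := by decide +kernel
theorem rel96x4 : allFrom (chkRelF cfg relsL) (nat_lit 204) (nat_lit 157585) = true := by decide +kernel
theorem rel96x5 : allFrom (chkRelF cfg relsL) (nat_lit 204) (nat_lit 157789) = true := by decide +kernel
theorem rel96x6 : allFrom (chkRelF cfg relsL) (nat_lit 204) (nat_lit 157993) = true := by decide +kernel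
theorem rel96x7 : allFrom (chkRelF cfg relsL) (nat_lit 204) (nat_lit 158197) = true := by decide +kernel
theorem rel96c1 : allFrom (chkRelF cfg relsL) (nat_lit 409) (nat_lit 156768) = true := join rel96x0 rel96x1 rfl rfl
theorem rel96c2 : allFrom (chkRelF cfg relsL) (nat_lit 613) (nat_lit 156768) = true := join rel96c1 rel96x2 rfl rfl
theorem rel96c3 : allFrom (chkRelF cfg relsL) (nat_lit 817) (nat_lit 156768) = true := join rel96c2 rel96x3 rfl rfl
theorem rel96c4 : allFrom (chkRelF cfg relsL) (nat_lit 1021) (nat_lit 156768) = true := join rel96c3 rel96x4 rfl rfl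
theorem rel96c5 : allFrom (chkRelF cfg relsL) (nat_lit 1225) (nat_lit 156768) = true := join rel96c4 rel96x5 rfl rfl
theorem rel96c6 : allFrom (chkRelF cfg relsL) (nat_lit 1429) (nat_lit 156768) = true := join rel96c5 rel96x6 rfl rfl
theorem rel96 : allFrom (chkRelF cfg relsL) (nat_lit 1633) (nat_lit 156768) = true := join rel96c6 rel96x7 rfl rfl

end Cfsg.Agent.Lib.Compute.TC.Fi24a
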