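-- Certificate checks for Fi24a.
import Cfsg.Agent.Lib.Compute.TC.Fi24a.Data
import Cfsg.Agent.Lib.Compute.TCSplit
set_option autoImplicit false
set_option Elab.async false
set_option maxRecDepth 1000000

open Cfsg.Agent.Lib.Compute.ToddCoxeterCore Cfsg.Agent.Lib.Compute.ToddCoxeterPresented Cfsg.Agent.Lib.Compute.TCFast

open Cfsg.Agent.Lib.Compute.TCSplit

namespace Cfsg.Agent.Lib.Compute.TC.Fi24a

theorem rel97x0 : allFrom (chkRelF cfg relsL) (nat_lit 205) (nat_lit 158401) = true := by decide +kernel
theorem rel97x1 : allFrom (chkRelF cfg relsL) (nat_lit 204) (nat_lit 158606) = true := by decide +kernel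
theorem rel97x2 : allFrom (chkRelF cfg relsL) (nat_lit 204) (nat_lit 158810) = true := by decide +kernel
theorem rel97x3 : allFrom (chkRelF cfg relsL) (nat_lit 204) (nat_lit 159014) = true := by decide +kernel
theorem rel97x4 : allFrom (chkRelF cfg relsL) (nat_lit 204) (nat_lit 159218) = true := by decide +kernel
theorem rel97x5 : allFrom (chkRelF cfg relsL) (nat_lit 204) (nat_lit 159422) = true := by decide +kernel
theorem rel97x6 : allFrom (chkRelF cfg relsL) (nat_lit 204) (nat_lit 159626) = true := by decide +kernel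
theorem rel97x7 : allFrom (chkRelF cfg relsL) (nat_lit 204) (nat_lit 159830) = true := by decide +kernel
theorem rel97c1 : allFrom (chkRelF cfg relsL) (nat_lit 409) (nat_lit 158401) = true := join rel97x0 rel97x1 rfl rfl
theorem rel97c2 : allFrom (chkRelF cfg relsL) (nat_lit 613) (nat_lit 158401) = true := join rel97c1 rel97x2 rfl rfl
theorem rel97c3 : allFrom (chkRelF cfg relsL) (nat_lit 817) (nat_lit 158401) = true := join rel97c2 rel97x3 rfl rfl
theorem rel97c4 : allFrom (chkRelF cfg relsL) (nat_lit 1021) (nat_lit 158401) = true := join rel97c3 rel97x4 rfl rfl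
theorem rel97c5 : allFrom (chkRelF cfg relsL) (nat_lit 1225) (nat_lit 158401) = true := join rel97c4 rel97x5 rfl rfl
theorem rel97c6 : allFrom (chkRelF cfg relsL) (nat_lit 1429) (nat_lit 158401) = true := join rel97c5 rel97x6 rfl rfl
theorem rel97 : allFrom (chkRelF cfg relsL) (nat_lit 1633) (nat_lit 158401) = true := join rel97c6 rel97x7 rfl rfl

end Cfsg.Agent.Lib.Compute.TC.Fi24a
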