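-- Certificate checks for Fi24a.
import Cfsg.Agent.Lib.Compute.TC.Fi24a.Data
import Cfsg.Agent.Lib.Compute.TCSplit
set_option autoImplicit false
set_option Elab.async false
set_option maxRecDepth 1000000

open Cfsg.Agent.Lib.Compute.ToddCoxeterCore Cfsg.Agent.Lib.Compute.ToddCoxeterPresented Cfsg.Agent.Lib.Compute.TCFast

open Cfsg.Agent.Lib.Compute.TCSplit

namespace Cfsg.Agent.Lib.Compute.TC.Fi24a

theorem rel99x0 : allFrom (chkRelF cfg relsL) (nat_lit 205) (nat_lit 161667) = true := by decide +kernel
theorem rel99x1 : allFrom (chkRelF cfg relsL) (nat_lit 204) (nat_lit 161872) = true := by decide +kernel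
theorem rel99x2 : allFrom (chkRelF cfg relsL) (nat_lit 204) (nat_lit 162076) = true := by decide +kernel
theorem rel99x3 : allFrom (chkRelF cfg relsL) (nat_lit 204) (nat_lit 162280) = true := by decide +kernel
theorem rel99x4 : allFrom (chkRelF cfg relsL) (nat_lit 204) (nat_lit 162484) = true := by decide +kernel
theorem rel99x5 : allFrom (chkRelF cfg relsL) (nat_lit 204) (nat_lit 162688) = true := by decide +kernel
theorem rel99x6 : allFrom (chkRelF cfg relsL) (nat_lit 204) (nat_lit 162892) = true := by decide +kernel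
theorem rel99x7 : allFrom (chkRelF cfg relsL) (nat_lit 204) (nat_lit 163096) = true := by decide +kernel
theorem rel99c1 : allFrom (chkRelF cfg relsL) (nat_lit 409) (nat_lit 161667) = true := join rel99x0 rel99x1 rfl rfl
theorem rel99c2 : allFrom (chkRelF cfg relsL) (nat_lit 613) (nat_lit 161667) = true := join rel99c1 rel99x2 rfl rfl
theorem rel99c3 : allFrom (chkRelF cfg relsL) (nat_lit 817) (nat_lit 161667) = true := join rel99c2 rel99x3 rfl rfl
theorem rel99c4 : allFrom (chkRelF cfg relsL) (nat_lit 1021) (nat_lit 161667) = true := join rel99c3 rel99x4 rfl rfl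
theorem rel99c5 : allFrom (chkRelF cfg relsL) (nat_lit 1225) (nat_lit 161667) = true := join rel99c4 rel99x5 rfl rfl
theorem rel99c6 : allFrom (chkRelF cfg relsL) (nat_lit 1429) (nat_lit 161667) = true := join rel99c5 rel99x6 rfl rfl
theorem rel99 : allFrom (chkRelF cfg relsL) (nat_lit 1633) (nat_lit 161667) = true := join rel99c6 rel99x7 rfl rfl

end Cfsg.Agent.Lib.Compute.TC.Fi24a
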