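-- Final assembly of the certificate Fi24a.
import Cfsg.Agent.Lib.Compute.TC.Fi24a.Keys0
import Cfsg.Agent.Lib.Compute.TC.Fi24a.Keys1
import Cfsg.Agent.Lib.Compute.TC.Fi24a.Keys2
import Cfsg.Agent.Lib.Compute.TC.Fi24a.Keys3
import Cfsg.Agent.Lib.Compute.TC.Fi24a.Keys4
import Cfsg.Agent.Lib.Compute.TC.Fi24a.Keys5
import Cfsg.Agent.Lib.Compute.TC.Fi24a.Keys6
import Cfsg.Agent.Lib.Compute.TC.Fi24a.Keys7
import Cfsg.Agent.Lib.Compute.TC.Fi24a.Keys8
import Cfsg.Agent.Lib.Compute.TC.Fi24a.Keys9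
import Cfsg.Agent.Lib.Compute.TC.Fi24a.Keys10
import Cfsg.Agent.Lib.Compute.TC.Fi24a.Keys11
import Cfsg.Agent.Lib.Compute.TC.Fi24a.Keys12
import Cfsg.Agent.Lib.Compute.TC.Fi24a.Keys13
import Cfsg.Agent.Lib.Compute.TC.Fi24a.Keys14
import Cfsg.Agent.Lib.Compute.TC.Fi24a.Keys15
import Cfsg.Agent.Lib.Compute.TC.Fi24a.Keys16
import Cfsg.Agent.Lib.Compute.TC.Fi24a.Keys17
import Cfsg.Agent.Lib.Compute.TC.Fi24a.Keys18
import Cfsg.Agent.Lib.Compute.TC.Fi24a.Keys19
import Cfsg.Agent.Lib.Compute.TC.Fi24a.Keys20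
import Cfsg.Agent.Lib.Compute.TC.Fi24a.Keys21
import Cfsg.Agent.Lib.Compute.TC.Fi24a.Keys22
import Cfsg.Agent.Lib.Compute.TC.Fi24a.Keys23
import Cfsg.Agent.Lib.Compute.TC.Fi24a.Keys24
import Cfsg.Agent.Lib.Compute.TC.Fi24a.Keys25
import Cfsg.Agent.Lib.Compute.TC.Fi24a.Keys26
import Cfsg.Agent.Lib.Compute.TC.Fi24a.Keys27
import Cfsg.Agent.Lib.Compute.TC.Fi24a.Keys28
import Cfsg.Agent.Lib.Compute.TC.Fi24a.Keys29
import Cfsg.Agent.Lib.Compute.TC.Fi24a.Keys30
import Cfsg.Agent.Lib.Compute.TC.Fi24a.Keys31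
import Cfsg.Agent.Lib.Compute.TC.Fi24a.Keys32
import Cfsg.Agent.Lib.Compute.TC.Fi24a.Keys33
import Cfsg.Agent.Lib.Compute.TC.Fi24a.Keys34
import Cfsg.Agent.Lib.Compute.TC.Fi24a.Keys35
import Cfsg.Agent.Lib.Compute.TC.Fi24a.Keys36
import Cfsg.Agent.Lib.Compute.TC.Fi24a.Keys37
import Cfsg.Agent.Lib.Compute.TC.Fi24a.Keys38
import Cfsg.Agent.Lib.Compute.TC.Fi24a.Keys39
import Cfsg.Agent.Lib.Compute.TC.Fi24a.Keys40
import Cfsg.Agent.Lib.Compute.TC.Fi24a.Keys41
import Cfsg.Agent.Lib.Compute.TC.Fi24a.Keys42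
import Cfsg.Agent.Lib.Compute.TC.Fi24a.Keys43
import Cfsg.Agent.Lib.Compute.TC.Fi24a.Keys44
import Cfsg.Agent.Lib.Compute.TC.Fi24a.Keys45
import Cfsg.Agent.Lib.Compute.TC.Fi24a.Keys46
import Cfsg.Agent.Lib.Compute.TC.Fi24a.Keys47
import Cfsg.Agent.Lib.Compute.TC.Fi24a.Keys48
import Cfsg.Agent.Lib.Compute.TC.Fi24a.Keys49
import Cfsg.Agent.Lib.Compute.TC.Fi24a.Keys50
import Cfsg.Agent.Lib.Compute.TC.Fi24a.Keys51
import Cfsg.Agent.Lib.Compute.TC.Fi24a.Keys52
import Cfsg.Agent.Lib.Compute.TC.Fi24a.Keys53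
import Cfsg.Agent.Lib.Compute.TC.Fi24a.Keys54
import Cfsg.Agent.Lib.Compute.TC.Fi24a.Keys55
import Cfsg.Agent.Lib.Compute.TC.Fi24a.Keys56
import Cfsg.Agent.Lib.Compute.TC.Fi24a.Keys57
import Cfsg.Agent.Lib.Compute.TC.Fi24a.Keys58
import Cfsg.Agent.Lib.Compute.TC.Fi24a.Keys59
import Cfsg.Agent.Lib.Compute.TC.Fi24a.Keys60
import Cfsg.Agent.Lib.Compute.TC.Fi24a.Keys61
import Cfsg.Agent.Lib.Compute.TC.Fi24a.Keys62
import Cfsg.Agent.Lib.Compute.TC.Fi24a.Keys63
import Cfsg.Agent.Lib.Compute.TC.Fi24a.Keys64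
import Cfsg.Agent.Lib.Compute.TC.Fi24a.Rel0
import Cfsg.Agent.Lib.Compute.TC.Fi24a.Rel1
import Cfsg.Agent.Lib.Compute.TC.Fi24a.Rel2
import Cfsg.Agent.Lib.Compute.TC.Fi24a.Rel3
import Cfsg.Agent.Lib.Compute.TC.Fi24a.Rel4
import Cfsg.Agent.Lib.Compute.TC.Fi24a.Rel5
import Cfsg.Agent.Lib.Compute.TC.Fi24a.Rel6
import Cfsg.Agent.Lib.Compute.TC.Fi24a.Rel7
import Cfsg.Agent.Lib.Compute.TC.Fi24a.Rel8
import Cfsg.Agent.Lib.Compute.TC.Fi24a.Rel9
import Cfsg.Agent.Lib.Compute.TC.Fi24a.Rel10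
import Cfsg.Agent.Lib.Compute.TC.Fi24a.Rel11
import Cfsg.Agent.Lib.Compute.TC.Fi24a.Rel12
import Cfsg.Agent.Lib.Compute.TC.Fi24a.Rel13
import Cfsg.Agent.Lib.Compute.TC.Fi24a.Rel14
import Cfsg.Agent.Lib.Compute.TC.Fi24a.Rel15
import Cfsg.Agent.Lib.Compute.TC.Fi24a.Rel16
import Cfsg.Agent.Lib.Compute.TC.Fi24a.Rel17
import Cfsg.Agent.Lib.Compute.TC.Fi24a.Rel18
import Cfsg.Agent.Lib.Compute.TC.Fi24a.Rel19
import Cfsg.Agent.Lib.Compute.TC.Fi24a.Rel20
import Cfsg.Agent.Lib.Compute.TC.Fi24a.Rel21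
import Cfsg.Agent.Lib.Compute.TC.Fi24a.Rel22
import Cfsg.Agent.Lib.Compute.TC.Fi24a.Rel23
import Cfsg.Agent.Lib.Compute.TC.Fi24a.Rel24
import Cfsg.Agent.Lib.Compute.TC.Fi24a.Rel25
import Cfsg.Agent.Lib.Compute.TC.Fi24a.Rel26
import Cfsg.Agent.Lib.Compute.TC.Fi24a.Rel27
import Cfsg.Agent.Lib.Compute.TC.Fi24a.Rel28
import Cfsg.Agent.Lib.Compute.TC.Fi24a.Rel29
import Cfsg.Agent.Lib.Compute.TC.Fi24a.Rel30
import Cfsg.Agent.Lib.Compute.TC.Fi24a.Rel31
import Cfsg.Agent.Lib.Compute.TC.Fi24a.Rel32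
import Cfsg.Agent.Lib.Compute.TC.Fi24a.Rel33
import Cfsg.Agent.Lib.Compute.TC.Fi24a.Rel34
import Cfsg.Agent.Lib.Compute.TC.Fi24a.Rel35
import Cfsg.Agent.Lib.Compute.TC.Fi24a.Rel36
import Cfsg.Agent.Lib.Compute.TC.Fi24a.Rel37
import Cfsg.Agent.Lib.Compute.TC.Fi24a.Rel38
import Cfsg.Agent.Lib.Compute.TC.Fi24a.Rel39
import Cfsg.Agent.Lib.Compute.TC.Fi24a.Rel40
import Cfsg.Agent.Lib.Compute.TC.Fi24a.Rel41
import Cfsg.Agent.Lib.Compute.TC.Fi24a.Rel42
import Cfsg.Agent.Lib.Compute.TC.Fi24a.Rel43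
import Cfsg.Agent.Lib.Compute.TC.Fi24a.Rel44
import Cfsg.Agent.Lib.Compute.TC.Fi24a.Rel45
import Cfsg.Agent.Lib.Compute.TC.Fi24a.Rel46
import Cfsg.Agent.Lib.Compute.TC.Fi24a.Rel47
import Cfsg.Agent.Lib.Compute.TC.Fi24a.Rel48
import Cfsg.Agent.Lib.Compute.TC.Fi24a.Rel49
import Cfsg.Agent.Lib.Compute.TC.Fi24a.Rel50
import Cfsg.Agent.Lib.Compute.TC.Fi24a.Rel51
import Cfsg.Agent.Lib.Compute.TC.Fi24a.Rel52
import Cfsg.Agent.Lib.Compute.TC.Fi24a.Rel53
import Cfsg.Agent.Lib.Compute.TC.Fi24a.Rel54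
import Cfsg.Agent.Lib.Compute.TC.Fi24a.Rel55
import Cfsg.Agent.Lib.Compute.TC.Fi24a.Rel56
import Cfsg.Agent.Lib.Compute.TC.Fi24a.Rel57
import Cfsg.Agent.Lib.Compute.TC.Fi24a.Rel58
import Cfsg.Agent.Lib.Compute.TC.Fi24a.Rel59
import Cfsg.Agent.Lib.Compute.TC.Fi24a.Rel60
import Cfsg.Agent.Lib.Compute.TC.Fi24a.Rel61
import Cfsg.Agent.Lib.Compute.TC.Fi24a.Rel62
import Cfsg.Agent.Lib.Compute.TC.Fi24a.Rel63
import Cfsg.Agent.Lib.Compute.TC.Fi24a.Rel64
import Cfsg.Agent.Lib.Compute.TC.Fi24a.Rel65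
import Cfsg.Agent.Lib.Compute.TC.Fi24a.Rel66
import Cfsg.Agent.Lib.Compute.TC.Fi24a.Rel67
import Cfsg.Agent.Lib.Compute.TC.Fi24a.Rel68
import Cfsg.Agent.Lib.Compute.TC.Fi24a.Rel69
import Cfsg.Agent.Lib.Compute.TC.Fi24a.Rel70
import Cfsg.Agent.Lib.Compute.TC.Fi24a.Rel71
import Cfsg.Agent.Lib.Compute.TC.Fi24a.Rel72
import Cfsg.Agent.Lib.Compute.TC.Fi24a.Rel73
import Cfsg.Agent.Lib.Compute.TC.Fi24a.Rel74
import Cfsg.Agent.Lib.Compute.TC.Fi24a.Rel75
import Cfsg.Agent.Lib.Compute.TC.Fi24a.Rel76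
import Cfsg.Agent.Lib.Compute.TC.Fi24a.Rel77
import Cfsg.Agent.Lib.Compute.TC.Fi24a.Rel78
import Cfsg.Agent.Lib.Compute.TC.Fi24a.Rel79
import Cfsg.Agent.Lib.Compute.TC.Fi24a.Rel80
import Cfsg.Agent.Lib.Compute.TC.Fi24a.Rel81
import Cfsg.Agent.Lib.Compute.TC.Fi24a.Rel82
import Cfsg.Agent.Lib.Compute.TC.Fi24a.Rel83
import Cfsg.Agent.Lib.Compute.TC.Fi24a.Rel84
import Cfsg.Agent.Lib.Compute.TC.Fi24a.Rel85
import Cfsg.Agent.Lib.Compute.TC.Fi24a.Rel86
import Cfsg.Agent.Lib.Compute.TC.Fi24a.Rel87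
import Cfsg.Agent.Lib.Compute.TC.Fi24a.Rel88
import Cfsg.Agent.Lib.Compute.TC.Fi24a.Rel89
import Cfsg.Agent.Lib.Compute.TC.Fi24a.Rel90
import Cfsg.Agent.Lib.Compute.TC.Fi24a.Rel91
import Cfsg.Agent.Lib.Compute.TC.Fi24a.Rel92
import Cfsg.Agent.Lib.Compute.TC.Fi24a.Rel93
import Cfsg.Agent.Lib.Compute.TC.Fi24a.Rel94
import Cfsg.Agent.Lib.Compute.TC.Fi24a.Rel95
import Cfsg.Agent.Lib.Compute.TC.Fi24a.Rel96
import Cfsg.Agent.Lib.Compute.TC.Fi24a.Rel97
import Cfsg.Agent.Lib.Compute.TC.Fi24a.Rel98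
import Cfsg.Agent.Lib.Compute.TC.Fi24a.Rel99
import Cfsg.Agent.Lib.Compute.TC.Fi24a.Rel100
import Cfsg.Agent.Lib.Compute.TC.Fi24a.Rel101
import Cfsg.Agent.Lib.Compute.TC.Fi24a.Rel102
import Cfsg.Agent.Lib.Compute.TC.Fi24a.Rel103
import Cfsg.Agent.Lib.Compute.TC.Fi24a.Rel104
import Cfsg.Agent.Lib.Compute.TC.Fi24a.Rel105
import Cfsg.Agent.Lib.Compute.TC.Fi24a.Rel106
import Cfsg.Agent.Lib.Compute.TC.Fi24a.Rel107
import Cfsg.Agent.Lib.Compute.TC.Fi24a.Rel108
import Cfsg.Agent.Lib.Compute.TC.Fi24a.Rel109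
import Cfsg.Agent.Lib.Compute.TC.Fi24a.Rel110
import Cfsg.Agent.Lib.Compute.TC.Fi24a.Rel111
import Cfsg.Agent.Lib.Compute.TC.Fi24a.Rel112
import Cfsg.Agent.Lib.Compute.TC.Fi24a.Rel113
import Cfsg.Agent.Lib.Compute.TC.Fi24a.Rel114
import Cfsg.Agent.Lib.Compute.TC.Fi24a.Rel115
import Cfsg.Agent.Lib.Compute.TC.Fi24a.Rel116
import Cfsg.Agent.Lib.Compute.TC.Fi24a.Rel117
import Cfsg.Agent.Lib.Compute.TC.Fi24a.Rel118
import Cfsg.Agent.Lib.Compute.TC.Fi24a.Rel119
import Cfsg.Agent.Lib.Compute.TC.Fi24a.Rel120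
import Cfsg.Agent.Lib.Compute.TC.Fi24a.Rel121
import Cfsg.Agent.Lib.Compute.TC.Fi24a.Rel122
import Cfsg.Agent.Lib.Compute.TC.Fi24a.Rel123
import Cfsg.Agent.Lib.Compute.TC.Fi24a.Rel124
import Cfsg.Agent.Lib.Compute.TC.Fi24a.Rel125
import Cfsg.Agent.Lib.Compute.TC.Fi24a.Rel126
import Cfsg.Agent.Lib.Compute.TC.Fi24a.Rel127
import Cfsg.Agent.Lib.Compute.TC.Fi24a.Rel128
import Cfsg.Agent.Lib.Compute.TC.Fi24a.Rel129
import Cfsg.Agent.Lib.Compute.TC.Fi24a.Rel130
import Cfsg.Agent.Lib.Compute.TC.Fi24a.Rel131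
import Cfsg.Agent.Lib.Compute.TC.Fi24a.Rel132
import Cfsg.Agent.Lib.Compute.TC.Fi24a.Rel133
import Cfsg.Agent.Lib.Compute.TC.Fi24a.Rel134
import Cfsg.Agent.Lib.Compute.TC.Fi24a.Rel135
import Cfsg.Agent.Lib.Compute.TC.Fi24a.Rel136
import Cfsg.Agent.Lib.Compute.TC.Fi24a.Rel137
import Cfsg.Agent.Lib.Compute.TC.Fi24a.Rel138
import Cfsg.Agent.Lib.Compute.TC.Fi24a.Rel139
import Cfsg.Agent.Lib.Compute.TC.Fi24a.Rel140
import Cfsg.Agent.Lib.Compute.TC.Fi24a.Rel141
import Cfsg.Agent.Lib.Compute.TC.Fi24a.Rel142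
import Cfsg.Agent.Lib.Compute.TC.Fi24a.Rel143
import Cfsg.Agent.Lib.Compute.TC.Fi24a.Rel144
import Cfsg.Agent.Lib.Compute.TC.Fi24a.Rel145
import Cfsg.Agent.Lib.Compute.TC.Fi24a.Rel146
import Cfsg.Agent.Lib.Compute.TC.Fi24a.Rel147
import Cfsg.Agent.Lib.Compute.TC.Fi24a.Rel148
import Cfsg.Agent.Lib.Compute.TC.Fi24a.Rel149
import Cfsg.Agent.Lib.Compute.TC.Fi24a.Rel150
import Cfsg.Agent.Lib.Compute.TC.Fi24a.Rel151
import Cfsg.Agent.Lib.Compute.TC.Fi24a.Rel152
import Cfsg.Agent.Lib.Compute.TC.Fi24a.Rel153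
import Cfsg.Agent.Lib.Compute.TC.Fi24a.Rel154
import Cfsg.Agent.Lib.Compute.TC.Fi24a.Rel155
import Cfsg.Agent.Lib.Compute.TC.Fi24a.Rel156
import Cfsg.Agent.Lib.Compute.TC.Fi24a.Rel157
import Cfsg.Agent.Lib.Compute.TC.Fi24a.Rel158
import Cfsg.Agent.Lib.Compute.TC.Fi24a.Rel159
import Cfsg.Agent.Lib.Compute.TC.Fi24a.Rel160
import Cfsg.Agent.Lib.Compute.TC.Fi24a.Rel161
import Cfsg.Agent.Lib.Compute.TC.Fi24a.Rel162
import Cfsg.Agent.Lib.Compute.TC.Fi24a.Rel163
import Cfsg.Agent.Lib.Compute.TC.Fi24a.Rel164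
import Cfsg.Agent.Lib.Compute.TC.Fi24a.Rel165
import Cfsg.Agent.Lib.Compute.TC.Fi24a.Rel166
import Cfsg.Agent.Lib.Compute.TC.Fi24a.Rel167
import Cfsg.Agent.Lib.Compute.TC.Fi24a.Rel168
import Cfsg.Agent.Lib.Compute.TC.Fi24a.Rel169
import Cfsg.Agent.Lib.Compute.TC.Fi24a.Rel170
import Cfsg.Agent.Lib.Compute.TC.Fi24a.Rel171
import Cfsg.Agent.Lib.Compute.TC.Fi24a.Rel172
import Cfsg.Agent.Lib.Compute.TC.Fi24a.Rel173
import Cfsg.Agent.Lib.Compute.TC.Fi24a.Rel174
import Cfsg.Agent.Lib.Compute.TC.Fi24a.Rel175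
import Cfsg.Agent.Lib.Compute.TC.Fi24a.Rel176
import Cfsg.Agent.Lib.Compute.TC.Fi24a.Rel177
import Cfsg.Agent.Lib.Compute.TC.Fi24a.Rel178
import Cfsg.Agent.Lib.Compute.TC.Fi24a.Rel179
import Cfsg.Agent.Lib.Compute.TC.Fi24a.Rel180
import Cfsg.Agent.Lib.Compute.TC.Fi24a.Rel181
import Cfsg.Agent.Lib.Compute.TC.Fi24a.Rel182
import Cfsg.Agent.Lib.Compute.TC.Fi24a.Rel183
import Cfsg.Agent.Lib.Compute.TC.Fi24a.Rel184
import Cfsg.Agent.Lib.Compute.TC.Fi24a.Rel185
import Cfsg.Agent.Lib.Compute.TC.Fi24a.Rel186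
import Cfsg.Agent.Lib.Compute.TC.Fi24a.Rel187
import Cfsg.Agent.Lib.Compute.TC.Fi24a.Fin
import Cfsg.Agent.Lib.Compute.TC.Fi24a.Orb
set_option autoImplicit false
set_option maxRecDepth 1000000

open Cfsg.Agent.Lib.Compute.ToddCoxeterCore Cfsg.Agent.Lib.Compute.ToddCoxeterPresented Cfsg.Agent.Lib.Compute.TCFast

namespace Cfsg.Agent.Lib.Compute.TC.Fi24a

theorem rulesChk : rulesOK cfg.L cfg.inv relsL rT = true := by decide +kernel

theorem small : Small D cfg where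
  hL := by decide +kernel
  hLp := by decide +kernel
  hnd := by decide +kernel
  hinvL := by decide +kernel
  hinvP := by decide +kernel
  hinv2 := by decide +kernel
  hinvol := by decide +kernel
  hrels1 := by decide +kernel
  hrels2 := by decide +kernel
  hhw := by decide +kernel
  hN := by decide +kernel

theorem w0Chk : ∀ w ∈ D.hw, cfg.walk maxS w 0 (Nat.beq 0) = true := by decide +kernel

theorem keysFull : ∀ k, k < cfg.M → cfg.chkKey k = true := fun k hk =>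
  (allFrom_chain (allFrom_chain (allFrom_chain (allFrom_chain (allFrom_chain (allFrom_chain (allFrom_chain (allFrom_chain (allFrom_chain (allFrom_chain (allFrom_chain (allFrom_chain (allFrom_chain (allFrom_chain (allFrom_chain (allFrom_chain (allFrom_chain (allFrom_chain (allFrom_chain (allFrom_chain (allFrom_chain (allFrom_chain (allFrom_chain (allFrom_chain (allFrom_chain (allFrom_chain (allFrom_chain (allFrom_chain (allFrom_chain (allFrom_chain (allFrom_chain (allFrom_chain (allFrom_chain (allFrom_chain (allFrom_chain (allFrom_chain (allFrom_chain (allFrom_chain (allFrom_chain (allFrom_chain (allFrom_chain (allFrom_chain (allFrom_chain (allFrom_chain (allFrom_chain (allFrom_chain (allFrom_chain (allFrom_chain (allFrom_chain (allFrom_chain (allFrom_chain (allFrom_chain (allFrom_chain (allFrom_chain (allFrom_chain (allFrom_chain (allFrom_chain (allFrom_chain (allFrom_chain (allFrom_chain (allFrom_chain (allFrom_chain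 (allFrom_chain (allFrom_chain (allFrom_chain (allFrom_nil cfg.chkKey (nat_lit 0)) keys0 (c := 64999) rfl) keys1 (c := 129999) rfl) keys2 (c := 194999) rfl) keys3 (c := 259999) rfl) keys4 (c := 324999) rfl) keys5 (c := 389999) rfl) keys6 (c := 454999) rfl) keys7 (c := 519999) rfl) keys8 (c := 584999) rfl) keys9 (c := 649999) rfl) keys10 (c := 714999) rfl) keys11 (c := 779999) rfl) keys12 (c := 844999) rfl) keys13 (c := 909999) rfl) keys14 (c := 974999) rfl) keys15 (c := 1039999) rfl) keys16 (c := 1104999) rfl) keys17 (c := 1169999) rfl) keys18 (c := 1234999) rfl) keys19 (c := 1299999) rfl) keys20 (c := 1364999) rfl) keys21 (c := 1429999) rfl) keys22 (c := 1494999) rfl) keys23 (c := 1559999) rfl) keys24 (c := 1624999) rfl) keys25 (c := 1689999) rfl) keys26 (c := 1754999) rfl) keys27 (c := 1819999) rfl) keys28 (c := 1884999) rfl) keys29 (c := 1949999) rfl) keys30 (c := 2014999) rfl) keys31 (c := 2079999) rfl) keys32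 (c := 2144999) rfl) keys33 (c := 2209999) rfl) keys34 (c := 2274999) rfl) keys35 (c := 2339999) rfl) keys36 (c := 2404999) rfl) keys37 (c := 2469999) rfl) keys38 (c := 2534999) rfl) keys39 (c := 2599999) rfl) keys40 (c := 2664999) rfl) keys41 (c := 2729999) rfl) keys42 (c := 2794999) rfl) keys43 (c := 2859999) rfl) keys44 (c := 2924999) rfl) keys45 (c := 2989999) rfl) keys46 (c := 3054999) rfl) keys47 (c := 3119999) rfl) keys48 (c := 3184999) rfl) keys49 (c := 3249999) rfl) keys50 (c := 3314999) rfl) keys51 (c := 3379999) rfl) keys52 (c := 3444999) rfl) keys53 (c := 3509999) rfl) keys54 (c := 3574999) rfl) keys55 (c := 3639999) rfl) keys56 (c := 3704999) rfl) keys57 (c := 3769999) rfl) keys58 (c := 3834999) rfl) keys59 (c := 3899999) rfl) keys60 (c := 3964999) rfl) keys61 (c := 4082778) rfl) keys62 (c := 4226409) rfl) keys63 (c := 4374523) rfl) keys64 (c := 4551092) rfl) k (Nat.zero_le k) hk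

theorem relLt : ∀ a ∈ relsL, ∀ x ∈ a, x < cfg.L := by decide +kernel

theorem relFast : ∀ k, k < cfg.N → chkRelF cfg relsL k = true := fun k hk =>
  (allFrom_chain (allFrom_chain (allFrom_chain (allFrom_chain (allFrom_chain (allFrom_chain (allFrom_chain (allFrom_chain (allFrom_chain (allFrom_chain (allFrom_chain (allFrom_chain (allFrom_chain (allFrom_chain (allFrom_chain (allFrom_chain (allFrom_chain (allFrom_chain (allFrom_chain (allFrom_chain (allFrom_chain (allFrom_chain (allFrom_chain (allFrom_chain (allFrom_chain (allFrom_chain (allFrom_chain (allFrom_chain (allFrom_chain (allFrom_chain (allFrom_chain (allFrom_chain (allFrom_chain (allFrom_chain (allFrom_chain (allFrom_chain (allFrom_chain (allFrom_chain (allFrom_chain (allFrom_chain (allFrom_chain (allFrom_chain (allFrom_chain (allFrom_chain (allFrom_chain (allFrom_chain (allFrom_chain (allFrom_chain (allFrom_chain (allFrom_chain (allFrom_chain (allFrom_chain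 (allFrom_chain (allFrom_chain (allFrom_chain (allFrom_chain (allFrom_chain (allFrom_chain (allFrom_chain (allFrom_chain (allFrom_chain (allFrom_chain (allFrom_chain (allFrom_chain (allFrom_chain (allFrom_chain (allFrom_chain (allFrom_chain (allFrom_chain (allFrom_chain (allFrom_chain (allFrom_chain (allFrom_chain (allFrom_chain (allFrom_chain (allFrom_chain (allFrom_chain (allFrom_chain (allFrom_chain (allFrom_chain (allFrom_chain (allFrom_chain (allFrom_chain (allFrom_chain (allFrom_chain (allFrom_chain (allFrom_chain (allFrom_chain (allFrom_chain (allFrom_chain (allFrom_chain (allFrom_chain (allFrom_chain (allFrom_chain (allFrom_chain (allFrom_chain (allFrom_chain (allFrom_chain (allFrom_chain (allFrom_chain (allFrom_chain (allFrom_chain (allFrom_chain (allFrom_chain (allFrom_chain (allFrom_chain (allFrom_chain (allFrom_chain (allFrom_chain (allFrom_chain (allFrom_chain (allFrom_chain (allFrom_chain (allFrom_chain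 (allFrom_chain (allFrom_chain (allFrom_chain (allFrom_chain (allFrom_chain (allFrom_chain (allFrom_chain (allFrom_chain (allFrom_chain (allFrom_chain (allFrom_chain (allFrom_chain (allFrom_chain (allFrom_chain (allFrom_chain (allFrom_chain (allFrom_chain (allFrom_chain (allFrom_chain (allFrom_chain (allFrom_chain (allFrom_chain (allFrom_chain (allFrom_chain (allFrom_chain (allFrom_chain (allFrom_chain (allFrom_chain (allFrom_chain (allFrom_chain (allFrom_chain (allFrom_chain (allFrom_chain (allFrom_chain (allFrom_chain (allFrom_chain (allFrom_chain (allFrom_chain (allFrom_chain (allFrom_chain (allFrom_chain (allFrom_chain (allFrom_chain (allFrom_chain (allFrom_chain (allFrom_chain (allFrom_chain (allFrom_chain (allFrom_chain (allFrom_chain (allFrom_chain (allFrom_chain (allFrom_chain (allFrom_chain (allFrom_chain (allFrom_chain (allFrom_chain (allFrom_chain (allFrom_chain (allFrom_chain (allFrom_chain (allFrom_chain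 (allFrom_chain (allFrom_chain (allFrom_chain (allFrom_chain (allFrom_chain (allFrom_chain (allFrom_chain (allFrom_chain (allFrom_chain (allFrom_chain (allFrom_chain (allFrom_chain (allFrom_nil (chkRelF cfg relsL) (nat_lit 0)) rel0 (c := 1633) rfl) rel1 (c := 3266) rfl) rel2 (c := 4899) rfl) rel3 (c := 6532) rfl) rel4 (c := 8165) rfl) rel5 (c := 9798) rfl) rel6 (c := 11431) rfl) rel7 (c := 13064) rfl) rel8 (c := 14697) rfl) rel9 (c := 16330) rfl) rel10 (c := 17963) rfl) rel11 (c := 19596) rfl) rel12 (c := 21229) rfl) rel13 (c := 22862) rfl) rel14 (c := 24495) rfl) rel15 (c := 26128) rfl) rel16 (c := 27761) rfl) rel17 (c := 29394) rfl) rel18 (c := 31027) rfl) rel19 (c := 32660) rfl) rel20 (c := 34293) rfl) rel21 (c := 35926) rfl) rel22 (c := 37559) rfl) rel23 (c := 39192) rfl) rel24 (c := 40825) rfl) rel25 (c := 42458) rfl) rel26 (c := 44091) rfl) rel27 (c := 45724) rfl) rel28 (c := 47357) rfl) rel29 (c := 48990)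 rfl) rel30 (c := 50623) rfl) rel31 (c := 52256) rfl) rel32 (c := 53889) rfl) rel33 (c := 55522) rfl) rel34 (c := 57155) rfl) rel35 (c := 58788) rfl) rel36 (c := 60421) rfl) rel37 (c := 62054) rfl) rel38 (c := 63687) rfl) rel39 (c := 65320) rfl) rel40 (c := 66953) rfl) rel41 (c := 68586) rfl) rel42 (c := 70219) rfl) rel43 (c := 71852) rfl) rel44 (c := 73485) rfl) rel45 (c := 75118) rfl) rel46 (c := 76751) rfl) rel47 (c := 78384) rfl) rel48 (c := 80017) rfl) rel49 (c := 81650) rfl) rel50 (c := 83283) rfl) rel51 (c := 84916) rfl) rel52 (c := 86549) rfl) rel53 (c := 88182) rfl) rel54 (c := 89815) rfl) rel55 (c := 91448) rfl) rel56 (c := 93081) rfl) rel57 (c := 94714) rfl) rel58 (c := 96347) rfl) rel59 (c := 97980) rfl) rel60 (c := 99613) rfl) rel61 (c := 101246) rfl) rel62 (c := 102879) rfl) rel63 (c := 104512) rfl) rel64 (c := 106145) rfl) rel65 (c := 107778) rfl) rel66 (c := 109411) rfl) rel67 (c := 111044) rfl)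 rel68 (c := 112677) rfl) rel69 (c := 114310) rfl) rel70 (c := 115943) rfl) rel71 (c := 117576) rfl) rel72 (c := 119209) rfl) rel73 (c := 120842) rfl) rel74 (c := 122475) rfl) rel75 (c := 124108) rfl) rel76 (c := 125741) rfl) rel77 (c := 127374) rfl) rel78 (c := 129007) rfl) rel79 (c := 130640) rfl) rel80 (c := 132273) rfl) rel81 (c := 133906) rfl) rel82 (c := 135539) rfl) rel83 (c := 137172) rfl) rel84 (c := 138805) rfl) rel85 (c := 140438) rfl) rel86 (c := 142071) rfl) rel87 (c := 143704) rfl) rel88 (c := 145337) rfl) rel89 (c := 146970) rfl) rel90 (c := 148603) rfl) rel91 (c := 150236) rfl) rel92 (c := 151869) rfl) rel93 (c := 153502) rfl) rel94 (c := 155135) rfl) rel95 (c := 156768) rfl) rel96 (c := 158401) rfl) rel97 (c := 160034) rfl) rel98 (c := 161667) rfl) rel99 (c := 163300) rfl) rel100 (c := 164933) rfl) rel101 (c := 166566) rfl) rel102 (c := 168199) rfl) rel103 (c := 169832) rfl) rel104 (c := 171465)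 rfl) rel105 (c := 173098) rfl) rel106 (c := 174731) rfl) rel107 (c := 176364) rfl) rel108 (c := 177997) rfl) rel109 (c := 179630) rfl) rel110 (c := 181263) rfl) rel111 (c := 182896) rfl) rel112 (c := 184529) rfl) rel113 (c := 186162) rfl) rel114 (c := 187795) rfl) rel115 (c := 189428) rfl) rel116 (c := 191061) rfl) rel117 (c := 192694) rfl) rel118 (c := 194327) rfl) rel119 (c := 195960) rfl) rel120 (c := 197593) rfl) rel121 (c := 199226) rfl) rel122 (c := 200859) rfl) rel123 (c := 202492) rfl) rel124 (c := 204125) rfl) rel125 (c := 205758) rfl) rel126 (c := 207391) rfl) rel127 (c := 209024) rfl) rel128 (c := 210657) rfl) rel129 (c := 212290) rfl) rel130 (c := 213923) rfl) rel131 (c := 215556) rfl) rel132 (c := 217189) rfl) rel133 (c := 218822) rfl) rel134 (c := 220455) rfl) rel135 (c := 222088) rfl) rel136 (c := 223721) rfl) rel137 (c := 225354) rfl) rel138 (c := 226987) rfl) rel139 (c := 228620) rfl) rel140 (c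 := 230253) rfl) rel141 (c := 231886) rfl) rel142 (c := 233519) rfl) rel143 (c := 235152) rfl) rel144 (c := 236785) rfl) rel145 (c := 238418) rfl) rel146 (c := 240051) rfl) rel147 (c := 241684) rfl) rel148 (c := 243317) rfl) rel149 (c := 244950) rfl) rel150 (c := 246583) rfl) rel151 (c := 248216) rfl) rel152 (c := 249849) rfl) rel153 (c := 251482) rfl) rel154 (c := 253115) rfl) rel155 (c := 254748) rfl) rel156 (c := 256381) rfl) rel157 (c := 258014) rfl) rel158 (c := 259647) rfl) rel159 (c := 261280) rfl) rel160 (c := 262913) rfl) rel161 (c := 264546) rfl) rel162 (c := 266179) rfl) rel163 (c := 267812) rfl) rel164 (c := 269445) rfl) rel165 (c := 271078) rfl) rel166 (c := 272711) rfl) rel167 (c := 274344) rfl) rel168 (c := 275977) rfl) rel169 (c := 277610) rfl) rel170 (c := 279243) rfl) rel171 (c := 280876) rfl) rel172 (c := 282509) rfl) rel173 (c := 284142) rfl) rel174 (c := 285775) rfl) rel175 (c := 287408) rfl)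 rel176 (c := 289041) rfl) rel177 (c := 290674) rfl) rel178 (c := 292307) rfl) rel179 (c := 293940) rfl) rel180 (c := 295573) rfl) rel181 (c := 297206) rfl) rel182 (c := 298839) rfl) rel183 (c := 300472) rfl) rel184 (c := 302105) rfl) rel185 (c := 303738) rfl) rel186 (c := 305371) rfl) rel187 (c := 306936) rfl) k (Nat.zero_le k) hk

theorem finFull : ∀ i, i < cfg.N → cfg.chkFin (List.range cfg.L) i = true := fun i hi =>
  allFrom_all finAll rfl i (Nat.zero_le i) hi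

theorem relFull : ∀ k, k < cfg.N → cfg.chkRel relsL k = true := fun k hk =>
  chkRel_of_fast finFull relLt hk (relFast k hk)

theorem big : Big D cfg where
  hwords := fun _ => rfl
  hrules := fun r => rulesOK_spec rulesChk r
  hw0 := w0Chk
  hkeys := keysFull
  hlbl := fun j hj hj' => allFrom_all lblAll rfl j (Nat.pos_of_ne_zero hj) hj'
  hfin := finFull
  hq := fun i hi hi' => allFrom_all qAll rfl i (Nat.pos_of_ne_zero hi) hi'
  hrel := relFull

theorem hgens : ∀ a, (a, true) ∈ D.lets := by intro a; cases a <;> decide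

/-- the relators as a set -/
abbrev RR : Set (FreeGroup Cfsg.Spor.Fi24.Gen) := Cfsg.Spor.coxRelators Cfsg.Spor.Fi24.edges ∪ {r | r ∈ Cfsg.Spor.Fi24.extra}

theorem hR : ∀ r, r ∈ RR ↔ r ∈ D.rs := fun r => mem_coxR _ _ r

/-- The index of the subgroup. -/
theorem index : (HOf RR D.Hs).index = 306936 :=
  index_eq hR small big hgens

/-- The orbits of the subgroup. -/
theorem orbits : ∃ q : ℕ → (PresentedGroup RR ⧸ HOf RR D.Hs),
    (∀ d, oc.rep d < cfg.N → oc.oid (oc.rep d) = d →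
      (MulAction.orbit (HOf RR D.Hs) (q d)).ncard =
        ((Finset.range cfg.N).filter (fun j => oc.oid j = d)).card) ∧
    (∀ d d', oc.rep d < cfg.N → oc.oid (oc.rep d) = d → oc.rep d' < cfg.N → oc.oid (oc.rep d') = d' → d ≠ d' →
      MulAction.orbit (HOf RR D.Hs) (q d) ≠ MulAction.orbit (HOf RR D.Hs) (q d')) :=
  orbits_main hR small big hgens oc
    (fun j hj => allFrom_all orbI rfl j (Nat.zero_le j) hj)
    (fun j hj => allFrom_all orbT rfl j (Nat.zero_le j) hj)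

theorem repsOK : ∀ d, d < 3 → oc.rep d < cfg.N ∧ oc.oid (oc.rep d) = d := by decide +kernel

/-- The orbits of the subgroup, with their sizes. -/
theorem orbitsAll : ∃ q : ℕ → (PresentedGroup RR ⧸ HOf RR D.Hs),
    ((MulAction.orbit (HOf RR D.Hs) (q 0)).ncard = 1 ∧ (MulAction.orbit (HOf RR D.Hs) (q 1)).ncard = 275264 ∧ (MulAction.orbit (HOf RR D.Hs) (q 2)).ncard = 31671) ∧
    ∀ d d', d < 3 → d' < 3 → d ≠ d' →
      MulAction.orbit (HOf RR D.Hs) (q d) ≠ MulAction.orbit (HOf RR D.Hs) (q d') := by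
  obtain ⟨q, h1, h2⟩ := orbits
  refine ⟨q, ⟨(h1 _ (repsOK 0 (by decide)).1 (repsOK 0 (by decide)).2).trans (count_eq orbC0), (h1 _ (repsOK 1 (by decide)).1 (repsOK 1 (by decide)).2).trans (count_eq orbC1), (h1 _ (repsOK 2 (by decide)).1 (repsOK 2 (by decide)).2).trans (count_eq orbC2)⟩, ?_⟩
  intro d d' hd hd' hne
  exact h2 d d' (repsOK d hd).1 (repsOK d hd).2 (repsOK d' hd').1 (repsOK d' hd').2 hne

/-- the generating set as in the statements -/
theorem hset : ({Cfsg.Spor.Fi24.a, Cfsg.Spor.Fi24.b, Cfsg.Spor.Fi24.c, Cfsg.Spor.Fi24.d, Cfsg.Spor.Fi24.e, Cfsg.Spor.Fi24.f, Cfsg.Spor.Fi24.g, Cfsg.Spor.Fi24.h, Cfsg.Spor.Fi24.i, Cfsg.Spor.Fi24.j, Cfsg.Spor.Fi24.l} : Set (FreeGroup Cfsg.Spor.Fi24.Gen)) = {h | h ∈ D.Hs} := by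
  ext x
  simp [D]

end Cfsg.Agent.Lib.Compute.TC.Fi24a
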