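-- Certificate checks for Fi24a.
import Cfsg.Agent.Lib.Compute.TC.Fi24a.Data
import Cfsg.Agent.Lib.Compute.TCSplit
set_option autoImplicit false
set_option Elab.async false
set_option maxRecDepth 1000000

open Cfsg.Agent.Lib.Compute.ToddCoxeterCore Cfsg.Agent.Lib.Compute.ToddCoxeterPresented Cfsg.Agent.Lib.Compute.TCFast

open Cfsg.Agent.Lib.Compute.TCSplit

namespace Cfsg.Agent.Lib.Compute.TC.Fi24a

theorem keys64x0 : allFrom cfg.chkKey (nat_lit 44143) (nat_lit 4374523) = true := by decide +kernel
theorem keys64x1 : allFrom cfg.chkKey (nat_lit 44142) (nat_lit 4418666) = true := by decide +kernel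
theorem keys64x2 : allFrom cfg.chkKey (nat_lit 44142) (nat_lit 4462808) = true := by decide +kernel
theorem keys64x3 : allFrom cfg.chkKey (nat_lit 44142) (nat_lit 4506950) = true := by decide +kernel
theorem keys64c1 : allFrom cfg.chkKey (nat_lit 88285) (nat_lit 4374523) = true := join keys64x0 keys64x1 rfl rfl
theorem keys64c2 : allFrom cfg.chkKey (nat_lit 132427) (nat_lit 4374523) = true := join keys64c1 keys64x2 rfl rfl
theorem keys64 : allFrom cfg.chkKey (nat_lit 176569) (nat_lit 4374523) = true := join keys64c2 keys64x3 rfl rfl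

end Cfsg.Agent.Lib.Compute.TC.Fi24a
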