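-- Certificate checks for Fi24a.
import Cfsg.Agent.Lib.Compute.TC.Fi24a.Data
import Cfsg.Agent.Lib.Compute.TCSplit
set_option autoImplicit false
set_option Elab.async false
set_option maxRecDepth 1000000

open Cfsg.Agent.Lib.Compute.ToddCoxeterCore Cfsg.Agent.Lib.Compute.ToddCoxeterPresented Cfsg.Agent.Lib.Compute.TCFast

open Cfsg.Agent.Lib.Compute.TCSplit

namespace Cfsg.Agent.Lib.Compute.TC.Fi24a

theorem rel10x0 : allFrom (chkRelF cfg relsL) (nat_lit 205) (nat_lit 16330) = true := by decide +kernel
theorem rel10x1 : allFrom (chkRelF cfg relsL) (nat_lit 204) (nat_lit 16535) = true := by decide +kernel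
theorem rel10x2 : allFrom (chkRelF cfg relsL) (nat_lit 204) (nat_lit 16739) = true := by decide +kernel
theorem rel10x3 : allFrom (chkRelF cfg relsL) (nat_lit 204) (nat_lit 16943) = true := by decide +kernel
theorem rel10x4 : allFrom (chkRelF cfg relsL) (nat_lit 204) (nat_lit 17147) = true := by decide +kernel
theorem rel10x5 : allFrom (chkRelF cfg relsL) (nat_lit 204) (nat_lit 17351) = true := by decide +kernel
theorem rel10x6 : allFrom (chkRelF cfg relsL) (nat_lit 204) (nat_lit 17555) = true := by decide +kernel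
theorem rel10x7 : allFrom (chkRelF cfg relsL) (nat_lit 204) (nat_lit 17759) = true := by decide +kernel
theorem rel10c1 : allFrom (chkRelF cfg relsL) (nat_lit 409) (nat_lit 16330) = true := join rel10x0 rel10x1 rfl rfl
theorem rel10c2 : allFrom (chkRelF cfg relsL) (nat_lit 613) (nat_lit 16330) = true := join rel10c1 rel10x2 rfl rfl
theorem rel10c3 : allFrom (chkRelF cfg relsL) (nat_lit 817) (nat_lit 16330) = true := join rel10c2 rel10x3 rfl rfl
theorem rel10c4 : allFrom (chkRelF cfg relsL) (nat_lit 1021) (nat_lit 16330) = true := join rel10c3 rel10x4 rfl rfl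
theorem rel10c5 : allFrom (chkRelF cfg relsL) (nat_lit 1225) (nat_lit 16330) = true := join rel10c4 rel10x5 rfl rfl
theorem rel10c6 : allFrom (chkRelF cfg relsL) (nat_lit 1429) (nat_lit 16330) = true := join rel10c5 rel10x6 rfl rfl
theorem rel10 : allFrom (chkRelF cfg relsL) (nat_lit 1633) (nat_lit 16330) = true := join rel10c6 rel10x7 rfl rfl

end Cfsg.Agent.Lib.Compute.TC.Fi24a
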