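-- Certificate checks for Fi24a.
import Cfsg.Agent.Lib.Compute.TC.Fi24a.Data
import Cfsg.Agent.Lib.Compute.TCSplit
set_option autoImplicit false
set_option Elab.async false
set_option maxRecDepth 1000000

open Cfsg.Agent.Lib.Compute.ToddCoxeterCore Cfsg.Agent.Lib.Compute.ToddCoxeterPresented Cfsg.Agent.Lib.Compute.TCFast

open Cfsg.Agent.Lib.Compute.TCSplit

namespace Cfsg.Agent.Lib.Compute.TC.Fi24a

theorem rel109x0 : allFrom (chkRelF cfg relsL) (nat_lit 205) (nat_lit 177997) = true := by decide +kernel
theorem rel109x1 : allFrom (chkRelF cfg relsL) (nat_lit 204) (nat_lit 178202) = true := by decide +kernel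
theorem rel109x2 : allFrom (chkRelF cfg relsL) (nat_lit 204) (nat_lit 178406) = true := by decide +kernel
theorem rel109x3 : allFrom (chkRelF cfg relsL) (nat_lit 204) (nat_lit 178610) = true := by decide +kernel
theorem rel109x4 : allFrom (chkRelF cfg relsL) (nat_lit 204) (nat_lit 178814) = true := by decide +kernel
theorem rel109x5 : allFrom (chkRelF cfg relsL) (nat_lit 204) (nat_lit 179018) = true := by decide +kernel
theorem rel109x6 : allFrom (chkRelF cfg relsL) (nat_lit 204) (nat_lit 179222) = true := by decide +kernel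
theorem rel109x7 : allFrom (chkRelF cfg relsL) (nat_lit 204) (nat_lit 179426) = true := by decide +kernel
theorem rel109c1 : allFrom (chkRelF cfg relsL) (nat_lit 409) (nat_lit 177997) = true := join rel109x0 rel109x1 rfl rfl
theorem rel109c2 : allFrom (chkRelF cfg relsL) (nat_lit 613) (nat_lit 177997) = true := join rel109c1 rel109x2 rfl rfl
theorem rel109c3 : allFrom (chkRelF cfg relsL) (nat_lit 817) (nat_lit 177997) = true := join rel109c2 rel109x3 rfl rfl
theorem rel109c4 : allFrom (chkRelF cfg relsL) (nat_lit 1021) (nat_lit 177997) = true := join rel109c3 rel109x4 rfl rfl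
theorem rel109c5 : allFrom (chkRelF cfg relsL) (nat_lit 1225) (nat_lit 177997) = true := join rel109c4 rel109x5 rfl rfl
theorem rel109c6 : allFrom (chkRelF cfg relsL) (nat_lit 1429) (nat_lit 177997) = true := join rel109c5 rel109x6 rfl rfl
theorem rel109 : allFrom (chkRelF cfg relsL) (nat_lit 1633) (nat_lit 177997) = true := join rel109c6 rel109x7 rfl rfl

end Cfsg.Agent.Lib.Compute.TC.Fi24a
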