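-- Certificate checks for Fi24a.
import Cfsg.Agent.Lib.Compute.TC.Fi24a.Data
import Cfsg.Agent.Lib.Compute.TCSplit
set_option autoImplicit false
set_option Elab.async false
set_option maxRecDepth 1000000

open Cfsg.Agent.Lib.Compute.ToddCoxeterCore Cfsg.Agent.Lib.Compute.ToddCoxeterPresented Cfsg.Agent.Lib.Compute.TCFast

open Cfsg.Agent.Lib.Compute.TCSplit

namespace Cfsg.Agent.Lib.Compute.TC.Fi24a

theorem rel120x0 : allFrom (chkRelF cfg relsL) (nat_lit 205) (nat_lit 195960) = true := by decide +kernel
theorem rel120x1 : allFrom (chkRelF cfg relsL) (nat_lit 204) (nat_lit 196165) = true := by decide +kernel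
theorem rel120x2 : allFrom (chkRelF cfg relsL) (nat_lit 204) (nat_lit 196369) = true := by decide +kernel
theorem rel120x3 : allFrom (chkRelF cfg relsL) (nat_lit 204) (nat_lit 196573) = true := by decide +kernel
theorem rel120x4 : allFrom (chkRelF cfg relsL) (nat_lit 204) (nat_lit 196777) = true := by decide +kernel
theorem rel120x5 : allFrom (chkRelF cfg relsL) (nat_lit 204) (nat_lit 196981) = true := by decide +kernel
theorem rel120x6 : allFrom (chkRelF cfg relsL) (nat_lit 204) (nat_lit 197185) = true := by decide +kernel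
theorem rel120x7 : allFrom (chkRelF cfg relsL) (nat_lit 204) (nat_lit 197389) = true := by decide +kernel
theorem rel120c1 : allFrom (chkRelF cfg relsL) (nat_lit 409) (nat_lit 195960) = true := join rel120x0 rel120x1 rfl rfl
theorem rel120c2 : allFrom (chkRelF cfg relsL) (nat_lit 613) (nat_lit 195960) = true := join rel120c1 rel120x2 rfl rfl
theorem rel120c3 : allFrom (chkRelF cfg relsL) (nat_lit 817) (nat_lit 195960) = true := join rel120c2 rel120x3 rfl rfl
theorem rel120c4 : allFrom (chkRelF cfg relsL) (nat_lit 1021) (nat_lit 195960) = true := join rel120c3 rel120x4 rfl rfl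
theorem rel120c5 : allFrom (chkRelF cfg relsL) (nat_lit 1225) (nat_lit 195960) = true := join rel120c4 rel120x5 rfl rfl
theorem rel120c6 : allFrom (chkRelF cfg relsL) (nat_lit 1429) (nat_lit 195960) = true := join rel120c5 rel120x6 rfl rfl
theorem rel120 : allFrom (chkRelF cfg relsL) (nat_lit 1633) (nat_lit 195960) = true := join rel120c6 rel120x7 rfl rfl

end Cfsg.Agent.Lib.Compute.TC.Fi24a
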