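-- Certificate checks for Fi24a.
import Cfsg.Agent.Lib.Compute.TC.Fi24a.Data
import Cfsg.Agent.Lib.Compute.TCSplit
set_option autoImplicit false
set_option Elab.async false
set_option maxRecDepth 1000000

open Cfsg.Agent.Lib.Compute.ToddCoxeterCore Cfsg.Agent.Lib.Compute.ToddCoxeterPresented Cfsg.Agent.Lib.Compute.TCFast

open Cfsg.Agent.Lib.Compute.TCSplit

namespace Cfsg.Agent.Lib.Compute.TC.Fi24a

theorem rel131x0 : allFrom (chkRelF cfg relsL) (nat_lit 205) (nat_lit 213923) = true := by decide +kernel
theorem rel131x1 : allFrom (chkRelF cfg relsL) (nat_lit 204) (nat_lit 214128) = true := by decide +kernel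
theorem rel131x2 : allFrom (chkRelF cfg relsL) (nat_lit 204) (nat_lit 214332) = true := by decide +kernel
theorem rel131x3 : allFrom (chkRelF cfg relsL) (nat_lit 204) (nat_lit 214536) = true := by decide +kernel
theorem rel131x4 : allFrom (chkRelF cfg relsL) (nat_lit 204) (nat_lit 214740) = true := by decide +kernel
theorem rel131x5 : allFrom (chkRelF cfg relsL) (nat_lit 204) (nat_lit 214944) = true := by decide +kernel
theorem rel131x6 : allFrom (chkRelF cfg relsL) (nat_lit 204) (nat_lit 215148) = true := by decide +kernel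
theorem rel131x7 : allFrom (chkRelF cfg relsL) (nat_lit 204) (nat_lit 215352) = true := by decide +kernel
theorem rel131c1 : allFrom (chkRelF cfg relsL) (nat_lit 409) (nat_lit 213923) = true := join rel131x0 rel131x1 rfl rfl
theorem rel131c2 : allFrom (chkRelF cfg relsL) (nat_lit 613) (nat_lit 213923) = true := join rel131c1 rel131x2 rfl rfl
theorem rel131c3 : allFrom (chkRelF cfg relsL) (nat_lit 817) (nat_lit 213923) = true := join rel131c2 rel131x3 rfl rfl
theorem rel131c4 : allFrom (chkRelF cfg relsL) (nat_lit 1021) (nat_lit 213923) = true := join rel131c3 rel131x4 rfl rfl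
theorem rel131c5 : allFrom (chkRelF cfg relsL) (nat_lit 1225) (nat_lit 213923) = true := join rel131c4 rel131x5 rfl rfl
theorem rel131c6 : allFrom (chkRelF cfg relsL) (nat_lit 1429) (nat_lit 213923) = true := join rel131c5 rel131x6 rfl rfl
theorem rel131 : allFrom (chkRelF cfg relsL) (nat_lit 1633) (nat_lit 213923) = true := join rel131c6 rel131x7 rfl rfl

end Cfsg.Agent.Lib.Compute.TC.Fi24a
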