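-- Certificate checks for Fi24a.
import Cfsg.Agent.Lib.Compute.TC.Fi24a.Data
import Cfsg.Agent.Lib.Compute.TCSplit
set_option autoImplicit false
set_option Elab.async false
set_option maxRecDepth 1000000

open Cfsg.Agent.Lib.Compute.ToddCoxeterCore Cfsg.Agent.Lib.Compute.ToddCoxeterPresented Cfsg.Agent.Lib.Compute.TCFast

open Cfsg.Agent.Lib.Compute.TCSplit

namespace Cfsg.Agent.Lib.Compute.TC.Fi24a

theorem rel142x0 : allFrom (chkRelF cfg relsL) (nat_lit 205) (nat_lit 231886) = true := by decide +kernel
theorem rel142x1 : allFrom (chkRelF cfg relsL) (nat_lit 204) (nat_lit 232091) = true := by decide +kernel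
theorem rel142x2 : allFrom (chkRelF cfg relsL) (nat_lit 204) (nat_lit 232295) = true := by decide +kernel
theorem rel142x3 : allFrom (chkRelF cfg relsL) (nat_lit 204) (nat_lit 232499) = true := by decide +kernel
theorem rel142x4 : allFrom (chkRelF cfg relsL) (nat_lit 204) (nat_lit 232703) = true := by decide +kernel
theorem rel142x5 : allFrom (chkRelF cfg relsL) (nat_lit 204) (nat_lit 232907) = true := by decide +kernel
theorem rel142x6 : allFrom (chkRelF cfg relsL) (nat_lit 204) (nat_lit 233111) = true := by decide +kernel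
theorem rel142x7 : allFrom (chkRelF cfg relsL) (nat_lit 204) (nat_lit 233315) = true := by decide +kernel
theorem rel142c1 : allFrom (chkRelF cfg relsL) (nat_lit 409) (nat_lit 231886) = true := join rel142x0 rel142x1 rfl rfl
theorem rel142c2 : allFrom (chkRelF cfg relsL) (nat_lit 613) (nat_lit 231886) = true := join rel142c1 rel142x2 rfl rfl
theorem rel142c3 : allFrom (chkRelF cfg relsL) (nat_lit 817) (nat_lit 231886) = true := join rel142c2 rel142x3 rfl rfl
theorem rel142c4 : allFrom (chkRelF cfg relsL) (nat_lit 1021) (nat_lit 231886) = true := join rel142c3 rel142x4 rfl rfl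
theorem rel142c5 : allFrom (chkRelF cfg relsL) (nat_lit 1225) (nat_lit 231886) = true := join rel142c4 rel142x5 rfl rfl
theorem rel142c6 : allFrom (chkRelF cfg relsL) (nat_lit 1429) (nat_lit 231886) = true := join rel142c5 rel142x6 rfl rfl
theorem rel142 : allFrom (chkRelF cfg relsL) (nat_lit 1633) (nat_lit 231886) = true := join rel142c6 rel142x7 rfl rfl

end Cfsg.Agent.Lib.Compute.TC.Fi24a
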