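-- Certificate checks for Fi24a.
import Cfsg.Agent.Lib.Compute.TC.Fi24a.Data
import Cfsg.Agent.Lib.Compute.TCSplit
set_option autoImplicit false
set_option Elab.async false
set_option maxRecDepth 1000000

open Cfsg.Agent.Lib.Compute.ToddCoxeterCore Cfsg.Agent.Lib.Compute.ToddCoxeterPresented Cfsg.Agent.Lib.Compute.TCFast

open Cfsg.Agent.Lib.Compute.TCSplit

namespace Cfsg.Agent.Lib.Compute.TC.Fi24a

theorem rel153x0 : allFrom (chkRelF cfg relsL) (nat_lit 205) (nat_lit 249849) = true := by decide +kernel
theorem rel153x1 : allFrom (chkRelF cfg relsL) (nat_lit 204) (nat_lit 250054) = true := by decide +kernel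
theorem rel153x2 : allFrom (chkRelF cfg relsL) (nat_lit 204) (nat_lit 250258) = true := by decide +kernel
theorem rel153x3 : allFrom (chkRelF cfg relsL) (nat_lit 204) (nat_lit 250462) = true := by decide +kernel
theorem rel153x4 : allFrom (chkRelF cfg relsL) (nat_lit 204) (nat_lit 250666) = true := by decide +kernel
theorem rel153x5 : allFrom (chkRelF cfg relsL) (nat_lit 204) (nat_lit 250870) = true := by decide +kernel
theorem rel153x6 : allFrom (chkRelF cfg relsL) (nat_lit 204) (nat_lit 251074) = true := by decide +kernel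
theorem rel153x7 : allFrom (chkRelF cfg relsL) (nat_lit 204) (nat_lit 251278) = true := by decide +kernel
theorem rel153c1 : allFrom (chkRelF cfg relsL) (nat_lit 409) (nat_lit 249849) = true := join rel153x0 rel153x1 rfl rfl
theorem rel153c2 : allFrom (chkRelF cfg relsL) (nat_lit 613) (nat_lit 249849) = true := join rel153c1 rel153x2 rfl rfl
theorem rel153c3 : allFrom (chkRelF cfg relsL) (nat_lit 817) (nat_lit 249849) = true := join rel153c2 rel153x3 rfl rfl
theorem rel153c4 : allFrom (chkRelF cfg relsL) (nat_lit 1021) (nat_lit 249849) = true := join rel153c3 rel153x4 rfl rfl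
theorem rel153c5 : allFrom (chkRelF cfg relsL) (nat_lit 1225) (nat_lit 249849) = true := join rel153c4 rel153x5 rfl rfl
theorem rel153c6 : allFrom (chkRelF cfg relsL) (nat_lit 1429) (nat_lit 249849) = true := join rel153c5 rel153x6 rfl rfl
theorem rel153 : allFrom (chkRelF cfg relsL) (nat_lit 1633) (nat_lit 249849) = true := join rel153c6 rel153x7 rfl rfl

end Cfsg.Agent.Lib.Compute.TC.Fi24a
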