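-- Certificate checks for Fi24a.
import Cfsg.Agent.Lib.Compute.TC.Fi24a.Data
import Cfsg.Agent.Lib.Compute.TCSplit
set_option autoImplicit false
set_option Elab.async false
set_option maxRecDepth 1000000

open Cfsg.Agent.Lib.Compute.ToddCoxeterCore Cfsg.Agent.Lib.Compute.ToddCoxeterPresented Cfsg.Agent.Lib.Compute.TCFast

open Cfsg.Agent.Lib.Compute.TCSplit

namespace Cfsg.Agent.Lib.Compute.TC.Fi24a

theorem rel164x0 : allFrom (chkRelF cfg relsL) (nat_lit 205) (nat_lit 267812) = true := by decide +kernel
theorem rel164x1 : allFrom (chkRelF cfg relsL) (nat_lit 204) (nat_lit 268017) = true := by decide +kernel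
theorem rel164x2 : allFrom (chkRelF cfg relsL) (nat_lit 204) (nat_lit 268221) = true := by decide +kernel
theorem rel164x3 : allFrom (chkRelF cfg relsL) (nat_lit 204) (nat_lit 268425) = true := by decide +kernel
theorem rel164x4 : allFrom (chkRelF cfg relsL) (nat_lit 204) (nat_lit 268629) = true := by decide +kernel
theorem rel164x5 : allFrom (chkRelF cfg relsL) (nat_lit 204) (nat_lit 268833) = true := by decide +kernel
theorem rel164x6 : allFrom (chkRelF cfg relsL) (nat_lit 204) (nat_lit 269037) = true := by decide +kernel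
theorem rel164x7 : allFrom (chkRelF cfg relsL) (nat_lit 204) (nat_lit 269241) = true := by decide +kernel
theorem rel164c1 : allFrom (chkRelF cfg relsL) (nat_lit 409) (nat_lit 267812) = true := join rel164x0 rel164x1 rfl rfl
theorem rel164c2 : allFrom (chkRelF cfg relsL) (nat_lit 613) (nat_lit 267812) = true := join rel164c1 rel164x2 rfl rfl
theorem rel164c3 : allFrom (chkRelF cfg relsL) (nat_lit 817) (nat_lit 267812) = true := join rel164c2 rel164x3 rfl rfl
theorem rel164c4 : allFrom (chkRelF cfg relsL) (nat_lit 1021) (nat_lit 267812) = true := join rel164c3 rel164x4 rfl rfl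
theorem rel164c5 : allFrom (chkRelF cfg relsL) (nat_lit 1225) (nat_lit 267812) = true := join rel164c4 rel164x5 rfl rfl
theorem rel164c6 : allFrom (chkRelF cfg relsL) (nat_lit 1429) (nat_lit 267812) = true := join rel164c5 rel164x6 rfl rfl
theorem rel164 : allFrom (chkRelF cfg relsL) (nat_lit 1633) (nat_lit 267812) = true := join rel164c6 rel164x7 rfl rfl

end Cfsg.Agent.Lib.Compute.TC.Fi24a
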