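-- Certificate checks for Fi24a.
import Cfsg.Agent.Lib.Compute.TC.Fi24a.Data
import Cfsg.Agent.Lib.Compute.TCSplit
set_option autoImplicit false
set_option Elab.async false
set_option maxRecDepth 1000000

open Cfsg.Agent.Lib.Compute.ToddCoxeterCore Cfsg.Agent.Lib.Compute.ToddCoxeterPresented Cfsg.Agent.Lib.Compute.TCFast

open Cfsg.Agent.Lib.Compute.TCSplit

namespace Cfsg.Agent.Lib.Compute.TC.Fi24a

theorem rel175x0 : allFrom (chkRelF cfg relsL) (nat_lit 205) (nat_lit 285775) = true := by decide +kernel
theorem rel175x1 : allFrom (chkRelF cfg relsL) (nat_lit 204) (nat_lit 285980) = true := by decide +kernel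
theorem rel175x2 : allFrom (chkRelF cfg relsL) (nat_lit 204) (nat_lit 286184) = true := by decide +kernel
theorem rel175x3 : allFrom (chkRelF cfg relsL) (nat_lit 204) (nat_lit 286388) = true := by decide +kernel
theorem rel175x4 : allFrom (chkRelF cfg relsL) (nat_lit 204) (nat_lit 286592) = true := by decide +kernel
theorem rel175x5 : allFrom (chkRelF cfg relsL) (nat_lit 204) (nat_lit 286796) = true := by decide +kernel
theorem rel175x6 : allFrom (chkRelF cfg relsL) (nat_lit 204) (nat_lit 287000) = true := by decide +kernel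
theorem rel175x7 : allFrom (chkRelF cfg relsL) (nat_lit 204) (nat_lit 287204) = true := by decide +kernel
theorem rel175c1 : allFrom (chkRelF cfg relsL) (nat_lit 409) (nat_lit 285775) = true := join rel175x0 rel175x1 rfl rfl
theorem rel175c2 : allFrom (chkRelF cfg relsL) (nat_lit 613) (nat_lit 285775) = true := join rel175c1 rel175x2 rfl rfl
theorem rel175c3 : allFrom (chkRelF cfg relsL) (nat_lit 817) (nat_lit 285775) = true := join rel175c2 rel175x3 rfl rfl
theorem rel175c4 : allFrom (chkRelF cfg relsL) (nat_lit 1021) (nat_lit 285775) = true := join rel175c3 rel175x4 rfl rfl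
theorem rel175c5 : allFrom (chkRelF cfg relsL) (nat_lit 1225) (nat_lit 285775) = true := join rel175c4 rel175x5 rfl rfl
theorem rel175c6 : allFrom (chkRelF cfg relsL) (nat_lit 1429) (nat_lit 285775) = true := join rel175c5 rel175x6 rfl rfl
theorem rel175 : allFrom (chkRelF cfg relsL) (nat_lit 1633) (nat_lit 285775) = true := join rel175c6 rel175x7 rfl rfl

end Cfsg.Agent.Lib.Compute.TC.Fi24a
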