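-- Certificate checks for Fi24a.
import Cfsg.Agent.Lib.Compute.TC.Fi24a.Data
import Cfsg.Agent.Lib.Compute.TCSplit
set_option autoImplicit false
set_option Elab.async false
set_option maxRecDepth 1000000

open Cfsg.Agent.Lib.Compute.ToddCoxeterCore Cfsg.Agent.Lib.Compute.ToddCoxeterPresented Cfsg.Agent.Lib.Compute.TCFast

open Cfsg.Agent.Lib.Compute.TCSplit

namespace Cfsg.Agent.Lib.Compute.TC.Fi24a

theorem rel186x0 : allFrom (chkRelF cfg relsL) (nat_lit 205) (nat_lit 303738) = true := by decide +kernel
theorem rel186x1 : allFrom (chkRelF cfg relsL) (nat_lit 204) (nat_lit 303943) = true := by decide +kernel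
theorem rel186x2 : allFrom (chkRelF cfg relsL) (nat_lit 204) (nat_lit 304147) = true := by decide +kernel
theorem rel186x3 : allFrom (chkRelF cfg relsL) (nat_lit 204) (nat_lit 304351) = true := by decide +kernel
theorem rel186x4 : allFrom (chkRelF cfg relsL) (nat_lit 204) (nat_lit 304555) = true := by decide +kernel
theorem rel186x5 : allFrom (chkRelF cfg relsL) (nat_lit 204) (nat_lit 304759) = true := by decide +kernel
theorem rel186x6 : allFrom (chkRelF cfg relsL) (nat_lit 204) (nat_lit 304963) = true := by decide +kernel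
theorem rel186x7 : allFrom (chkRelF cfg relsL) (nat_lit 204) (nat_lit 305167) = true := by decide +kernel
theorem rel186c1 : allFrom (chkRelF cfg relsL) (nat_lit 409) (nat_lit 303738) = true := join rel186x0 rel186x1 rfl rfl
theorem rel186c2 : allFrom (chkRelF cfg relsL) (nat_lit 613) (nat_lit 303738) = true := join rel186c1 rel186x2 rfl rfl
theorem rel186c3 : allFrom (chkRelF cfg relsL) (nat_lit 817) (nat_lit 303738) = true := join rel186c2 rel186x3 rfl rfl
theorem rel186c4 : allFrom (chkRelF cfg relsL) (nat_lit 1021) (nat_lit 303738) = true := join rel186c3 rel186x4 rfl rfl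
theorem rel186c5 : allFrom (chkRelF cfg relsL) (nat_lit 1225) (nat_lit 303738) = true := join rel186c4 rel186x5 rfl rfl
theorem rel186c6 : allFrom (chkRelF cfg relsL) (nat_lit 1429) (nat_lit 303738) = true := join rel186c5 rel186x6 rfl rfl
theorem rel186 : allFrom (chkRelF cfg relsL) (nat_lit 1633) (nat_lit 303738) = true := join rel186c6 rel186x7 rfl rfl

end Cfsg.Agent.Lib.Compute.TC.Fi24a
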