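-- Certificate checks for Fi24a.
import Cfsg.Agent.Lib.Compute.TC.Fi24a.Data
import Cfsg.Agent.Lib.Compute.TCSplit
set_option autoImplicit false
set_option Elab.async false
set_option maxRecDepth 1000000

open Cfsg.Agent.Lib.Compute.ToddCoxeterCore Cfsg.Agent.Lib.Compute.ToddCoxeterPresented Cfsg.Agent.Lib.Compute.TCFast

open Cfsg.Agent.Lib.Compute.TCSplit

namespace Cfsg.Agent.Lib.Compute.TC.Fi24a

theorem rel21x0 : allFrom (chkRelF cfg relsL) (nat_lit 205) (nat_lit 34293) = true := by decide +kernel
theorem rel21x1 : allFrom (chkRelF cfg relsL) (nat_lit 204) (nat_lit 34498) = true := by decide +kernel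
theorem rel21x2 : allFrom (chkRelF cfg relsL) (nat_lit 204) (nat_lit 34702) = true := by decide +kernel
theorem rel21x3 : allFrom (chkRelF cfg relsL) (nat_lit 204) (nat_lit 34906) = true := by decide +kernel
theorem rel21x4 : allFrom (chkRelF cfg relsL) (nat_lit 204) (nat_lit 35110) = true := by decide +kernel
theorem rel21x5 : allFrom (chkRelF cfg relsL) (nat_lit 204) (nat_lit 35314) = true := by decide +kernel
theorem rel21x6 : allFrom (chkRelF cfg relsL) (nat_lit 204) (nat_lit 35518) = true := by decide +kernel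
theorem rel21x7 : allFrom (chkRelF cfg relsL) (nat_lit 204) (nat_lit 35722) = true := by decide +kernel
theorem rel21c1 : allFrom (chkRelF cfg relsL) (nat_lit 409) (nat_lit 34293) = true := join rel21x0 rel21x1 rfl rfl
theorem rel21c2 : allFrom (chkRelF cfg relsL) (nat_lit 613) (nat_lit 34293) = true := join rel21c1 rel21x2 rfl rfl
theorem rel21c3 : allFrom (chkRelF cfg relsL) (nat_lit 817) (nat_lit 34293) = true := join rel21c2 rel21x3 rfl rfl
theorem rel21c4 : allFrom (chkRelF cfg relsL) (nat_lit 1021) (nat_lit 34293) = true := join rel21c3 rel21x4 rfl rfl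
theorem rel21c5 : allFrom (chkRelF cfg relsL) (nat_lit 1225) (nat_lit 34293) = true := join rel21c4 rel21x5 rfl rfl
theorem rel21c6 : allFrom (chkRelF cfg relsL) (nat_lit 1429) (nat_lit 34293) = true := join rel21c5 rel21x6 rfl rfl
theorem rel21 : allFrom (chkRelF cfg relsL) (nat_lit 1633) (nat_lit 34293) = true := join rel21c6 rel21x7 rfl rfl

end Cfsg.Agent.Lib.Compute.TC.Fi24a
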