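-- Certificate checks for Fi24a.
import Cfsg.Agent.Lib.Compute.TC.Fi24a.Data
import Cfsg.Agent.Lib.Compute.TCSplit
set_option autoImplicit false
set_option Elab.async false
set_option maxRecDepth 1000000

open Cfsg.Agent.Lib.Compute.ToddCoxeterCore Cfsg.Agent.Lib.Compute.ToddCoxeterPresented Cfsg.Agent.Lib.Compute.TCFast

open Cfsg.Agent.Lib.Compute.TCSplit

namespace Cfsg.Agent.Lib.Compute.TC.Fi24a

theorem rel32x0 : allFrom (chkRelF cfg relsL) (nat_lit 205) (nat_lit 52256) = true := by decide +kernel
theorem rel32x1 : allFrom (chkRelF cfg relsL) (nat_lit 204) (nat_lit 52461) = true := by decide +kernel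
theorem rel32x2 : allFrom (chkRelF cfg relsL) (nat_lit 204) (nat_lit 52665) = true := by decide +kernel
theorem rel32x3 : allFrom (chkRelF cfg relsL) (nat_lit 204) (nat_lit 52869) = true := by decide +kernel
theorem rel32x4 : allFrom (chkRelF cfg relsL) (nat_lit 204) (nat_lit 53073) = true := by decide +kernel
theorem rel32x5 : allFrom (chkRelF cfg relsL) (nat_lit 204) (nat_lit 53277) = true := by decide +kernel
theorem rel32x6 : allFrom (chkRelF cfg relsL) (nat_lit 204) (nat_lit 53481) = true := by decide +kernel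
theorem rel32x7 : allFrom (chkRelF cfg relsL) (nat_lit 204) (nat_lit 53685) = true := by decide +kernel
theorem rel32c1 : allFrom (chkRelF cfg relsL) (nat_lit 409) (nat_lit 52256) = true := join rel32x0 rel32x1 rfl rfl
theorem rel32c2 : allFrom (chkRelF cfg relsL) (nat_lit 613) (nat_lit 52256) = true := join rel32c1 rel32x2 rfl rfl
theorem rel32c3 : allFrom (chkRelF cfg relsL) (nat_lit 817) (nat_lit 52256) = true := join rel32c2 rel32x3 rfl rfl
theorem rel32c4 : allFrom (chkRelF cfg relsL) (nat_lit 1021) (nat_lit 52256) = true := join rel32c3 rel32x4 rfl rfl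
theorem rel32c5 : allFrom (chkRelF cfg relsL) (nat_lit 1225) (nat_lit 52256) = true := join rel32c4 rel32x5 rfl rfl
theorem rel32c6 : allFrom (chkRelF cfg relsL) (nat_lit 1429) (nat_lit 52256) = true := join rel32c5 rel32x6 rfl rfl
theorem rel32 : allFrom (chkRelF cfg relsL) (nat_lit 1633) (nat_lit 52256) = true := join rel32c6 rel32x7 rfl rfl

end Cfsg.Agent.Lib.Compute.TC.Fi24a
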