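-- Certificate checks for Fi24a.
import Cfsg.Agent.Lib.Compute.TC.Fi24a.Data
import Cfsg.Agent.Lib.Compute.TCSplit
set_option autoImplicit false
set_option Elab.async false
set_option maxRecDepth 1000000

open Cfsg.Agent.Lib.Compute.ToddCoxeterCore Cfsg.Agent.Lib.Compute.ToddCoxeterPresented Cfsg.Agent.Lib.Compute.TCFast

open Cfsg.Agent.Lib.Compute.TCSplit

namespace Cfsg.Agent.Lib.Compute.TC.Fi24a

theorem rel43x0 : allFrom (chkRelF cfg relsL) (nat_lit 205) (nat_lit 70219) = true := by decide +kernel
theorem rel43x1 : allFrom (chkRelF cfg relsL) (nat_lit 204) (nat_lit 70424) = true := by decide +kernel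
theorem rel43x2 : allFrom (chkRelF cfg relsL) (nat_lit 204) (nat_lit 70628) = true := by decide +kernel
theorem rel43x3 : allFrom (chkRelF cfg relsL) (nat_lit 204) (nat_lit 70832) = true := by decide +kernel
theorem rel43x4 : allFrom (chkRelF cfg relsL) (nat_lit 204) (nat_lit 71036) = true := by decide +kernel
theorem rel43x5 : allFrom (chkRelF cfg relsL) (nat_lit 204) (nat_lit 71240) = true := by decide +kernel
theorem rel43x6 : allFrom (chkRelF cfg relsL) (nat_lit 204) (nat_lit 71444) = true := by decide +kernel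
theorem rel43x7 : allFrom (chkRelF cfg relsL) (nat_lit 204) (nat_lit 71648) = true := by decide +kernel
theorem rel43c1 : allFrom (chkRelF cfg relsL) (nat_lit 409) (nat_lit 70219) = true := join rel43x0 rel43x1 rfl rfl
theorem rel43c2 : allFrom (chkRelF cfg relsL) (nat_lit 613) (nat_lit 70219) = true := join rel43c1 rel43x2 rfl rfl
theorem rel43c3 : allFrom (chkRelF cfg relsL) (nat_lit 817) (nat_lit 70219) = true := join rel43c2 rel43x3 rfl rfl
theorem rel43c4 : allFrom (chkRelF cfg relsL) (nat_lit 1021) (nat_lit 70219) = true := join rel43c3 rel43x4 rfl rfl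
theorem rel43c5 : allFrom (chkRelF cfg relsL) (nat_lit 1225) (nat_lit 70219) = true := join rel43c4 rel43x5 rfl rfl
theorem rel43c6 : allFrom (chkRelF cfg relsL) (nat_lit 1429) (nat_lit 70219) = true := join rel43c5 rel43x6 rfl rfl
theorem rel43 : allFrom (chkRelF cfg relsL) (nat_lit 1633) (nat_lit 70219) = true := join rel43c6 rel43x7 rfl rfl

end Cfsg.Agent.Lib.Compute.TC.Fi24a
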