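-- Certificate checks for Fi24a.
import Cfsg.Agent.Lib.Compute.TC.Fi24a.Data
import Cfsg.Agent.Lib.Compute.TCSplit
set_option autoImplicit false
set_option Elab.async false
set_option maxRecDepth 1000000

open Cfsg.Agent.Lib.Compute.ToddCoxeterCore Cfsg.Agent.Lib.Compute.ToddCoxeterPresented Cfsg.Agent.Lib.Compute.TCFast

open Cfsg.Agent.Lib.Compute.TCSplit

namespace Cfsg.Agent.Lib.Compute.TC.Fi24a

theorem rel54x0 : allFrom (chkRelF cfg relsL) (nat_lit 205) (nat_lit 88182) = true := by decide +kernel
theorem rel54x1 : allFrom (chkRelF cfg relsL) (nat_lit 204) (nat_lit 88387) = true := by decide +kernel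
theorem rel54x2 : allFrom (chkRelF cfg relsL) (nat_lit 204) (nat_lit 88591) = true := by decide +kernel
theorem rel54x3 : allFrom (chkRelF cfg relsL) (nat_lit 204) (nat_lit 88795) = true := by decide +kernel
theorem rel54x4 : allFrom (chkRelF cfg relsL) (nat_lit 204) (nat_lit 88999) = true := by decide +kernel
theorem rel54x5 : allFrom (chkRelF cfg relsL) (nat_lit 204) (nat_lit 89203) = true := by decide +kernel
theorem rel54x6 : allFrom (chkRelF cfg relsL) (nat_lit 204) (nat_lit 89407) = true := by decide +kernel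
theorem rel54x7 : allFrom (chkRelF cfg relsL) (nat_lit 204) (nat_lit 89611) = true := by decide +kernel
theorem rel54c1 : allFrom (chkRelF cfg relsL) (nat_lit 409) (nat_lit 88182) = true := join rel54x0 rel54x1 rfl rfl
theorem rel54c2 : allFrom (chkRelF cfg relsL) (nat_lit 613) (nat_lit 88182) = true := join rel54c1 rel54x2 rfl rfl
theorem rel54c3 : allFrom (chkRelF cfg relsL) (nat_lit 817) (nat_lit 88182) = true := join rel54c2 rel54x3 rfl rfl
theorem rel54c4 : allFrom (chkRelF cfg relsL) (nat_lit 1021) (nat_lit 88182) = true := join rel54c3 rel54x4 rfl rfl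
theorem rel54c5 : allFrom (chkRelF cfg relsL) (nat_lit 1225) (nat_lit 88182) = true := join rel54c4 rel54x5 rfl rfl
theorem rel54c6 : allFrom (chkRelF cfg relsL) (nat_lit 1429) (nat_lit 88182) = true := join rel54c5 rel54x6 rfl rfl
theorem rel54 : allFrom (chkRelF cfg relsL) (nat_lit 1633) (nat_lit 88182) = true := join rel54c6 rel54x7 rfl rfl

end Cfsg.Agent.Lib.Compute.TC.Fi24a
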