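-- Certificate checks for Fi24a.
import Cfsg.Agent.Lib.Compute.TC.Fi24a.Data
import Cfsg.Agent.Lib.Compute.TCSplit
set_option autoImplicit false
set_option Elab.async false
set_option maxRecDepth 1000000

open Cfsg.Agent.Lib.Compute.ToddCoxeterCore Cfsg.Agent.Lib.Compute.ToddCoxeterPresented Cfsg.Agent.Lib.Compute.TCFast

open Cfsg.Agent.Lib.Compute.TCSplit

namespace Cfsg.Agent.Lib.Compute.TC.Fi24a

theorem rel65x0 : allFrom (chkRelF cfg relsL) (nat_lit 205) (nat_lit 106145) = true := by decide +kernel
theorem rel65x1 : allFrom (chkRelF cfg relsL) (nat_lit 204) (nat_lit 106350) = true := by decide +kernel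
theorem rel65x2 : allFrom (chkRelF cfg relsL) (nat_lit 204) (nat_lit 106554) = true := by decide +kernel
theorem rel65x3 : allFrom (chkRelF cfg relsL) (nat_lit 204) (nat_lit 106758) = true := by decide +kernel
theorem rel65x4 : allFrom (chkRelF cfg relsL) (nat_lit 204) (nat_lit 106962) = true := by decide +kernel
theorem rel65x5 : allFrom (chkRelF cfg relsL) (nat_lit 204) (nat_lit 107166) = true := by decide +kernel
theorem rel65x6 : allFrom (chkRelF cfg relsL) (nat_lit 204) (nat_lit 107370) = true := by decide +kernel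
theorem rel65x7 : allFrom (chkRelF cfg relsL) (nat_lit 204) (nat_lit 107574) = true := by decide +kernel
theorem rel65c1 : allFrom (chkRelF cfg relsL) (nat_lit 409) (nat_lit 106145) = true := join rel65x0 rel65x1 rfl rfl
theorem rel65c2 : allFrom (chkRelF cfg relsL) (nat_lit 613) (nat_lit 106145) = true := join rel65c1 rel65x2 rfl rfl
theorem rel65c3 : allFrom (chkRelF cfg relsL) (nat_lit 817) (nat_lit 106145) = true := join rel65c2 rel65x3 rfl rfl
theorem rel65c4 : allFrom (chkRelF cfg relsL) (nat_lit 1021) (nat_lit 106145) = true := join rel65c3 rel65x4 rfl rfl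
theorem rel65c5 : allFrom (chkRelF cfg relsL) (nat_lit 1225) (nat_lit 106145) = true := join rel65c4 rel65x5 rfl rfl
theorem rel65c6 : allFrom (chkRelF cfg relsL) (nat_lit 1429) (nat_lit 106145) = true := join rel65c5 rel65x6 rfl rfl
theorem rel65 : allFrom (chkRelF cfg relsL) (nat_lit 1633) (nat_lit 106145) = true := join rel65c6 rel65x7 rfl rfl

end Cfsg.Agent.Lib.Compute.TC.Fi24a
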