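-- Certificate checks for Fi24a.
import Cfsg.Agent.Lib.Compute.TC.Fi24a.Data
import Cfsg.Agent.Lib.Compute.TCSplit
set_option autoImplicit false
set_option Elab.async false
set_option maxRecDepth 1000000

open Cfsg.Agent.Lib.Compute.ToddCoxeterCore Cfsg.Agent.Lib.Compute.ToddCoxeterPresented Cfsg.Agent.Lib.Compute.TCFast

open Cfsg.Agent.Lib.Compute.TCSplit

namespace Cfsg.Agent.Lib.Compute.TC.Fi24a

theorem rel76x0 : allFrom (chkRelF cfg relsL) (nat_lit 205) (nat_lit 124108) = true := by decide +kernel
theorem rel76x1 : allFrom (chkRelF cfg relsL) (nat_lit 204) (nat_lit 124313) = true := by decide +kernel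
theorem rel76x2 : allFrom (chkRelF cfg relsL) (nat_lit 204) (nat_lit 124517) = true := by decide +kernel
theorem rel76x3 : allFrom (chkRelF cfg relsL) (nat_lit 204) (nat_lit 124721) = true := by decide +kernel
theorem rel76x4 : allFrom (chkRelF cfg relsL) (nat_lit 204) (nat_lit 124925) = true := by decide +kernel
theorem rel76x5 : allFrom (chkRelF cfg relsL) (nat_lit 204) (nat_lit 125129) = true := by decide +kernel
theorem rel76x6 : allFrom (chkRelF cfg relsL) (nat_lit 204) (nat_lit 125333) = true := by decide +kernel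
theorem rel76x7 : allFrom (chkRelF cfg relsL) (nat_lit 204) (nat_lit 125537) = true := by decide +kernel
theorem rel76c1 : allFrom (chkRelF cfg relsL) (nat_lit 409) (nat_lit 124108) = true := join rel76x0 rel76x1 rfl rfl
theorem rel76c2 : allFrom (chkRelF cfg relsL) (nat_lit 613) (nat_lit 124108) = true := join rel76c1 rel76x2 rfl rfl
theorem rel76c3 : allFrom (chkRelF cfg relsL) (nat_lit 817) (nat_lit 124108) = true := join rel76c2 rel76x3 rfl rfl
theorem rel76c4 : allFrom (chkRelF cfg relsL) (nat_lit 1021) (nat_lit 124108) = true := join rel76c3 rel76x4 rfl rfl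
theorem rel76c5 : allFrom (chkRelF cfg relsL) (nat_lit 1225) (nat_lit 124108) = true := join rel76c4 rel76x5 rfl rfl
theorem rel76c6 : allFrom (chkRelF cfg relsL) (nat_lit 1429) (nat_lit 124108) = true := join rel76c5 rel76x6 rfl rfl
theorem rel76 : allFrom (chkRelF cfg relsL) (nat_lit 1633) (nat_lit 124108) = true := join rel76c6 rel76x7 rfl rfl

end Cfsg.Agent.Lib.Compute.TC.Fi24a
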