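-- Certificate checks for Fi24a.
import Cfsg.Agent.Lib.Compute.TC.Fi24a.Data
import Cfsg.Agent.Lib.Compute.TCSplit
set_option autoImplicit false
set_option Elab.async false
set_option maxRecDepth 1000000

open Cfsg.Agent.Lib.Compute.ToddCoxeterCore Cfsg.Agent.Lib.Compute.ToddCoxeterPresented Cfsg.Agent.Lib.Compute.TCFast

open Cfsg.Agent.Lib.Compute.TCSplit

namespace Cfsg.Agent.Lib.Compute.TC.Fi24a

theorem rel87x0 : allFrom (chkRelF cfg relsL) (nat_lit 205) (nat_lit 142071) = true := by decide +kernel
theorem rel87x1 : allFrom (chkRelF cfg relsL) (nat_lit 204) (nat_lit 142276) = true := by decide +kernel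
theorem rel87x2 : allFrom (chkRelF cfg relsL) (nat_lit 204) (nat_lit 142480) = true := by decide +kernel
theorem rel87x3 : allFrom (chkRelF cfg relsL) (nat_lit 204) (nat_lit 142684) = true := by decide +kernel
theorem rel87x4 : allFrom (chkRelF cfg relsL) (nat_lit 204) (nat_lit 142888) = true := by decide +kernel
theorem rel87x5 : allFrom (chkRelF cfg relsL) (nat_lit 204) (nat_lit 143092) = true := by decide +kernel
theorem rel87x6 : allFrom (chkRelF cfg relsL) (nat_lit 204) (nat_lit 143296) = true := by decide +kernel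
theorem rel87x7 : allFrom (chkRelF cfg relsL) (nat_lit 204) (nat_lit 143500) = true := by decide +kernel
theorem rel87c1 : allFrom (chkRelF cfg relsL) (nat_lit 409) (nat_lit 142071) = true := join rel87x0 rel87x1 rfl rfl
theorem rel87c2 : allFrom (chkRelF cfg relsL) (nat_lit 613) (nat_lit 142071) = true := join rel87c1 rel87x2 rfl rfl
theorem rel87c3 : allFrom (chkRelF cfg relsL) (nat_lit 817) (nat_lit 142071) = true := join rel87c2 rel87x3 rfl rfl
theorem rel87c4 : allFrom (chkRelF cfg relsL) (nat_lit 1021) (nat_lit 142071) = true := join rel87c3 rel87x4 rfl rfl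
theorem rel87c5 : allFrom (chkRelF cfg relsL) (nat_lit 1225) (nat_lit 142071) = true := join rel87c4 rel87x5 rfl rfl
theorem rel87c6 : allFrom (chkRelF cfg relsL) (nat_lit 1429) (nat_lit 142071) = true := join rel87c5 rel87x6 rfl rfl
theorem rel87 : allFrom (chkRelF cfg relsL) (nat_lit 1633) (nat_lit 142071) = true := join rel87c6 rel87x7 rfl rfl

end Cfsg.Agent.Lib.Compute.TC.Fi24a
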