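-- Certificate checks for Fi24a.
import Cfsg.Agent.Lib.Compute.TC.Fi24a.Data
import Cfsg.Agent.Lib.Compute.TCSplit
set_option autoImplicit false
set_option Elab.async false
set_option maxRecDepth 1000000

open Cfsg.Agent.Lib.Compute.ToddCoxeterCore Cfsg.Agent.Lib.Compute.ToddCoxeterPresented Cfsg.Agent.Lib.Compute.TCFast

open Cfsg.Agent.Lib.Compute.TCSplit

namespace Cfsg.Agent.Lib.Compute.TC.Fi24a

theorem rel98x0 : allFrom (chkRelF cfg relsL) (nat_lit 205) (nat_lit 160034) = true := by decide +kernel
theorem rel98x1 : allFrom (chkRelF cfg relsL) (nat_lit 204) (nat_lit 160239) = true := by decide +kernel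
theorem rel98x2 : allFrom (chkRelF cfg relsL) (nat_lit 204) (nat_lit 160443) = true := by decide +kernel
theorem rel98x3 : allFrom (chkRelF cfg relsL) (nat_lit 204) (nat_lit 160647) = true := by decide +kernel
theorem rel98x4 : allFrom (chkRelF cfg relsL) (nat_lit 204) (nat_lit 160851) = true := by decide +kernel
theorem rel98x5 : allFrom (chkRelF cfg relsL) (nat_lit 204) (nat_lit 161055) = true := by decide +kernel
theorem rel98x6 : allFrom (chkRelF cfg relsL) (nat_lit 204) (nat_lit 161259) = true := by decide +kernel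
theorem rel98x7 : allFrom (chkRelF cfg relsL) (nat_lit 204) (nat_lit 161463) = true := by decide +kernel
theorem rel98c1 : allFrom (chkRelF cfg relsL) (nat_lit 409) (nat_lit 160034) = true := join rel98x0 rel98x1 rfl rfl
theorem rel98c2 : allFrom (chkRelF cfg relsL) (nat_lit 613) (nat_lit 160034) = true := join rel98c1 rel98x2 rfl rfl
theorem rel98c3 : allFrom (chkRelF cfg relsL) (nat_lit 817) (nat_lit 160034) = true := join rel98c2 rel98x3 rfl rfl
theorem rel98c4 : allFrom (chkRelF cfg relsL) (nat_lit 1021) (nat_lit 160034) = true := join rel98c3 rel98x4 rfl rfl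
theorem rel98c5 : allFrom (chkRelF cfg relsL) (nat_lit 1225) (nat_lit 160034) = true := join rel98c4 rel98x5 rfl rfl
theorem rel98c6 : allFrom (chkRelF cfg relsL) (nat_lit 1429) (nat_lit 160034) = true := join rel98c5 rel98x6 rfl rfl
theorem rel98 : allFrom (chkRelF cfg relsL) (nat_lit 1633) (nat_lit 160034) = true := join rel98c6 rel98x7 rfl rfl

end Cfsg.Agent.Lib.Compute.TC.Fi24a
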